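import Groth.Agent.GrpSchLib.HomSplitLocus
import Groth.Agent.GrpSchLib.MultTypeBC
import Groth.Agent.TransLib.MultEssFree
import Mathlib.LinearAlgebra.FreeModule.Finite.Basic
import Mathlib.RingTheory.FiniteType

/-!
# Basic facts on tori and groups of multiplicative type
-/

universe u

open CategoryTheory CategoryTheory.Limits MonoidalCategory CartesianMonoidalCategory MonObj AlgebraicGeometry

namespace Groth.Agent.Sga3xB

open GrpSchLib GrpSchLib.HomSplitLocal GrpSchLib.HomMonoLocus

variable {S : Scheme.{u}}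

/-- A torus is of multiplicative type. -/
theorem isMultTypeFT_of_isTorus {T : Over S} [GrpObj T] (hT : Red.IsTorus T) : SGA3x.IsMultTypeFT T := by
  obtain ⟨S', f, hf, hs, hqc, hloc⟩ := hT
  refine ⟨S', f, hf, hs, hqc, fun s => ?_⟩
  obtain ⟨U, hU, r, he⟩ := hloc s
  exact ⟨U, hU, Fin r → ℤ, inferInstance, inferInstance, he⟩

theorem locally_of_isMultTypeFT {H : Over S} [GrpObj H] (hH : SGA3x.IsMultTypeFT H) :
    TwC.Locally S TwC.Topology.fpqc (fun S' g => ∃ (M : Type) (_ : AddCommGroup M),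
      Nonempty (Grp.mk (Red.bc g H) ≅ Grp.mk (Red.DS S' M))) := by
  obtain ⟨S', f, hf, hs, hqc, hloc⟩ := hH
  exact ⟨S', f, hf, hs, hqc, fun s' => by
    obtain ⟨U, hU, M, iM, -, e⟩ := hloc s'
    exact ⟨U, hU, M, iM, e⟩⟩

theorem isAffineHom_of_isMultTypeFT {H : Over S} [GrpObj H] (hH : SGA3x.IsMultTypeFT H) : IsAffineHom H.hom :=
  (TransLib.multTypeFT_essFree hH).1

/-- Over a field, a homomorphism of diagonalisable groups is given by a map of characters `φ`; it is a monomorphism
exactly when `φ` is onto, and faithfully flat exactly when `φ` is injective. -/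
theorem exists_phi_field {H Q : Over S} [GrpObj H] [GrpObj Q] (u : H ⟶ Q) [IsMonHom u]
    {K : Type u} [Field K] (β : Spec (CommRingCat.of K) ⟶ S) {MH MQ : Type} [AddCommGroup MH] [AddCommGroup MQ]
    [AddGroup.FG MQ] (eH : Grp.mk (Red.bc β H) ≅ Grp.mk (Red.DS _ MH))
    (eQ : Grp.mk (Red.bc β Q) ≅ Grp.mk (Red.DS _ MQ)) :
    ∃ φ : MQ →+ MH, (Inj u β ↔ Function.Surjective φ) ∧ (Ff u β ↔ Function.Injective φ) := by
  obtain ⟨χH, hHnat, hHmul, hHbij⟩ := SubgroupFactor.exists_char (β := β) β eH (𝟙 _) (Category.id_comp _)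
  obtain ⟨χQ, hQnat, hQmul, hQbij⟩ := SubgroupFactor.exists_char (β := β) β eQ (𝟙 _) (Category.id_comp _)
  haveI : (⊥ : Ideal K).IsPrime := Ideal.isPrime_bot
  obtain ⟨d, hd, φ, hφ⟩ := exists_phi_near u χH hHnat hHmul χQ hQnat hQmul hQbij (⊥ : Ideal K)
  have hd' : IsUnit (algebraMap K K d) := IsUnit.mk0 _ (fun h => hd (by simpa using h))
  obtain ⟨h1, h2, h3, h4⟩ := HomSplitLocus.tests (β := β) hHnat hHmul hHbij hQnat hQmul hQbij hφ K hd'
  have hβ : Spec.map (CommRingCat.ofHom (algebraMap K K)) ≫ β = β := by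
    rw [Algebra.algebraMap_self, CommRingCat.ofHom_id, Spec.map_id, Category.id_comp]
  rw [hβ] at h1 h2 h3 h4
  exact ⟨φ, ⟨h4 inferInstance, h3⟩, ⟨h2 inferInstance, h1⟩⟩

theorem surjective_fin_injective {r : ℕ} (φ : (Fin r → ℤ) →+ (Fin r → ℤ)) (h : Function.Surjective φ) :
    Function.Injective φ :=
  OrzechProperty.injective_of_surjective_endomorphism φ.toIntLinearMap h

/-- A monomorphism is faithfully flat on a fibre as soon as it is so after a field extension. -/
theorem ff_residueField_of_geomPt {H Q : Over S} [GrpObj H] [GrpObj Q] (u : H ⟶ Q) [IsMonHom u] (s : S)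
    (h : Ff u (Red.geomPt s)) : Ff u (S.fromSpecResidueField s) := by
  have hf : Flat (Spec.map (CommRingCat.ofHom (algebraMap (S.residueField s) (AlgebraicClosure (S.residueField s))))) := by
    rw [HasRingHomProperty.Spec_iff (P := @Flat)]
    exact RingHom.flat_algebraMap_iff.mpr inferInstance
  have hs : Surjective (Spec.map (CommRingCat.ofHom (algebraMap (S.residueField s) (AlgebraicClosure (S.residueField s))))) :=
    ⟨fun x => ⟨IsLocalRing.closedPoint _, Subsingleton.elim (α := PrimeSpectrum (S.residueField s)) _ _⟩⟩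
  exact Ff.of_flat_surjective _ h

end Groth.Agent.Sga3xB
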