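import Groth.Agent.Sga3xB.SubImage
import Groth.Agent.GrpSchLib.MultTypeComm
import Groth.Agent.S16611
import Mathlib.LinearAlgebra.Dimension.Constructions

/-!
# Locally split subtori of groups of multiplicative type
-/

set_option autoImplicit false
set_option linter.style.haveILetI false

universe u

open CategoryTheory CategoryTheory.Limits AlgebraicGeometry MonoidalCategory CartesianMonoidalCategory MonObj GrpObj

noncomputable section

namespace Groth.Agent.Sga3xB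

open Groth.Agent.Red23Lib.Pinned Groth.Agent.GrpSchLib

variable {S : Scheme.{u}}

/-- Locally on the base a split torus. -/
def LocSplit (X : Over S) [GrpObj X] : Prop :=
  ∀ s : S, ∃ U : S.Opens, s ∈ U ∧ ∃ r : ℕ, Red.IsSplitTorusWith (Fin r → ℤ) (Red.bc U.ι X)

/-- The geometric fibre at `s` is a split torus of rank `r`. -/
def HasRank (X : Over S) [GrpObj X] (s : S) (r : ℕ) : Prop :=
  Red.IsSplitTorusWith (Fin r → ℤ) (Red.geomFibre s X)

theorem isSplit_bc {X : Over S} [GrpObj X] {M : Type} [AddCommGroup M] {U V : Scheme.{u}} {t : U ⟶ S} {g : V ⟶ S}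
    (k : V ⟶ U) (hk : k ≫ t = g) (h : Red.IsSplitTorusWith M (Red.bc t X)) :
    Red.IsSplitTorusWith M (Red.bc g X) := by
  obtain ⟨e⟩ := h
  obtain ⟨e1⟩ := MultTypeBC.bc_bc k t X
  obtain ⟨e2⟩ := MultTypeBC.bc_congr hk X
  obtain ⟨e3⟩ := MultTypeBC.bc_iso k e
  exact ⟨e2.symm ≪≫ e1.symm ≪≫ e3 ≪≫ bcGrpIso k M⟩

theorem isSplit_bc_of_isSplit {X : Over S} [GrpObj X] {M : Type} [AddCommGroup M] {V : Scheme.{u}} (g : V ⟶ S)
    (h : Red.IsSplitTorusWith M X) : Red.IsSplitTorusWith M (Red.bc g X) := by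
  obtain ⟨e⟩ := h
  obtain ⟨e3⟩ := MultTypeBC.bc_iso g e
  exact ⟨e3 ≪≫ bcGrpIso g M⟩

theorem locSplit_of_isSplit {X : Over S} [GrpObj X] {r : ℕ} (h : Red.IsSplitTorusWith (Fin r → ℤ) X) : LocSplit X :=
  fun _ => ⟨⊤, trivial, r, isSplit_bc_of_isSplit _ h⟩

theorem hasRank_of_isSplit {X : Over S} [GrpObj X] {r : ℕ} (h : Red.IsSplitTorusWith (Fin r → ℤ) X) (s : S) :
    HasRank X s r :=
  isSplit_bc_of_isSplit _ h

theorem range_fieldPt {K : Type u} [Field K] (β : Spec (CommRingCat.of K) ⟶ S) :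
    Set.range β = {β (IsLocalRing.closedPoint K)} := by
  refine (Set.range_eq_singleton_iff).mpr fun x => ?_
  exact congrArg β (Subsingleton.elim (α := PrimeSpectrum K) x (IsLocalRing.closedPoint K))

theorem geomPt_apply (s : S) (x : Spec (CommRingCat.of (AlgebraicClosure (S.residueField s)))) :
    Red.geomPt s x = s := by
  rw [Red.geomPt, Scheme.Hom.comp_apply, Scheme.fromSpecResidueField_apply]

theorem isSplit_fieldPt {X : Over S} [GrpObj X] {r : ℕ} {K : Type u} [Field K] (β : Spec (CommRingCat.of K) ⟶ S)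
    (U : S.Opens) (hU : ∀ x, β x ∈ U) (h : Red.IsSplitTorusWith (Fin r → ℤ) (Red.bc U.ι X)) :
    Red.IsSplitTorusWith (Fin r → ℤ) (Red.bc β X) := by
  have hr : Set.range β ⊆ Set.range U.ι := by
    rintro _ ⟨x, rfl⟩
    rw [Scheme.Opens.range_ι]
    exact hU x
  exact isSplit_bc (IsOpenImmersion.lift U.ι β hr) (IsOpenImmersion.lift_fac U.ι β hr) h

theorem exists_hasRank {X : Over S} [GrpObj X] (hX : LocSplit X) (s : S) : ∃ r, HasRank X s r := by
  obtain ⟨U, hs, r, h⟩ := hX s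
  exact ⟨r, isSplit_fieldPt _ U (fun x => by rwa [geomPt_apply]) h⟩

/-- A monomorphism into a group split over a field bounds the rank. -/
theorem rank_le {T G : Over S} [GrpObj T] [GrpObj G] (j : T ⟶ G) [IsMonHom j] [Mono j] {K : Type u} [Field K]
    (β : Spec (CommRingCat.of K) ⟶ S) {r : ℕ} {M : Type} [AddCommGroup M] [AddGroup.FG M]
    (hT : Red.IsSplitTorusWith (Fin r → ℤ) (Red.bc β T)) (hG : Nonempty (Grp.mk (Red.bc β G) ≅ Grp.mk (Red.DS _ M))) :
    r ≤ Module.finrank ℤ M := by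
  obtain ⟨eT⟩ := hT
  obtain ⟨eG⟩ := hG
  obtain ⟨φ, hinj, -⟩ := exists_phi_field j β eT eG
  haveI := Over.mono_left_of_mono ((Over.pullback β).map j)
  have hφ : Function.Surjective φ := hinj.mp (HomMonoLocus.inj_of_mono inferInstance)
  haveI : Module.Finite ℤ M := Module.Finite.iff_addGroup_fg.mpr ‹_›
  have h := LinearMap.finrank_le_finrank_of_surjective (f := φ.toIntLinearMap) hφ
  simpa using h

theorem hasRank_unique {X : Over S} [GrpObj X] {s : S} {r r' : ℕ} (h : HasRank X s r) (h' : HasRank X s r') :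
    r = r' :=
  le_antisymm (by simpa using rank_le (𝟙 X) (Red.geomPt s) (M := Fin r' → ℤ) h h')
    (by simpa using rank_le (𝟙 X) (Red.geomPt s) (M := Fin r → ℤ) h' h)

theorem hasRank_mono {T T' : Over S} [GrpObj T] [GrpObj T'] (g : T ⟶ T') [IsMonHom g] [Mono g] {s : S} {r r' : ℕ}
    (h : HasRank T s r) (h' : HasRank T' s r') : r ≤ r' := by
  simpa using rank_le g (Red.geomPt s) (M := Fin r' → ℤ) h h'

theorem isTorus_of_locSplit {X : Over S} [GrpObj X] (hX : LocSplit X) : Red.IsTorus X :=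
  ⟨S, 𝟙 S, inferInstance, inferInstance, fun V hV => ⟨V, hV.isCompact, by simp⟩, fun s => by
    obtain ⟨U, hs, r, h⟩ := hX s
    exact ⟨U, hs, r, isSplit_bc (𝟙 _) (by simp) h⟩⟩

theorem isIso_of_mono_of_rank_le {T T' : Over S} [GrpObj T] [GrpObj T'] (hT : LocSplit T) (hT' : LocSplit T')
    (g : T ⟶ T') [IsMonHom g] [Mono g] (h : ∀ s r r', HasRank T s r → HasRank T' s r' → r' ≤ r) : IsIso g :=
  Groth.Agent.S16611.result (isTorus_of_locSplit hT) (isTorus_of_locSplit hT') g fun s => by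
    obtain ⟨r, hr⟩ := exists_hasRank hT s
    obtain ⟨r', hr'⟩ := exists_hasRank hT' s
    obtain rfl : r = r' := le_antisymm (hasRank_mono g hr hr') (h s r r' hr hr')
    exact ⟨r, hr, hr'⟩

/-- The rank is constant on a connected base. -/
theorem exists_rank_of_connected [ConnectedSpace ↥S] {X : Over S} [GrpObj X] (hX : LocSplit X) :
    ∃ r, ∀ s, HasRank X s r := by
  let s0 : S := Classical.arbitrary _
  obtain ⟨r, hr⟩ := exists_hasRank hX s0
  have hop : ∀ k, IsOpen {s | HasRank X s k} := fun k => by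
    refine isOpen_iff_forall_mem_open.mpr fun s hs => ?_
    obtain ⟨U, hU, k', h⟩ := hX s
    have hk : ∀ t ∈ U, HasRank X t k' := fun t ht => isSplit_fieldPt _ U (fun x => by rwa [geomPt_apply]) h
    obtain rfl := hasRank_unique hs (hk s hU)
    exact ⟨U, hk, U.2, hU⟩
  have hclop : IsClopen {s | HasRank X s r} := by
    refine ⟨isOpen_compl_iff.mp ?_, hop r⟩
    have e : {s | HasRank X s r}ᶜ = ⋃ k ∈ {k | k ≠ r}, {s | HasRank X s k} := by
      ext s
      simp only [Set.mem_compl_iff, Set.mem_setOf_eq, Set.mem_iUnion, exists_prop]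
      refine ⟨fun h => ?_, fun ⟨k, hk, h⟩ h' => hk (hasRank_unique h h')⟩
      obtain ⟨k, hk⟩ := exists_hasRank hX s
      exact ⟨k, fun e => h (e ▸ hk), hk⟩
    rw [e]
    exact isOpen_biUnion fun k _ => hop k
  exact ⟨r, fun s => Set.eq_univ_iff_forall.mp (hclop.eq_univ ⟨s0, hr⟩) s⟩

/-- Ranks of locally split subtori are bounded at each point. -/
theorem exists_rank_bound {G : Over S} [GrpObj G] (hG : SGA3x.IsMultTypeFT G) (s : S) :
    ∃ N : ℕ, ∀ (T : Over S) [GrpObj T] (j : T ⟶ G) [IsMonHom j] [Mono j] (r : ℕ),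
      LocSplit T → HasRank T s r → r ≤ N := by
  obtain ⟨S', f, -, hsurj, -, hloc⟩ := hG
  obtain ⟨s', rfl⟩ := hsurj.surj s
  obtain ⟨U', hs', M, iM, hM, ⟨e⟩⟩ := hloc s'
  let x : (U' : Scheme.{u}) := ⟨s', hs'⟩
  let K := (U' : Scheme.{u}).residueField x
  let β : Spec K ⟶ S := (U' : Scheme.{u}).fromSpecResidueField x ≫ U'.ι ≫ f
  have hβ : ∀ z, β z = f.base s' := fun z => by
    show (U'.ι ≫ f) ((U' : Scheme.{u}).fromSpecResidueField x z) = _
    rw [Scheme.fromSpecResidueField_apply]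
    rfl
  refine ⟨Module.finrank ℤ M, fun T _ j _ _ r hT hr => ?_⟩
  obtain ⟨U, hU, k, hk⟩ := hT (f.base s')
  obtain rfl := hasRank_unique hr (isSplit_fieldPt _ U (fun z => by rwa [geomPt_apply]) hk)
  obtain ⟨e1⟩ := MultTypeBC.bc_bc ((U' : Scheme.{u}).fromSpecResidueField x) (U'.ι ≫ f) G
  obtain ⟨e2⟩ := MultTypeBC.bc_iso ((U' : Scheme.{u}).fromSpecResidueField x) e
  exact rank_le j (K := K) β (isSplit_fieldPt β U (fun z => by erw [hβ]; exact hU) hk)
    ⟨e1.symm ≪≫ e2 ≪≫ bcGrpIso _ M⟩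

section Prod

variable {A B : Type} [AddCommGroup A] [AddCommGroup B]

variable (S A B) in
/-- `D(A × B) → D(A) × D(B)`. -/
def pairHom : Red.DS S (A × B) ⟶ Red.DS S A ⊗ Red.DS S B :=
  lift (Red.DSmap S (AddMonoidHom.inl A B)) (Red.DSmap S (AddMonoidHom.inr A B))

variable (S A B) in
/-- `D(A) × D(B) → D(A × B)`. -/
def pairInv : Red.DS S A ⊗ Red.DS S B ⟶ Red.DS S (A × B) :=
  (fst _ _ ≫ Red.DSmap S (AddMonoidHom.fst A B)) * (snd _ _ ≫ Red.DSmap S (AddMonoidHom.snd A B))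

theorem pairInv_pairHom : pairInv S A B ≫ pairHom S A B = 𝟙 _ := by
  refine CartesianMonoidalCategory.hom_ext _ _ ?_ ?_
  · rw [Category.assoc, pairHom, lift_fst, Category.id_comp]
    refine dsCh_ext fun a => ?_
    rw [dsCh_DSmap, pairInv, dsCh_mul, dsCh_DSmap, dsCh_DSmap]
    simp [dsCh_zero]
  · rw [Category.assoc, pairHom, lift_snd, Category.id_comp]
    refine dsCh_ext fun a => ?_
    rw [dsCh_DSmap, pairInv, dsCh_mul, dsCh_DSmap, dsCh_DSmap]
    simp [dsCh_zero]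

theorem pairHom_pairInv : pairHom S A B ≫ pairInv S A B = 𝟙 _ := by
  refine dsCh_ext fun m => ?_
  rw [pairInv, MonObj.comp_mul, dsCh_mul, ← Category.assoc, ← Category.assoc, pairHom, lift_fst, lift_snd,
    dsCh_DSmap, dsCh_DSmap, ← Category.id_comp (Red.DSmap S (AddMonoidHom.inl A B)),
    ← Category.id_comp (Red.DSmap S (AddMonoidHom.inr A B)), dsCh_DSmap, dsCh_DSmap, ← dsCh_add]
  simp

theorem isMonHom_lift {X Y Z : Over S} [GrpObj X] [GrpObj Y] [GrpObj Z] (a : Z ⟶ X) (b : Z ⟶ Y) [IsMonHom a]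
    [IsMonHom b] : IsMonHom (lift a b) := by
  refine ⟨?_, ?_⟩
  · refine CartesianMonoidalCategory.hom_ext _ _ ?_ ?_
    · rw [Category.assoc, lift_fst, IsMonHom.one_hom (f := a), IsMonHom.one_hom (f := fst X Y)]
    · rw [Category.assoc, lift_snd, IsMonHom.one_hom (f := b), IsMonHom.one_hom (f := snd X Y)]
  · refine CartesianMonoidalCategory.hom_ext _ _ ?_ ?_
    · rw [Category.assoc, lift_fst, IsMonHom.mul_hom (f := a), Category.assoc, IsMonHom.mul_hom (f := fst X Y)]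
      simp [tensorHom_comp_tensorHom_assoc]
    · rw [Category.assoc, lift_snd, IsMonHom.mul_hom (f := b), Category.assoc, IsMonHom.mul_hom (f := snd X Y)]
      simp [tensorHom_comp_tensorHom_assoc]

variable (S A B) in
/-- `D(A × B) ≅ D(A) × D(B)` as groups. -/
def pairIso : Grp.mk (Red.DS S (A × B)) ≅ Grp.mk (Red.DS S A ⊗ Red.DS S B) :=
  haveI : IsMonHom (⟨pairHom S A B, pairInv S A B, pairHom_pairInv, pairInv_pairHom⟩ : _ ≅ _).hom :=
    haveI := isMonHom_DSmap (S := S) (AddMonoidHom.inl A B)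
    haveI := isMonHom_DSmap (S := S) (AddMonoidHom.inr A B)
    isMonHom_lift _ _
  Grp.mkIso' (⟨pairHom S A B, pairInv S A B, pairHom_pairInv, pairInv_pairHom⟩ : _ ≅ _)

theorem dsGrpIso (e : A ≃+ B) : Nonempty (Grp.mk (Red.DS S B) ≅ Grp.mk (Red.DS S A)) := by
  let i : Red.DS S B ≅ Red.DS S A := ⟨Red.DSmap S e.toAddMonoidHom, Red.DSmap S e.symm.toAddMonoidHom,
    dsCh_ext fun m => by
      rw [dsCh_DSmap, ← Category.id_comp (Red.DSmap S e.toAddMonoidHom), dsCh_DSmap]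
      simp,
    dsCh_ext fun m => by
      rw [dsCh_DSmap, ← Category.id_comp (Red.DSmap S e.symm.toAddMonoidHom), dsCh_DSmap]
      simp⟩
  haveI : IsMonHom i.hom := isMonHom_DSmap (S := S) e.toAddMonoidHom
  exact ⟨Grp.mkIso' i⟩

end Prod

theorem locDS_of_locSplit {X : Over S} [GrpObj X] (hX : LocSplit X) :
    LocDS (fun M _ => IsAddTorsionFree M) X := fun s => by
  obtain ⟨U, hs, r, h⟩ := hX s
  exact ⟨U, U.ι, inferInstance, Fin r → ℤ, inferInstance, ⟨⟨s, hs⟩, rfl⟩, inferInstance, inferInstance, h⟩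

theorem locSplit_of_locDS {X : Over S} [GrpObj X] (hX : LocDS (fun M _ => IsAddTorsionFree M) X) : LocSplit X :=
  fun s => by
  obtain ⟨U, t, ht, M, iM, hs, hM, hMfg, ⟨e⟩⟩ := hX s
  haveI : IsAddTorsionFree M := hM
  haveI : Module.Finite ℤ M := Module.Finite.iff_addGroup_fg.mpr hMfg
  obtain ⟨e'⟩ := dsGrpIso (S := U) (Module.finBasis ℤ M).equivFun.toAddEquiv.symm
  refine ⟨t.opensRange, hs, Module.finrank ℤ M, isSplit_bc t.isoOpensRange.inv ?_ ⟨e ≪≫ e'⟩⟩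
  rw [Iso.inv_comp_eq, Scheme.Hom.isoOpensRange_hom_ι]

/-- The product of two locally split tori is one. -/
theorem locDS_tensor {X Y : Over S} [GrpObj X] [GrpObj Y] (hX : LocSplit X) (hY : LocSplit Y) :
    LocDS (fun M _ => IsAddTorsionFree M) (X ⊗ Y) := fun s => by
  obtain ⟨U₁, h₁, r₁, hs₁⟩ := hX s
  obtain ⟨U₂, h₂, r₂, hs₂⟩ := hY s
  let U := U₁ ⊓ U₂
  obtain ⟨e₁⟩ := isSplit_bc (S.homOfLE (inf_le_left : U ≤ U₁)) (S.homOfLE_ι _) hs₁
  obtain ⟨e₂⟩ := isSplit_bc (S.homOfLE (inf_le_right : U ≤ U₂)) (S.homOfLE_ι _) hs₂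
  haveI : IsMonHom e₁.hom.hom.hom := e₁.hom.hom.isMonHom_hom
  haveI : IsMonHom e₂.hom.hom.hom := e₂.hom.hom.isMonHom_hom
  haveI : IsIso e₁.hom.hom.hom := inferInstanceAs (IsIso ((Grp.forget _).mapIso e₁).hom)
  haveI : IsIso e₂.hom.hom.hom := inferInstanceAs (IsIso ((Grp.forget _).mapIso e₂).hom)
  let c : Red.bc U.ι (X ⊗ Y) ⟶ Red.bc U.ι X ⊗ Red.bc U.ι Y :=
    lift ((Over.pullback U.ι).map (fst X Y)) ((Over.pullback U.ι).map (snd X Y))
  haveI : IsIso c := inferInstanceAs (IsIso (CartesianMonoidalCategory.prodComparison (Over.pullback U.ι) X Y))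
  haveI : IsMonHom c := isMonHom_lift _ _
  let d : Red.bc U.ι (X ⊗ Y) ⟶ Red.DS U (Fin r₁ → ℤ) ⊗ Red.DS U (Fin r₂ → ℤ) :=
    c ≫ (e₁.hom.hom.hom ⊗ₘ e₂.hom.hom.hom)
  haveI : IsMonHom (asIso d).hom := by
    show IsMonHom (c ≫ (e₁.hom.hom.hom ⊗ₘ e₂.hom.hom.hom))
    infer_instance
  exact ⟨U, U.ι, inferInstance, (Fin r₁ → ℤ) × (Fin r₂ → ℤ), inferInstance, ⟨⟨s, h₁, h₂⟩, rfl⟩, inferInstance,
    inferInstance, ⟨Grp.mkIso' (asIso d) ≪≫ (pairIso _ _ _).symm⟩⟩

/-- A product of homomorphisms into a commutative group is a homomorphism. -/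
theorem isMonHom_mul {X G : Over S} [GrpObj X] [GrpObj G] (hG : ∀ (Y : Over S) (a b : Y ⟶ G), a * b = b * a)
    (a b : X ⟶ G) [IsMonHom a] [IsMonHom b] : IsMonHom (a * b) := by
  refine ⟨?_, ?_⟩
  · rw [MonObj.one_eq_one, MonObj.one_eq_one, MonObj.comp_mul, MonObj.one_comp a, MonObj.one_comp b]
    exact _root_.mul_one _
  · rw [MonObj.mul_eq_mul, MonObj.comp_mul, MonObj.mul_comp _ _ a, MonObj.mul_comp _ _ b, MonObj.mul_eq_mul,
      MonObj.comp_mul, tensorHom_fst, tensorHom_snd, MonObj.comp_mul, MonObj.comp_mul]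
    rw [_root_.mul_assoc, ← _root_.mul_assoc (snd X X ≫ a), hG _ (snd X X ≫ a) (fst X X ≫ b), _root_.mul_assoc,
      ← _root_.mul_assoc]

/-- Any two locally split subtori lie in a third, onto which their product surjects. -/
theorem exists_ge_of_two {G : Over S} [GrpObj G] (hG : SGA3x.IsMultTypeFT G) {E₁ E₂ : Over S} [GrpObj E₁] [GrpObj E₂]
    (j₁ : E₁ ⟶ G) [IsMonHom j₁] (j₂ : E₂ ⟶ G) [IsMonHom j₂] (h₁ : LocSplit E₁) (h₂ : LocSplit E₂) :
    ∃ (E₃ : Over S) (_ : GrpObj E₃) (j₃ : E₃ ⟶ G) (g₁ : E₁ ⟶ E₃) (g₂ : E₂ ⟶ E₃), IsMonHom j₃ ∧ Mono j₃ ∧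
      IsMonHom g₁ ∧ IsMonHom g₂ ∧ LocSplit E₃ ∧ g₁ ≫ j₃ = j₁ ∧ g₂ ≫ j₃ = j₂ := by
  haveI := isAffineHom_of_isMultTypeFT hG
  haveI := MultTransp18.lfp_multTypeFT hG
  haveI := isAffineHom_of_isMultTypeFT (isMultTypeFT_of_isTorus (isTorus_of_locSplit h₁))
  haveI := isAffineHom_of_isMultTypeFT (isMultTypeFT_of_isTorus (isTorus_of_locSplit h₂))
  haveI : QuasiCompact (pullback.fst E₁.hom E₂.hom) := inferInstance
  haveI : QuasiCompact (E₁ ⊗ E₂).hom := inferInstanceAs (QuasiCompact (pullback.fst E₁.hom E₂.hom ≫ E₁.hom))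
  haveI := isMonHom_mul (fun Y a b => MultTypeComm.points_comm hG a b) (fst E₁ E₂ ≫ j₁) (snd E₁ E₂ ≫ j₂)
  obtain ⟨E, sE, p, j, hp, hj, hpj, hcl, -, -, hE⟩ :=
    exists_image (fun M _ => IsAddTorsionFree M) (fun M _ L h => haveI : IsAddTorsionFree M := h; inferInstance)
      (locDS_tensor h₁ h₂) ((fst E₁ E₂ ≫ j₁) * (snd E₁ E₂ ≫ j₂))
  haveI : Mono j := Over.mono_of_mono_left j
  haveI := hj
  haveI := hp
  let i₁ : E₁ ⟶ E₁ ⊗ E₂ := lift (𝟙 E₁) 1
  let i₂ : E₂ ⟶ E₁ ⊗ E₂ := lift 1 (𝟙 E₂)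
  have e₁ : (i₁ ≫ p) ≫ j = j₁ := by
    rw [Category.assoc, hpj, MonObj.comp_mul, ← Category.assoc, ← Category.assoc, lift_fst, lift_snd,
      Category.id_comp, MonObj.one_comp j₂, _root_.mul_one]
  have e₂ : (i₂ ≫ p) ≫ j = j₂ := by
    rw [Category.assoc, hpj, MonObj.comp_mul, ← Category.assoc, ← Category.assoc, lift_fst, lift_snd,
      Category.id_comp, MonObj.one_comp j₁, _root_.one_mul]
  exact ⟨E, sE, j, i₁ ≫ p, i₂ ≫ p, hj, inferInstance,
    isMonHom_of_comp_mono _ j (e₁ ▸ inferInstance), isMonHom_of_comp_mono _ j (e₂ ▸ inferInstance),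
    locSplit_of_locDS hE, e₁, e₂⟩

/-- A factorisation over the whole base is one over `S`. -/
theorem descend_top {M : Type} [AddCommGroup M] {G : Over S} [GrpObj G] {u : Red.DS S M ⟶ G} [IsMonHom u]
    {V : S.Opens} (hV : V = ⊤) (L : AddSubgroup M) (h : Red.DS V L ⟶ Red.bc V.ι G) [IsMonHom h] [Mono h]
    (hfac : Red.DSmap V L.subtype ≫ h = restrict u V.ι) :
    ∃ h' : Red.DS S L ⟶ G, IsMonHom h' ∧ Mono h' ∧ Red.DSmap S L.subtype ≫ h' = u := by
  subst hV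
  haveI := isMonHom_DSmap (S := S) L.subtype
  haveI := isMonHom_DSmap (S := S) (QuotientAddGroup.mk' L)
  have h0 : restrict (Red.DSmap S (QuotientAddGroup.mk' L) ≫ u) (⊤ : S.Opens).ι = 1 := by
    rw [← DSmap_restrict, ← hfac, ← Category.assoc]
    have : Red.DSmap (⊤ : S.Opens) (QuotientAddGroup.mk' L) ≫ Red.DSmap (⊤ : S.Opens) L.subtype = 1 := by
      rw [← DSmap_comp, show (QuotientAddGroup.mk' L).comp L.subtype = 0 from
        AddMonoidHom.ext fun l => (QuotientAddGroup.eq_zero_iff _).mpr l.2, DSmap_zero]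
    rw [this]
    exact MonObj.one_comp h
  have h1 : (Over.pullback (⊤ : S.Opens).ι).map (Red.DSmap S (QuotientAddGroup.mk' L) ≫ u) = 1 := by
    have := congrArg (fun z => bcHom (⊤ : S.Opens).ι (M ⧸ L) ≫ z) h0
    simp only [restrict, bcHom_bcInv_assoc, MonObj.comp_one] at this
    exact this
  have h2 : Red.DSmap S (QuotientAddGroup.mk' L) ≫ u = 1 := by
    have e : S.topIso.inv ≫ (⊤ : S.Opens).ι = 𝟙 S := by rw [← Scheme.topIso_hom, Iso.inv_hom_id]
    have ht := (HomUnitLocus.triv_of_map_eq_one h1).comp S.topIso.inv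
    rw [e] at ht
    have := ht _ (Over.homMk (Red.DS S (M ⧸ L)).hom (Category.comp_id _)) (𝟙 _)
    rwa [Category.id_comp] at this
  obtain ⟨h', hh', hf⟩ := exists_desc u L h2
  haveI := hh'
  have e : restrict h' (⊤ : S.Opens).ι = h := by
    haveI := (covers_DSmap (S := ((⊤ : S.Opens) : Scheme.{u})) L.subtype L.subtype_injective).over_epi
    rw [← cancel_epi (Red.DSmap (⊤ : S.Opens) L.subtype), DSmap_restrict, hf, hfac]
  refine ⟨h', hh', mono_of_inj h' (inj_id_of_top (HomMonoLocus.inj_of_mono ?_) rfl), hf⟩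
  haveI : IsIso (bcHom (⊤ : S.Opens).ι L) := (bcIso (⊤ : S.Opens).ι L).isIso_hom
  have e' : (Over.pullback (⊤ : S.Opens).ι).map h' = bcHom (⊤ : S.Opens).ι L ≫ h := by
    rw [← e, restrict, bcHom_bcInv_assoc]
  haveI : Mono ((Over.pullback (⊤ : S.Opens).ι).map h') := by rw [e']; infer_instance
  exact Over.mono_left_of_mono _

/-- The trivial subtorus. -/
theorem exists_trivial_subtorus (G : Over S) [GrpObj G] :
    ∃ j : Red.DS S (Fin 0 → ℤ) ⟶ G, IsMonHom j ∧ Mono j ∧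
      Red.IsSplitTorusWith (Fin 0 → ℤ) (Red.DS S (Fin 0 → ℤ)) := by
  refine ⟨1, ⟨by rw [MonObj.one_eq_one, MonObj.comp_one, MonObj.one_eq_one],
    by rw [MonObj.mul_eq_mul, MonObj.comp_one, MonObj.mul_eq_mul, MonObj.comp_mul, tensorHom_fst, tensorHom_snd,
      MonObj.comp_one, MonObj.comp_one, _root_.mul_one]⟩, ⟨fun a b _ => ?_⟩, ⟨Iso.refl _⟩⟩
  exact dsCh_ext fun m => by rw [Subsingleton.elim m 0, dsCh_zero, dsCh_zero]

/-- Over a connected base two split subtori lie in a third. -/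
theorem exists_split_ge_of_two [ConnectedSpace ↥S] {G : Over S} [GrpObj G] (hG : SGA3x.IsMultTypeFT G)
    {T T' : Over S} [GrpObj T] [GrpObj T'] (j : T ⟶ G) [IsMonHom j] (j' : T' ⟶ G) [IsMonHom j'] {r r' : ℕ}
    (hT : Red.IsSplitTorusWith (Fin r → ℤ) T) (hT' : Red.IsSplitTorusWith (Fin r' → ℤ) T') :
    ∃ (E : Over S) (_ : GrpObj E) (k : E ⟶ G) (g₁ : T ⟶ E) (g₂ : T' ⟶ E) (q : ℕ), IsMonHom k ∧ Mono k ∧
      IsMonHom g₁ ∧ Red.IsSplitTorusWith (Fin q → ℤ) E ∧ g₁ ≫ k = j ∧ g₂ ≫ k = j' := by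
  obtain ⟨eT⟩ := hT
  obtain ⟨eT'⟩ := hT'
  haveI : IsMonHom eT.inv.hom.hom := eT.inv.hom.isMonHom_hom
  haveI : IsMonHom eT.hom.hom.hom := eT.hom.hom.isMonHom_hom
  haveI : IsMonHom eT'.inv.hom.hom := eT'.inv.hom.isMonHom_hom
  haveI : IsMonHom eT'.hom.hom.hom := eT'.hom.hom.isMonHom_hom
  haveI := isAffineHom_of_isMultTypeFT hG
  haveI := MultTransp18.lfp_multTypeFT hG
  let A := Fin r → ℤ
  let B := Fin r' → ℤ
  haveI := isMonHom_DSmap (S := S) (AddMonoidHom.inl A B)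
  haveI := isMonHom_DSmap (S := S) (AddMonoidHom.inr A B)
  haveI := isMonHom_DSmap (S := S) (AddMonoidHom.fst A B)
  haveI := isMonHom_DSmap (S := S) (AddMonoidHom.snd A B)
  haveI := isMonHom_mul (fun Y a b => MultTypeComm.points_comm hG a b)
    (Red.DSmap S (AddMonoidHom.inl A B) ≫ eT.inv.hom.hom ≫ j)
    (Red.DSmap S (AddMonoidHom.inr A B) ≫ eT'.inv.hom.hom ≫ j')
  obtain ⟨V, hsV, hVc, L, h, hh, hhm, hfac⟩ := exists_clopen_image
    ((Red.DSmap S (AddMonoidHom.inl A B) ≫ eT.inv.hom.hom ≫ j) *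
      (Red.DSmap S (AddMonoidHom.inr A B) ≫ eT'.inv.hom.hom ≫ j')) (Classical.arbitrary _)
  have hV : V = ⊤ := SetLike.coe_injective
    ((IsClopen.eq_univ ⟨hVc, V.2⟩ ⟨_, hsV⟩).trans (TopologicalSpace.Opens.coe_top).symm)
  obtain ⟨h', hh', hhm', hfac'⟩ := descend_top hV L h hfac
  haveI := hh'
  haveI := hhm'
  haveI := addGroupFG_subgroup L
  haveI : Module.Finite ℤ L := Module.Finite.iff_addGroup_fg.mpr inferInstance
  obtain ⟨eL⟩ := dsGrpIso (S := S) (Module.finBasis ℤ L).equivFun.toAddEquiv.symm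
  haveI := isMonHom_DSmap (S := S) L.subtype
  refine ⟨Red.DS S L, inferInstance, h',
    eT.hom.hom.hom ≫ Red.DSmap S (AddMonoidHom.fst A B) ≫ Red.DSmap S L.subtype,
    eT'.hom.hom.hom ≫ Red.DSmap S (AddMonoidHom.snd A B) ≫ Red.DSmap S L.subtype,
    _, hh', hhm', inferInstance, ⟨eL⟩, ?_, ?_⟩
  · have e1 : Red.DSmap S (AddMonoidHom.fst A B) ≫ Red.DSmap S (AddMonoidHom.inl A B) = 𝟙 _ := by
      rw [← DSmap_comp, ← DSmap_id]
      rfl
    have e2 : Red.DSmap S (AddMonoidHom.fst A B) ≫ Red.DSmap S (AddMonoidHom.inr A B) = 1 := by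
      rw [← DSmap_comp, ← DSmap_zero]
      rfl
    have e3 : eT.hom.hom.hom ≫ eT.inv.hom.hom = 𝟙 T := ((Grp.forget _).mapIso eT).hom_inv_id
    rw [Category.assoc, Category.assoc, hfac', MonObj.comp_mul, ← Category.assoc, ← Category.assoc (Red.DSmap S _), e1,
      e2, Category.id_comp, MonObj.one_comp (eT'.inv.hom.hom ≫ j'), _root_.mul_one, ← Category.assoc, e3,
      Category.id_comp]
  · have e1 : Red.DSmap S (AddMonoidHom.snd A B) ≫ Red.DSmap S (AddMonoidHom.inr A B) = 𝟙 _ := by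
      rw [← DSmap_comp, ← DSmap_id]
      rfl
    have e2 : Red.DSmap S (AddMonoidHom.snd A B) ≫ Red.DSmap S (AddMonoidHom.inl A B) = 1 := by
      rw [← DSmap_comp, ← DSmap_zero]
      rfl
    have e3 : eT'.hom.hom.hom ≫ eT'.inv.hom.hom = 𝟙 T' := ((Grp.forget _).mapIso eT').hom_inv_id
    rw [Category.assoc, Category.assoc, hfac', MonObj.comp_mul, ← Category.assoc, e2,
      MonObj.one_comp (eT.inv.hom.hom ≫ j), _root_.one_mul, ← Category.assoc (Red.DSmap S _), e1, Category.id_comp,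
      ← Category.assoc, e3, Category.id_comp]

end Groth.Agent.Sga3xB

end
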