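import Groth.Agent.Sga3xB.ImageSep
import Groth.Agent.Sga3xB.MultBasic
import Groth.Agent.Sga3xB.Subtori
import Groth.Agent.FpqcDescLib.Closed
import Groth.Agent.EtFound.Descent

/-!
# Images of groups of multiplicative type of arbitrary type in separated groups of finite presentation

The scheme-theoretic image is a closed subgroup of multiplicative type and finite type, and the map onto it is
faithfully flat; it is the only such factorisation.
-/

set_option autoImplicit false
set_option linter.style.haveILetI false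
set_option backward.isDefEq.respectTransparency.types false

universe u

open CategoryTheory CategoryTheory.Limits AlgebraicGeometry MonoidalCategory CartesianMonoidalCategory MonObj GrpObj

noncomputable section

namespace Groth.Agent.Sga3xB

open Groth.Agent.Red23Lib.Pinned Groth.Agent.GrpSchLib
open HomSplitLocal (Ff)

variable {S : Scheme.{u}}

/-- The local structure of an image: near `v` it is a closed diagonalisable subgroup of finite type, covered. -/
theorem exists_chart_sep {M : Type} [AddCommGroup M] {X E G : Over S} [GrpObj X] [GrpObj G]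
    [IsSeparated G.hom] [QuasiCompact G.hom] [LocallyOfFinitePresentation G.hom] (p : X ⟶ E) (j : E ⟶ G)
    [IsClosedImmersion j.left] [IsSchemeTheoreticallyDominant p.left] [QuasiCompact p.left] [IsMonHom (p ≫ j)]
    (eX : Grp.mk X ≅ Grp.mk (Red.DS S M)) (v : S) :
    ∃ V : S.Opens, v ∈ V ∧ IsClosed (V : Set S) ∧ ∃ L : AddSubgroup M, L.FG ∧ ∃ a : Red.bc V.ι E ≅ Red.DS V L,
      Flat ((Over.pullback V.ι).map p).left ∧ Surjective ((Over.pullback V.ι).map p).left ∧
      ∃ h : Red.DS V L ⟶ Red.bc V.ι G, IsMonHom h ∧ Mono h ∧ a.hom ≫ h = (Over.pullback V.ι).map j := by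
  let ψ : X ≅ Red.DS S M := (Grp.forget _).mapIso eX
  haveI : IsMonHom eX.hom.hom.hom := eX.hom.hom.isMonHom_hom
  haveI : IsMonHom eX.inv.hom.hom := eX.inv.hom.isMonHom_hom
  haveI : IsMonHom ψ.inv := ‹IsMonHom eX.inv.hom.hom›
  obtain ⟨V, hvV, hVc, L, hL, h, hh, hci, hfac⟩ := exists_clopen_image_sep (ψ.inv ≫ p ≫ j) v
  haveI := hh
  haveI := hci
  haveI : Mono h := Over.mono_of_mono_left h
  haveI := isClosedImmersion_map j V.ι
  haveI := isSchemeTheoreticallyDominant_map p V.ι
  let ψ' : Red.bc V.ι X ≅ Red.DS V M := (Over.pullback V.ι).mapIso ψ ≪≫ bcIso V.ι M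
  let r : Red.bc V.ι X ⟶ Red.DS V L := ψ'.hom ≫ Red.DSmap V L.subtype
  haveI : IsIso ψ'.hom.left := inferInstanceAs (IsIso ((Over.forget _).mapIso ψ').hom)
  have hrh : r ≫ h = (Over.pullback V.ι).map p ≫ (Over.pullback V.ι).map j := by
    show (ψ'.hom ≫ Red.DSmap V L.subtype) ≫ h = _
    rw [Category.assoc, hfac, restrict, ← Functor.map_comp]
    show ((Over.pullback V.ι).map ψ.hom ≫ bcHom V.ι M) ≫ bcInv V.ι M ≫ _ = _
    rw [Category.assoc, bcHom_bcInv_assoc, ← Functor.map_comp, ψ.hom_inv_id_assoc]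
  obtain ⟨a, ha, hqa⟩ := exists_iso_of_dom _ _ r
    (covers_iso_comp ψ'.hom.left (covers_DSmap _ L.subtype_injective)) h hrh
  have hq : (Over.pullback V.ι).map p = ψ'.hom ≫ Red.DSmap V L.subtype ≫ a.inv := by
    rw [← Category.assoc]
    exact (Iso.eq_comp_inv a).mpr hqa
  obtain ⟨_, _⟩ := flat_surjective_DSmap (S := (V : Scheme.{u})) L.subtype L.subtype_injective
  haveI : IsIso a.inv.left := inferInstanceAs (IsIso ((Over.forget _).mapIso a).inv)
  exact ⟨V, hvV, hVc, L, hL, a, by rw [hq, Over.comp_left, Over.comp_left]; infer_instance,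
    by rw [hq, Over.comp_left, Over.comp_left]; infer_instance, h, hh, inferInstance, ha⟩

/-- A group which is diagonalisable locally on a covering of the base is affine over the base. -/
theorem isAffineHom_of_locally {X : Over S} [GrpObj X] {S' : Scheme.{u}} (l : S' ⟶ S) (hl : FpqcDescLib.Covers l)
    (hX : ∀ s' : S', ∃ U : S'.Opens, s' ∈ U ∧ ∃ (M : Type) (_ : AddCommGroup M),
      Nonempty (Grp.mk (Red.bc (U.ι ≫ l) X) ≅ Grp.mk (Red.DS U M))) : IsAffineHom X.hom := by
  choose U hU M iM e using hX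
  let 𝒰 : S'.OpenCover := openCoverOfMem (fun s' => (U s').ι) (fun _ => inferInstance)
    fun s' => ⟨⟨s', hU s'⟩, rfl⟩
  have h1 : IsAffineHom (pullback.snd X.hom l) := by
    refine IsZariskiLocalAtTarget.of_openCover (P := (@IsAffineHom : MorphismProperty Scheme.{u})) 𝒰 fun i => ?_
    obtain ⟨e'⟩ := e i
    let ε := (Grp.forget _).mapIso e'
    have h2 : IsAffineHom (pullback.snd X.hom ((U i).ι ≫ l)) :=
      (MorphismProperty.arrow_mk_iso_iff (@IsAffineHom : MorphismProperty Scheme.{u})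
        (Arrow.isoMk (f := Arrow.mk (pullback.snd X.hom ((U i).ι ≫ l))) (g := Arrow.mk (Red.DS (U i) (M i)).hom)
          ((Over.forget _).mapIso ε) (Iso.refl _) (by
            simp only [Arrow.mk_hom, Iso.refl_hom, Category.comp_id]
            exact Over.w ε.hom))).mpr isAffineHom_DS
    exact (MorphismProperty.arrow_mk_iso_iff (@IsAffineHom : MorphismProperty Scheme.{u})
      (Arrow.isoMk (HomSplitLocal.isPullback_baseMap X (U i).ι l).isoPullback (Iso.refl _)
        (by
          simp only [Arrow.mk_hom, Iso.refl_hom, Category.comp_id]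
          exact (HomSplitLocal.isPullback_baseMap X (U i).ι l).isoPullback_hom_snd))).mp h2
  haveI := Groth.Agent.EtFound.fpqc_isAffineHom.{u}
  exact hl.descends (@IsAffineHom : MorphismProperty Scheme.{u}) X.hom (pullback.snd X.hom l) (pullback.fst X.hom l)
    (IsPullback.of_hasPullback X.hom l).flip h1

/-- The image of a homomorphism into a separated group of finite presentation. -/
theorem exists_image_sep (P : ∀ (M : Type) [AddCommGroup M], Prop)
    (hP : ∀ (M : Type) [AddCommGroup M] (L : AddSubgroup M), P M → P L)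
    {X G : Over S} [GrpObj X] [GrpObj G] [IsSeparated G.hom] [QuasiCompact G.hom] [LocallyOfFinitePresentation G.hom]
    {S' : Scheme.{u}} (l : S' ⟶ S) [Flat l] [Surjective l] (hl : FpqcDescLib.Covers l)
    (hX : ∀ s' : S', ∃ U : S'.Opens, s' ∈ U ∧ ∃ (M : Type) (_ : AddCommGroup M), P M ∧
      Nonempty (Grp.mk (Red.bc (U.ι ≫ l) X) ≅ Grp.mk (Red.DS U M)))
    (u : X ⟶ G) [IsMonHom u] :
    ∃ (E : Over S) (_ : GrpObj E) (p : X ⟶ E) (j : E ⟶ G), IsMonHom p ∧ IsMonHom j ∧ p ≫ j = u ∧
      IsClosedImmersion j.left ∧ Flat p.left ∧ Surjective p.left ∧ IsSchemeTheoreticallyDominant p.left ∧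
      ∀ s' : S', ∃ V : S'.Opens, s' ∈ V ∧ ∃ (L : Type) (_ : AddCommGroup L), P L ∧ AddGroup.FG L ∧
        Nonempty (Grp.mk (Red.bc (V.ι ≫ l) E) ≅ Grp.mk (Red.DS V L)) := by
  haveI : IsAffineHom X.hom := isAffineHom_of_locally l hl fun s' => by
    obtain ⟨U, hU, M, iM, -, e⟩ := hX s'
    exact ⟨U, hU, M, iM, e⟩
  haveI : QuasiCompact (u.left ≫ G.hom) := by rw [Over.w u]; infer_instance
  haveI : QuasiCompact u.left := QuasiCompact.of_comp u.left G.hom
  let E : Over S := Over.mk (u.left.imageι ≫ G.hom)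
  let p : X ⟶ E := Over.homMk u.left.toImage (by
    show u.left.toImage ≫ u.left.imageι ≫ G.hom = X.hom
    rw [Scheme.Hom.toImage_imageι_assoc, Over.w u])
  let j : E ⟶ G := Over.homMk u.left.imageι rfl
  have hpj : p ≫ j = u := Over.OverMorphism.ext u.left.toImage_imageι
  haveI : IsMonHom (p ≫ j) := hpj.symm ▸ ‹IsMonHom u›
  haveI hj : IsClosedImmersion j.left := inferInstanceAs (IsClosedImmersion u.left.imageι)
  haveI hdom : IsSchemeTheoreticallyDominant p.left := isSchemeTheoreticallyDominant_toImage u.left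
  haveI : QuasiCompact p.left := inferInstanceAs (QuasiCompact u.left.toImage)
  have hch : ∀ s' : S', ∃ V : S'.Opens, s' ∈ V ∧ Ff p (V.ι ≫ l) ∧
      ∀ (_ : GrpObj E), IsMonHom j → ∃ (L : Type) (_ : AddCommGroup L), P L ∧ AddGroup.FG L ∧
        Nonempty (Grp.mk (Red.bc (V.ι ≫ l) E) ≅ Grp.mk (Red.DS V L)) := by
    intro s'
    obtain ⟨U, hU, M, iM, hM, ⟨eX⟩⟩ := hX s'
    let t := U.ι ≫ l
    haveI : Flat t := inferInstance
    haveI := isSchemeTheoreticallyDominant_map p t
    haveI := quasiCompact_map p t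
    haveI := isClosedImmersion_map j t
    haveI : IsMonHom ((Over.pullback t).map p ≫ (Over.pullback t).map j) := by
      rw [← Functor.map_comp]
      infer_instance
    haveI := isSeparated_bc G t
    haveI : QuasiCompact (Red.bc t G).hom :=
      MorphismProperty.of_isPullback (P := @QuasiCompact) (IsPullback.of_hasPullback G.hom t) ‹_›
    haveI : LocallyOfFinitePresentation (Red.bc t G).hom :=
      MorphismProperty.of_isPullback (P := @LocallyOfFinitePresentation) (IsPullback.of_hasPullback G.hom t) ‹_›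
    obtain ⟨V, hV, -, L, hL, a, hfl, hsu, h, hh, hhm, ha⟩ :=
      exists_chart_sep ((Over.pullback t).map p) ((Over.pullback t).map j) eX ⟨s', hU⟩
    refine ⟨U.ι ''ᵁ V, ⟨⟨s', hU⟩, hV, rfl⟩, ?_, fun sE hjm => ?_⟩
    · rw [show (U.ι ''ᵁ V).ι ≫ l = (U.ι.isoImage V).inv ≫ V.ι ≫ t by rw [U.ι.isoImage_inv_ι_assoc]]
      exact ((ff_comp_iff p t V.ι).mp ⟨hfl, hsu⟩).comp _
    · letI := sE
      haveI := hjm
      haveI := hh
      haveI := hhm
      haveI : IsMonHom a.hom := isMonHom_of_comp_mono a.hom h (by rw [ha]; infer_instance)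
      haveI : AddGroup.FG L := (AddGroup.fg_iff_addSubgroup_fg L).mpr hL
      obtain ⟨e1⟩ := MultTypeBC.bc_bc V.ι t E
      exact ⟨L, inferInstance, hP M L hM, inferInstance,
        isSplit_bc (U.ι.isoImage V).inv (by rw [U.ι.isoImage_inv_ι_assoc]) ⟨e1.symm ≪≫ Grp.mkIso' a⟩⟩
  choose W hmem hff hiso using hch
  let 𝒰 : S'.OpenCover := openCoverOfMem (fun s' => (W s').ι) (fun _ => inferInstance) fun s' => ⟨⟨s', hmem s'⟩, rfl⟩
  have hffl : Ff p l := HomSplitLocus.ff_of_openCover 𝒰 hff
  have hff1 : Ff p (𝟙 S) := HomSplitLocal.Ff.of_flat_surjective l (by rwa [Category.comp_id])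
  obtain ⟨hpf, hps⟩ := ff_id hff1
  have hcov : FpqcDescLib.Covers p.left :=
    FpqcDescLib.covers_of_isCovering (FpqcDescLib.isCovering_of_quasiCompact _)
  haveI : Mono j := Over.mono_of_mono_left j
  obtain ⟨sE, hjm, hpm⟩ := exists_grp_image p j hcov
  exact ⟨E, sE, p, j, hpm, hjm, hpj, hj, hpf, hps, hdom, fun s' => ⟨W s', hmem s', hiso s' sE hjm⟩⟩

end Groth.Agent.Sga3xB

end
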