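import Mathlib.AlgebraicGeometry.Morphisms.FlatMono
import Mathlib.AlgebraicGeometry.Morphisms.Etale
import Mathlib.AlgebraicGeometry.Morphisms.IsIso

/-!
# Étale morphisms and surjective closed immersions

Morphisms into an étale scheme over the base extend uniquely along surjective closed immersions.
-/

universe u

set_option autoImplicit false
set_option linter.style.haveILetI false
set_option backward.isDefEq.respectTransparency false

open CategoryTheory CategoryTheory.Limits AlgebraicGeometry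

namespace Groth.Agent.Sga3xB

theorem eq_of_surjective_of_unramified {X₀ X U S : Scheme.{u}} (q : U ⟶ S) [FormallyUnramified q]
    [LocallyOfFiniteType q] (r : X₀ ⟶ X) [Surjective r] {a b : X ⟶ U} (h : a ≫ q = b ≫ q)
    (hr : r ≫ a = r ≫ b) : a = b := by
  let g : X ⟶ pullback q q := pullback.lift a b h
  haveI : IsOpenImmersion (pullback.fst g (pullback.diagonal q)) :=
    MorphismProperty.pullback_fst (P := @IsOpenImmersion) _ _ inferInstance
  let l : X₀ ⟶ pullback g (pullback.diagonal q) := pullback.lift r (r ≫ a) (by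
    apply pullback.hom_ext
    · simp [g]
    · simp [g, hr])
  haveI : Surjective (pullback.fst g (pullback.diagonal q)) := ⟨fun x => by
    obtain ⟨x₀, rfl⟩ := r.surjective x
    exact ⟨l x₀, by rw [← Scheme.Hom.comp_apply, pullback.lift_fst]⟩⟩
  haveI : IsIso (pullback.fst g (pullback.diagonal q)) :=
    (isIso_iff_isOpenImmersion_and_surjective _).mpr ⟨inferInstance, inferInstance⟩
  have e : g = inv (pullback.fst g (pullback.diagonal q)) ≫ pullback.snd g _ ≫ pullback.diagonal q := by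
    rw [IsIso.eq_inv_comp, pullback.condition]
  calc a = g ≫ pullback.fst q q := (pullback.lift_fst _ _ _).symm
    _ = g ≫ pullback.snd q q := by
      rw [e]; simp only [Category.assoc, pullback.diagonal_fst, pullback.diagonal_snd]
    _ = b := pullback.lift_snd _ _ _

theorem exists_lift_of_etale {T₀ T U S : Scheme.{u}} (q : U ⟶ S) [Etale q] (r : T₀ ⟶ T) [IsClosedImmersion r]
    [Surjective r] (t : T ⟶ S) (f₀ : T₀ ⟶ U) (w : f₀ ≫ q = r ≫ t) :
    ∃! f : T ⟶ U, f ≫ q = t ∧ r ≫ f = f₀ := by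
  let π : pullback t q ⟶ T := pullback.fst t q
  haveI : Etale π := MorphismProperty.pullback_fst _ _ ‹_›
  let σ : T₀ ⟶ pullback t q := pullback.lift r f₀ w.symm
  have hσ : σ ≫ π = r := pullback.lift_fst _ _ _
  let ρ : pullback π r ⟶ pullback t q := pullback.fst π r
  let p₀ : pullback π r ⟶ T₀ := pullback.snd π r
  haveI : Etale p₀ := MorphismProperty.pullback_snd _ _ ‹_›
  haveI : IsClosedImmersion ρ := MorphismProperty.pullback_fst _ _ ‹_›
  haveI : Surjective ρ := MorphismProperty.pullback_fst _ _ ‹_›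
  let σ₀ : T₀ ⟶ pullback π r := pullback.lift σ (𝟙 T₀) (by rw [hσ, Category.id_comp])
  have hσ₀ : σ₀ ≫ p₀ = 𝟙 T₀ := pullback.lift_snd _ _ _
  have hσρ : σ₀ ≫ ρ = σ := pullback.lift_fst _ _ _
  haveI : Mono σ₀ := mono_of_mono_fac hσ₀
  haveI : Etale σ₀ := by
    haveI : Etale (σ₀ ≫ p₀) := by rw [hσ₀]; infer_instance
    exact Etale.of_comp σ₀ p₀
  haveI : IsOpenImmersion σ₀ := IsOpenImmersion.of_flat_of_mono σ₀
  have hbij : Function.Bijective ρ.base := ⟨ρ.isClosedEmbedding.injective, ρ.surjective⟩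
  let V : (pullback t q).Opens := ⟨ρ.base '' (σ₀.opensRange : Set ↥(pullback π r)), by
    rw [← isClosed_compl_iff, ← Set.image_compl_eq hbij]
    exact ρ.isClosedEmbedding.isClosedMap _ (isClosed_compl_iff.mpr σ₀.opensRange.2)⟩
  have hσV : Set.range σ.base ⊆ Set.range V.ι.base := by
    rintro _ ⟨x, rfl⟩
    rw [Scheme.Opens.range_ι]
    exact ⟨σ₀ x, ⟨x, rfl⟩, by rw [← Scheme.Hom.comp_apply, hσρ]⟩
  let c : T₀ ⟶ V := IsOpenImmersion.lift V.ι σ hσV
  have hc : c ≫ V.ι = σ := IsOpenImmersion.lift_fac _ _ _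
  haveI : Surjective (V.ι ≫ π) := ⟨fun y => by
    obtain ⟨x, rfl⟩ := r.surjective y
    exact ⟨c x, by rw [← Scheme.Hom.comp_apply, reassoc_of% hc, hσ]⟩⟩
  haveI : Mono (V.ι ≫ π) := ⟨fun {X} a b hab => by
    let k := pullback.fst (a ≫ V.ι ≫ π) r
    haveI : Surjective k := MorphismProperty.pullback_fst _ _ ‹_›
    have key : ∀ d : X ⟶ (V : Scheme.{u}), d ≫ V.ι ≫ π = a ≫ V.ι ≫ π →
        k ≫ d ≫ V.ι = pullback.snd (a ≫ V.ι ≫ π) r ≫ σ := fun d hd => by
      let m : pullback (a ≫ V.ι ≫ π) r ⟶ pullback π r := pullback.lift (k ≫ d ≫ V.ι) (pullback.snd _ r) (by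
        simp only [Category.assoc, hd, k, pullback.condition])
      have hm : Set.range m.base ⊆ Set.range σ₀.base := by
        rintro _ ⟨z, rfl⟩
        have h1 : ρ (m z) ∈ V := by
          rw [← Scheme.Hom.comp_apply, show m ≫ ρ = k ≫ d ≫ V.ι from pullback.lift_fst _ _ _]
          exact ((k ≫ d) z).2
        obtain ⟨w, hw, hwe⟩ := h1
        rwa [← hbij.1 hwe]
      have e1 := IsOpenImmersion.lift_fac σ₀ m hm
      have e2 : IsOpenImmersion.lift σ₀ m hm = pullback.snd (a ≫ V.ι ≫ π) r := by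
        rw [← show m ≫ p₀ = pullback.snd (a ≫ V.ι ≫ π) r from pullback.lift_snd _ _ _]
        conv_rhs => rw [← e1, Category.assoc, hσ₀, Category.comp_id]
      rw [← show m ≫ ρ = k ≫ d ≫ V.ι from pullback.lift_fst _ _ _, ← e1, e2, Category.assoc, hσρ]
    refine eq_of_surjective_of_unramified (V.ι ≫ π) k hab ((cancel_mono V.ι).mp ?_)
    rw [Category.assoc, Category.assoc, key a rfl, key b hab.symm]⟩
  haveI : IsOpenImmersion (V.ι ≫ π) := IsOpenImmersion.of_flat_of_mono _
  haveI : IsIso (V.ι ≫ π) := (isIso_iff_isOpenImmersion_and_surjective _).mpr ⟨inferInstance, inferInstance⟩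
  refine ⟨inv (V.ι ≫ π) ≫ V.ι ≫ pullback.snd t q, ⟨?_, ?_⟩, fun f ⟨hf, hf'⟩ => ?_⟩
  · rw [Category.assoc, Category.assoc, ← pullback.condition, ← Category.assoc V.ι, IsIso.inv_hom_id_assoc]
  · rw [show r = c ≫ V.ι ≫ π by rw [reassoc_of% hc, hσ], Category.assoc, ← Category.assoc (V.ι ≫ π),
      IsIso.hom_inv_id, Category.id_comp, ← Category.assoc, hc, pullback.lift_snd]
  · refine eq_of_surjective_of_unramified q r ?_ ?_
    · rw [hf, Category.assoc, Category.assoc, ← pullback.condition, ← Category.assoc V.ι, IsIso.inv_hom_id_assoc]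
    · rw [hf', show r = c ≫ V.ι ≫ π by rw [reassoc_of% hc, hσ], Category.assoc,
        ← Category.assoc (V.ι ≫ π), IsIso.hom_inv_id, Category.id_comp, ← Category.assoc, hc, pullback.lift_snd]

/-- A morphism of schemes étale over the base which is an isomorphism on a dense closed subscheme is one. -/
theorem isIso_of_etale_of_surjective {T₀ U V S : Scheme.{u}} (qU : U ⟶ S) (qV : V ⟶ S) [Etale qU] [Etale qV]
    (φ : U ⟶ V) (w : φ ≫ qV = qU) (i : T₀ ⟶ U) (i' : T₀ ⟶ V) [IsClosedImmersion i'] [Surjective i'] [Surjective i]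
    (hi : i ≫ φ = i') : IsIso φ := by
  obtain ⟨ψ, ⟨hψ, hψ'⟩, -⟩ := exists_lift_of_etale qU i' qV i (by rw [← w, reassoc_of% hi])
  refine ⟨ψ, eq_of_surjective_of_unramified qU i ?_ ?_, eq_of_surjective_of_unramified qV i' ?_ ?_⟩
  · rw [Category.assoc, hψ, w, Category.id_comp]
  · rw [reassoc_of% hi, hψ', Category.comp_id]
  · rw [Category.assoc, w, hψ, Category.id_comp]
  · rw [reassoc_of% hψ', hi, Category.comp_id]

end Groth.Agent.Sga3xB
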