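import Groth.Agent.Sga3xB.DS
import Groth.Agent.Sga3xB.NilEtale
import Mathlib.Algebra.DualNumber
import Mathlib.GroupTheory.FiniteAbelian.Basic

/-!
# Finite étale groups of multiplicative type are killed, locally, by an invertible integer
-/

universe u

set_option autoImplicit false
set_option linter.style.haveILetI false


open CategoryTheory CategoryTheory.Limits AlgebraicGeometry MonoidalCategory CartesianMonoidalCategory MonObj GrpObj
open TopologicalSpace

noncomputable section

namespace Groth.Agent.Sga3xB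

open Groth.Agent.Red23Lib.Pinned Groth.Agent.GrpSchLib Groth.Agent.GrpSchLib.RankOne Groth.Agent.DSPtsLib

/-- A finitely generated abelian group without additive maps to a field is killed by an integer invertible
there. -/
theorem exists_killed_of_hom_zero {M : Type} [AddCommGroup M] [AddGroup.FG M] (K : Type u) [Field K]
    (h : ∀ φ : M →+ K, φ = 0) : ∃ N : ℕ, (N : K) ≠ 0 ∧ ∀ m : M, N • m = 0 := by
  classical
  obtain ⟨r, idx, hidx, p, hp, e, ⟨ψ⟩⟩ := AddCommGroup.equiv_free_prod_directSum_zmod M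
  haveI := hidx
  have hr : r = 0 := by
    by_contra hr
    let i : Fin r := ⟨0, Nat.pos_of_ne_zero hr⟩
    let φ : M →+ K := ((Int.castAddHom K).comp ((Finsupp.applyAddHom i).comp (AddMonoidHom.fst _ _))).comp ψ.toAddMonoidHom
    have h1 := DFunLike.congr_fun (h φ) (ψ.symm (Finsupp.single i 1, 0))
    simp [φ] at h1
  subst hr
  refine ⟨∏ i, p i ^ e i, fun h0 => ?_, fun m => ?_⟩
  · rw [Nat.cast_prod, Finset.prod_eq_zero_iff] at h0
    obtain ⟨i, -, hi⟩ := h0
    rw [Nat.cast_pow] at hi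
    have hei : e i ≠ 0 := by rintro h'; rw [h', pow_zero] at hi; exact one_ne_zero hi
    have hpi : (p i : K) = 0 := eq_zero_of_pow_eq_zero hi
    let red : ZMod (p i ^ e i) →+ ZMod (p i) := (ZMod.castHom (dvd_pow_self _ hei) (ZMod (p i))).toAddMonoidHom
    let emb : ZMod (p i) →+ K := ZMod.lift (p i) ⟨Int.castAddHom K, by simpa using hpi⟩
    let ev : (DirectSum idx fun i => ZMod (p i ^ e i)) →+ ZMod (p i ^ e i) := DFinsupp.evalAddMonoidHom i
    let φ : M →+ K := ((emb.comp red).comp (ev.comp (AddMonoidHom.snd _ _))).comp ψ.toAddMonoidHom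
    have h1 : φ (ψ.symm (0, DirectSum.of _ i 1)) = 0 := by rw [h φ]; rfl
    have h2 : φ (ψ.symm (0, DirectSum.of _ i 1)) = emb (red 1) := by
      show emb (red (ev (ψ (ψ.symm (0, DirectSum.of _ i 1))).2)) = _
      rw [AddEquiv.apply_symm_apply]
      exact congrArg (fun z => emb (red z)) (DirectSum.of_eq_same i _)
    have h3 : red 1 = ((1 : ℤ) : ZMod (p i)) := by rw [Int.cast_one]; exact map_one (ZMod.castHom (dvd_pow_self (p i) hei) (ZMod (p i)))
    rw [h2, h3, show emb ((1 : ℤ) : ZMod (p i)) = Int.castAddHom K 1 from ZMod.lift_coe _ _ _] at h1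
    simp at h1
  · apply ψ.injective
    rw [map_nsmul, map_zero]
    refine Prod.ext ?_ (DFinsupp.ext fun i => ?_)
    · ext j; exact j.elim0
    · rw [Prod.smul_snd, DirectSum.smul_apply, Prod.snd_zero]
      show _ • (ψ m).2 i = 0
      obtain ⟨c, hc⟩ : p i ^ e i ∣ ∏ j, p j ^ e j := Finset.dvd_prod_of_mem _ (Finset.mem_univ i)
      rw [hc, nsmul_eq_mul, Nat.cast_mul, ZMod.natCast_self, zero_mul, zero_mul]

variable {S : Scheme.{u}}

theorem dsCh_pow {M : Type} [AddCommGroup M] {X : Over S} (t : X ⟶ Red.DS S M) (n : ℕ) (m : M) :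
    dsCh (t ^ n) m = dsCh t (n • m) := by
  induction n with
  | zero => rw [pow_zero, zero_smul, dsCh_one, dsCh_zero]
  | succ n ih => rw [pow_succ, dsCh_mul, ih, succ_nsmul, dsCh_add]

/-- The additive character maps vanish on an étale diagonalisable group. -/
theorem hom_zero_of_etale {M : Type} [AddCommGroup M] [Etale (Red.DS S M).hom] {K : Type u} [Field K]
    (b : Spec (CommRingCat.of K) ⟶ S) (φ : M →+ K) : φ = 0 := by
  let D := DualNumber K
  let fs : D →+* K := (TrivSqZeroExt.fstHom K K K).toRingHom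
  let r : Spec (CommRingCat.of K) ⟶ Spec (CommRingCat.of D) := Spec.map (CommRingCat.ofHom fs)
  haveI : Surjective r := ⟨fun q => by
    refine ⟨⟨⊥, Ideal.isPrime_bot⟩, PrimeSpectrum.ext ?_⟩
    show Ideal.comap fs ⊥ = q.asIdeal
    refine (Ideal.IsMaximal.eq_of_le ?_ q.isPrime.ne_top fun x hx => ?_)
    · exact (RingHom.ker_isMaximal_of_surjective fs fun k => ⟨TrivSqZeroExt.inl k, rfl⟩)
    · have : IsNilpotent x := ⟨2, by
        rw [← TrivSqZeroExt.inl_fst_add_inr_snd_eq x, show TrivSqZeroExt.fst x = 0 from hx, TrivSqZeroExt.inl_zero,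
          zero_add, pow_two, TrivSqZeroExt.inr_mul_inr]⟩
      obtain ⟨n, hn⟩ := this
      exact q.isPrime.mem_of_pow_mem n (hn ▸ q.asIdeal.zero_mem)⟩
  let bD : Spec (CommRingCat.of D) ⟶ S :=
    Spec.map (CommRingCat.ofHom (TrivSqZeroExt.inlHom K K)) ≫ b
  have hr : r ≫ bD = b := by
    rw [← Category.assoc, ← Spec.map_comp, ← CommRingCat.ofHom_comp,
      show fs.comp (TrivSqZeroExt.inlHom K K) = RingHom.id K from RingHom.ext fun _ => rfl]
    simp
  let X : Over S := Over.mk bD
  let rX : Over.mk b ⟶ X := Over.homMk r hr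
  let u : Multiplicative M →* Dˣ :=
    { toFun := fun m => ⟨1 + TrivSqZeroExt.inr (φ m.toAdd), 1 - TrivSqZeroExt.inr (φ m.toAdd),
        by linear_combination (-1 : D) * TrivSqZeroExt.inr_mul_inr K (φ m.toAdd) (φ m.toAdd),
        by linear_combination (-1 : D) * TrivSqZeroExt.inr_mul_inr K (φ m.toAdd) (φ m.toAdd)⟩
      map_one' := Units.ext (by simp)
      map_mul' := fun m n => Units.ext (by
        simp only [Units.val_mul, toAdd_mul, map_add, TrivSqZeroExt.inr_add]
        linear_combination (-1 : D) * TrivSqZeroExt.inr_mul_inr K (φ m.toAdd) (φ n.toAdd)) }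
  let iso := (Scheme.ΓSpecIso (CommRingCat.of D)).inv.hom
  let χ : Multiplicative M →* (Γ(X.left, ⊤))ˣ := (Units.map iso.toMonoidHom).comp u
  have h1 : rX ≫ ofCh χ = rX ≫ 1 := by
    refine dsCh_ext fun m => Units.ext ?_
    rw [dsCh_comp', dsCh_comp', dsCh_ofCh, dsCh_one, map_one]
    show r.appTop (iso (u (Multiplicative.ofAdd m) : D)) = 1
    have e : ∀ z : D, r.appTop (iso z) = (Scheme.ΓSpecIso (CommRingCat.of K)).inv (fs z) := fun z =>
      (congrArg (fun q => q.hom z) (Scheme.ΓSpecIso_inv_naturality (CommRingCat.ofHom fs))).symm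
    rw [e, show fs (u (Multiplicative.ofAdd m) : D) = 1 by
      show TrivSqZeroExt.fst ((1 : D) + TrivSqZeroExt.inr (φ m)) = 1
      rw [TrivSqZeroExt.fst_add, TrivSqZeroExt.fst_one, TrivSqZeroExt.fst_inr, add_zero], map_one]
  have h2 : ofCh χ = 1 := Over.OverMorphism.ext (eq_of_surjective_of_unramified (Red.DS S M).hom r
    ((Over.w _).trans (Over.w _).symm) (congrArg CommaMorphism.left h1))
  refine AddMonoidHom.ext fun m => ?_
  have h3 := congrArg Units.val ((dsCh_ofCh χ m).symm.trans ((eq_one_iff_dsCh _).mp h2 m))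
  have h4 : iso (u (Multiplicative.ofAdd m) : D) = iso 1 := h3.trans (map_one iso).symm
  have h5 := congrArg TrivSqZeroExt.snd ((Scheme.ΓSpecIso (CommRingCat.of D)).symm.commRingCatIsoToRingEquiv.injective h4)
  change TrivSqZeroExt.snd ((1 : D) + TrivSqZeroExt.inr (φ m)) = TrivSqZeroExt.snd (1 : D) at h5
  rwa [TrivSqZeroExt.snd_add, TrivSqZeroExt.snd_one, TrivSqZeroExt.snd_inr, zero_add] at h5

theorem theta_pow {U : Scheme.{u}} {g : U ⟶ S} {H : Over S} [GrpObj H] {Y : Over U} (a : Y ⟶ Red.bc g H) (n : ℕ) :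
    theta g (a ^ n) = theta g a ^ n := by
  induction n with
  | zero =>
    rw [pow_zero, pow_zero]
    have h1 := theta_mul (g := g) (H := H) (1 : Y ⟶ Red.bc g H) 1
    rw [_root_.one_mul] at h1
    exact mul_eq_left.mp h1.symm
  | succ n ih => rw [pow_succ, pow_succ, theta_mul, ih]

theorem pow_eq_one_of_mono {A B : Over S} (gA : GrpObj A) (gB : GrpObj B) (ψ : A ⟶ B) (hψ : @IsMonHom _ _ _ A B gA.toMonObj gB.toMonObj ψ)
    [Mono ψ] (N : ℕ) (h : ∀ t : A ⟶ B, t ^ N = 1) : (𝟙 A : A ⟶ A) ^ N = 1 := by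
  haveI := hψ
  rw [← cancel_mono ψ, MonObj.pow_comp, MonObj.one_comp, Category.id_comp]
  exact h ψ

/-- Near any point a finite étale group of multiplicative type is killed by an integer invertible there. -/
theorem exists_killed_nhd {H : Over S} [GrpObj H] [IsFinite H.hom] [Etale H.hom] (hH : SGA3x.IsMultTypeFT H) (s : S) :
    ∃ (V : S.Opens) (N : ℕ), s ∈ V ∧ (∀ t ∈ V, (N : S.residueField t) ≠ 0) ∧
      ∀ (X : Over S) (x : X ⟶ H), Set.range X.hom.base ⊆ (V : Set S) → x ^ N = 1 := by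
  obtain ⟨S', f, -, hsurj, -, hloc⟩ := hH
  obtain ⟨s', hs'⟩ := hsurj.surj s
  obtain ⟨U', hsU', M, _, hM, ⟨ψ⟩⟩ := hloc s'
  haveI := hM
  let g : (U' : Scheme.{u}) ⟶ S := U'.ι ≫ f
  let ψh : Red.bc g H ⟶ Red.DS (U' : Scheme.{u}) M := ψ.hom.hom.hom
  haveI : IsIso ψh := (((Grp.forget _).mapIso ψ)).isIso_hom
  haveI : IsIso ψh.left := inferInstanceAs (IsIso ((Over.forget _).map ψh))
  haveI : Etale (Red.bc g H).hom := inferInstanceAs (Etale (pullback.snd H.hom g))
  haveI : Etale (Red.DS (U' : Scheme.{u}) M).hom := by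
    rw [show (Red.DS (U' : Scheme.{u}) M).hom = inv ψh.left ≫ (Red.bc g H).hom by
      rw [IsIso.eq_inv_comp, Over.w]]
    infer_instance
  let u' : (U' : Scheme.{u}) := ⟨s', hsU'⟩
  let K := (U' : Scheme.{u}).residueField u'
  obtain ⟨N, hNK, hNM⟩ := exists_killed_of_hom_zero (M := M) K
    (hom_zero_of_etale ((U' : Scheme.{u}).fromSpecResidueField u'))
  have hgs : g u' = s := (Scheme.Hom.comp_apply U'.ι f u').trans hs'
  have hN : (N : S.residueField s) ≠ 0 := fun h0 => hNK (by
    subst hgs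
    have := congrArg (g.residueFieldMap u').hom h0
    rwa [map_natCast, map_zero] at this)
  -- the power map is trivial after the base change
  have hpow : (𝟙 (Red.bc g H) : Red.bc g H ⟶ Red.bc g H) ^ N = 1 :=
    pow_eq_one_of_mono _ _ ψh (ψ.hom.hom.isMonHom_hom) N fun t => dsCh_ext fun m => by
      rw [dsCh_pow, hNM, dsCh_zero, dsCh_one]
  have hθ : theta g (𝟙 (Red.bc g H)) ≫ ((𝟙 H : H ⟶ H) ^ N) = theta g (𝟙 (Red.bc g H)) ≫ (1 : H ⟶ H) := by
    rw [MonObj.comp_pow, MonObj.comp_one, Category.comp_id, ← theta_pow, hpow]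
    simpa using theta_pow (g := g) (1 : Red.bc g H ⟶ Red.bc g H) 0
  -- the locus where it is trivial
  let d : H.left ⟶ pullback H.hom H.hom :=
    pullback.lift ((𝟙 H : H ⟶ H) ^ N).left (1 : H ⟶ H).left ((Over.w _).trans (Over.w _).symm)
  have hd1 : d ≫ pullback.fst H.hom H.hom = ((𝟙 H : H ⟶ H) ^ N).left := pullback.lift_fst _ _ _
  have hd2 : d ≫ pullback.snd H.hom H.hom = (1 : H ⟶ H).left := pullback.lift_snd _ _ _
  let e : pullback d (pullback.diagonal H.hom) ⟶ H.left := pullback.fst d (pullback.diagonal H.hom)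
  haveI : IsOpenImmersion e := MorphismProperty.pullback_fst (P := @IsOpenImmersion) _ _ inferInstance
  haveI : IsClosedImmersion e := by
    haveI : IsClosedImmersion (pullback.diagonal H.hom) := IsSeparated.isClosedImmersion_diagonal
    exact inferInstanceAs (IsClosedImmersion (pullback.fst d (pullback.diagonal H.hom)))
  let Z : Set H.left := Set.range e.base
  have hZo : IsOpen Z := e.isOpenEmbedding.isOpen_range
  have hZfib : ∀ h : H.left, H.hom h = s → h ∈ Z := fun h hh => by
    obtain ⟨z, hz, -⟩ := Scheme.Pullback.exists_preimage_pullback (f := H.hom) (g := g) h u' (hh.trans hgs.symm)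
    let l : (Red.bc g H).left ⟶ pullback d (pullback.diagonal H.hom) :=
      pullback.lift (pullback.fst H.hom g) (pullback.fst H.hom g ≫ ((𝟙 H : H ⟶ H) ^ N).left) (by
        apply pullback.hom_ext
        · rw [Category.assoc, hd1, Category.assoc, pullback.diagonal_fst, Category.comp_id]
        · have h1 := congrArg CommaMorphism.left hθ
          simp only [Over.comp_left, theta_left, Over.id_left, Category.id_comp] at h1
          rw [Category.assoc, hd2, Category.assoc, pullback.diagonal_snd, Category.comp_id]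
          exact h1.symm)
    exact ⟨l z, by rw [← Scheme.Hom.comp_apply, pullback.lift_fst]; exact hz⟩
  let V₁ : S.Opens := ⟨(H.hom.base '' Zᶜ)ᶜ, (H.hom.isClosedMap _ hZo.isClosed_compl).isOpen_compl⟩
  let V₂ : S.Opens := S.basicOpen (N : Γ(S, ⊤))
  have hmem : ∀ t : S, t ∈ V₂ ↔ (N : S.residueField t) ≠ 0 := fun t => by
    rw [← Scheme.evaluation_ne_zero_iff_mem_basicOpen S (U := ⊤) t (Opens.mem_top t), map_natCast]
  refine ⟨V₁ ⊓ V₂, N, ⟨fun ⟨h, hh, hhs⟩ => hh (hZfib h hhs), (hmem s).mpr hN⟩, fun t ht => (hmem t).mp ht.2,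
    fun X x hX => ?_⟩
  have hxZ : Set.range x.left.base ⊆ Set.range e.base := by
    rintro _ ⟨p, rfl⟩
    by_contra hp
    exact (hX ⟨p, rfl⟩).1 ⟨x.left p, hp, by rw [← Scheme.Hom.comp_apply, Over.w x]⟩
  have he : e ≫ ((𝟙 H : H ⟶ H) ^ N).left = e ≫ (1 : H ⟶ H).left := by
    have h1 := congrArg (fun q => q ≫ pullback.fst H.hom H.hom) (pullback.condition (f := d) (g := pullback.diagonal H.hom))
    have h2 := congrArg (fun q => q ≫ pullback.snd H.hom H.hom) (pullback.condition (f := d) (g := pullback.diagonal H.hom))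
    simp only [Category.assoc, pullback.diagonal_fst, pullback.diagonal_snd, Category.comp_id, hd1, hd2] at h1 h2
    exact h1.trans h2.symm
  have h3 : x ≫ ((𝟙 H : H ⟶ H) ^ N) = x ≫ (1 : H ⟶ H) := by
    refine Over.OverMorphism.ext ?_
    rw [Over.comp_left, Over.comp_left, ← IsOpenImmersion.lift_fac e x.left hxZ, Category.assoc, he, Category.assoc]
  rwa [MonObj.comp_pow, MonObj.comp_one, Category.comp_id] at h3

end Groth.Agent.Sga3xB
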