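import Mathlib.RingTheory.Flat.Basic
import Mathlib.RingTheory.Filtration
import Mathlib.RingTheory.Localization.Submodule
import Mathlib.RingTheory.LocalRing.ResidueField.Ideal
import Mathlib.RingTheory.Localization.BaseChange
import Mathlib.LinearAlgebra.TensorProduct.Quotient
import Mathlib.LinearAlgebra.DirectSum.Finsupp
import Mathlib.RingTheory.Ideal.Operations
import Mathlib.LinearAlgebra.Basis.VectorSpace
import Mathlib.LinearAlgebra.Dimension.Free

/-!
# Fibrewise schematically dense families of flat algebras

If `A → B i` is a family of maps to flat `R`-algebras which is jointly injective on all fibres over the primes of `R`,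
and `A` is Noetherian, then it is jointly injective (EGA IV 11.10.9).
-/

universe u v w

open TensorProduct

namespace Groth.Agent.Sga3xB

section

variable {R : Type u} [CommRing R]

theorem exists_smul_mem_of_one_tmul_eq_zero (p : Ideal R) [p.IsPrime] {N : Type v} [AddCommGroup N] [Module R N]
    (x : N) (hx : (1 : p.ResidueField) ⊗ₜ[R] x = 0) : ∃ t ∉ p, t • x ∈ p • (⊤ : Submodule R N) := by
  have h : (TensorProduct.mk (R ⧸ p) p.ResidueField ((R ⧸ p) ⊗[R] N) 1) ((1 : R ⧸ p) ⊗ₜ[R] x) = 0 := by
    apply (AlgebraTensorModule.cancelBaseChange R (R ⧸ p) p.ResidueField p.ResidueField N).injective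
    simpa using hx
  have : IsLocalizedModule (nonZeroDivisors (R ⧸ p)) (TensorProduct.mk (R ⧸ p) p.ResidueField ((R ⧸ p) ⊗[R] N) 1) :=
    inferInstance
  obtain ⟨⟨r, hr⟩, hrx⟩ := (IsLocalizedModule.eq_iff_exists (nonZeroDivisors (R ⧸ p))
    (TensorProduct.mk (R ⧸ p) p.ResidueField ((R ⧸ p) ⊗[R] N) 1)).mp (h.trans (map_zero _).symm)
  obtain ⟨t, rfl⟩ := Ideal.Quotient.mk_surjective r
  refine ⟨t, fun ht => nonZeroDivisors.ne_zero hr (Ideal.Quotient.eq_zero_iff_mem.mpr ht), ?_⟩
  rw [smul_zero, Submonoid.mk_smul, TensorProduct.smul_tmul', smul_eq_mul, mul_one] at hrx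
  have := congrArg (quotTensorEquivQuotSMul N p) hrx
  rw [map_zero, quotTensorEquivQuotSMul_mk_tmul] at this
  exact (Submodule.Quotient.mk_eq_zero _).mp this

variable {A : Type v} [CommRing A] [Algebra R A] {ι : Type w} {B : ι → Type v}
  [∀ i, CommRing (B i)] [∀ i, Algebra R (B i)] (φ : ∀ i, A →ₐ[R] B i)

/-- The maps are jointly injective on the fibre over `p`. -/
def FibreInj (p : Ideal R) [p.IsPrime] : Prop :=
  ∀ a : p.ResidueField ⊗[R] A,
    (∀ i, LinearMap.lTensor p.ResidueField (φ i).toLinearMap a = 0) → a = 0

theorem eq_zero_of_space {p : Ideal R} [p.IsPrime] (h : FibreInj φ p) {V : Type*} [AddCommGroup V] [Module R V]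
    [Module p.ResidueField V] [IsScalarTower R p.ResidueField V] (z : V ⊗[R] A)
    (hz : ∀ i, LinearMap.lTensor V (φ i).toLinearMap z = 0) : z = 0 := by
  classical
  let b := Module.Free.chooseBasis p.ResidueField V
  let e := TensorProduct.congr (b.repr.restrictScalars R) (LinearEquiv.refl R A) ≪≫ₗ
    TensorProduct.finsuppLeft R R p.ResidueField A (Module.Free.ChooseBasisIndex p.ResidueField V)
  apply e.injective
  rw [map_zero]
  ext l
  have he : e z l = LinearMap.rTensor A ((b.coord l).restrictScalars R) z := by
    clear hz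
    induction z using TensorProduct.induction_on with
    | zero => simp
    | tmul v a => simp [e, TensorProduct.finsuppLeft_apply_tmul_apply]
    | add x y hx hy => rw [map_add, Finsupp.add_apply, hx, hy, map_add]
  rw [Finsupp.zero_apply, he]
  refine h _ fun i => ?_
  rw [← LinearMap.comp_apply, LinearMap.lTensor_comp_rTensor, ← LinearMap.rTensor_comp_lTensor, LinearMap.comp_apply,
    hz i, map_zero]

theorem eq_zero_of_fibreInj [IsNoetherianRing A] [∀ i, Module.Flat R (B i)]
    (h : ∀ (p : Ideal R) [p.IsPrime], FibreInj φ p) (a : A) (ha : ∀ i, φ i a = 0) : a = 0 := by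
  by_contra hne
  let J : Ideal A := LinearMap.ker (LinearMap.mulRight A a)
  have hJ : J ≠ ⊤ := fun e => hne (by
    have : (1 : A) ∈ J := e ▸ trivial
    simpa [J] using this)
  obtain ⟨M, hM, hJM⟩ := Ideal.exists_le_maximal J hJ
  let p : Ideal R := M.comap (algebraMap R A)
  have key : ∀ k : ℕ, ∃ s ∉ M, s * a ∈ (p ^ k).map (algebraMap R A) := by
    intro k
    induction k with
    | zero => exact ⟨1, M.primeCompl.one_mem, by simp [Ideal.one_eq_top, Ideal.map_top]⟩
    | succ k ih =>
      obtain ⟨s, hs, hsa⟩ := ih
      let μ : ↥(p ^ k) ⊗[R] A →ₗ[R] A :=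
        (TensorProduct.lid R A).toLinearMap ∘ₗ LinearMap.rTensor A (p ^ k).subtype
      have hμ : ∀ (r : ↥(p ^ k)) (x : A), μ (r ⊗ₜ x) = (r : R) • x := fun r x => by simp [μ]
      have hrange : ∀ x ∈ (p ^ k).map (algebraMap R A), ∃ z, μ z = x := by
        intro x hx
        rw [Ideal.map] at hx
        induction hx using Submodule.span_induction with
        | mem x hx =>
          obtain ⟨r, hr, rfl⟩ := hx
          exact ⟨⟨r, hr⟩ ⊗ₜ 1, by rw [hμ, Algebra.smul_def, mul_one]⟩
        | zero => exact ⟨0, map_zero _⟩
        | add x y _ _ hx hy =>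
          obtain ⟨zx, rfl⟩ := hx
          obtain ⟨zy, rfl⟩ := hy
          exact ⟨zx + zy, map_add _ _ _⟩
        | smul c x hxm hx =>
          obtain ⟨zx, rfl⟩ := hx
          refine ⟨LinearMap.lTensor _ (LinearMap.mulLeft R c) zx, ?_⟩
          clear hxm
          induction zx using TensorProduct.induction_on with
          | zero => simp
          | tmul r x => rw [LinearMap.lTensor_tmul, hμ, hμ, smul_eq_mul, LinearMap.mulLeft_apply, mul_smul_comm]
          | add x y hx hy => rw [map_add, map_add, hx, hy, map_add, smul_add]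
      obtain ⟨z, hz⟩ := hrange _ hsa
      -- `z` dies in each `p ^ k ⊗ B i` by flatness
      have hzi : ∀ i, LinearMap.lTensor ↥(p ^ k) (φ i).toLinearMap z = 0 := by
        intro i
        apply Module.Flat.rTensor_preserves_injective_linearMap (M := B i) (p ^ k).subtype Subtype.val_injective
        apply (TensorProduct.lid R (B i)).injective
        simp only [map_zero]
        have hcomp : (TensorProduct.lid R (B i)).toLinearMap ∘ₗ LinearMap.rTensor (B i) (p ^ k).subtype ∘ₗ
            LinearMap.lTensor ↥(p ^ k) (φ i).toLinearMap = (φ i).toLinearMap ∘ₗ μ :=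
          TensorProduct.ext' fun r x => by simp [μ]
        exact (LinearMap.congr_fun hcomp z).trans (by simp [hz, ha i])
      -- hence in the fibre
      let g : ↥(p ^ k) →ₗ[R] p.ResidueField ⊗[R] ↥(p ^ k) := TensorProduct.mk R p.ResidueField ↥(p ^ k) 1
      have hz0 : LinearMap.rTensor A g z = 0 := by
        refine eq_zero_of_space φ (h p) _ fun i => ?_
        rw [← LinearMap.comp_apply, LinearMap.lTensor_comp_rTensor, ← LinearMap.rTensor_comp_lTensor,
          LinearMap.comp_apply, hzi i, map_zero]
      have h1 : (1 : p.ResidueField) ⊗ₜ[R] z = 0 := by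
        apply (TensorProduct.assoc R p.ResidueField ↥(p ^ k) A).symm.injective
        rw [map_zero]
        refine Eq.trans ?_ hz0
        have hcomp : (TensorProduct.assoc R p.ResidueField ↥(p ^ k) A).symm.toLinearMap ∘ₗ
            TensorProduct.mk R p.ResidueField (↥(p ^ k) ⊗[R] A) 1 = LinearMap.rTensor A g :=
          TensorProduct.ext' fun r x => by simp [g]
        exact LinearMap.congr_fun hcomp z
      obtain ⟨t, ht, htz⟩ := exists_smul_mem_of_one_tmul_eq_zero p z h1
      refine ⟨algebraMap R A t * s, fun hmem => (hM.isPrime.mem_or_mem hmem).elim ht hs, ?_⟩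
      have hμz : ∀ w ∈ p • (⊤ : Submodule R (↥(p ^ k) ⊗[R] A)), μ w ∈ (p ^ (k + 1)).map (algebraMap R A) := by
        intro w hw
        induction hw using Submodule.smul_induction_on' with
        | smul r hr y hy =>
          clear hy
          rw [map_smul, Algebra.smul_def, pow_succ', Ideal.map_mul]
          refine Ideal.mul_mem_mul (Ideal.mem_map_of_mem _ hr) ?_
          induction y using TensorProduct.induction_on with
          | zero => simp
          | tmul q x => rw [hμ, Algebra.smul_def]; exact Ideal.mul_mem_right _ _ (Ideal.mem_map_of_mem _ q.2)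
          | add x y hx hy => rw [map_add]; exact add_mem hx hy
        | add x _ y _ hx hy => rw [map_add]; exact add_mem hx hy
      have := hμz _ htz
      rwa [map_smul, hz, Algebra.smul_def, ← mul_assoc] at this
  -- Krull
  let L := Localization.AtPrime M
  have hzero : algebraMap A L a = 0 := by
    have hinf : algebraMap A L a ∈ ⨅ k : ℕ, (IsLocalRing.maximalIdeal L) ^ k := by
      refine Submodule.mem_iInf _ |>.mpr fun k => ?_
      obtain ⟨s, hs, hsa⟩ := key k
      rw [← Localization.AtPrime.map_eq_maximalIdeal, ← Ideal.map_pow]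
      have h2 : algebraMap A L (s * a) ∈ Ideal.map (algebraMap A L) (M ^ k) := by
        refine Ideal.mem_map_of_mem _ ?_
        refine Ideal.pow_right_mono (Ideal.map_comap_le (f := algebraMap R A) (K := M)) k ?_
        rw [← Ideal.map_pow]; exact hsa
      rw [map_mul] at h2
      exact (Ideal.unit_mul_mem_iff_mem _ (IsLocalization.map_units L (⟨s, hs⟩ : M.primeCompl))).mp h2
    rwa [Ideal.iInf_pow_eq_bot_of_isLocalRing _ (IsLocalRing.maximalIdeal.isMaximal L).ne_top] at hinf
  obtain ⟨⟨c, hc⟩, hca⟩ := (IsLocalization.map_eq_zero_iff M.primeCompl L a).mp hzero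
  exact hc (hJM (show c * a = 0 from hca))

/-- Joint injectivity over one field above `p` gives it over the residue field. -/
theorem fibreInj_of_field (p : Ideal R) [p.IsPrime] (K : Type u) [Field K] [Algebra R K]
    (hK : RingHom.ker (algebraMap R K) = p)
    (h : ∀ a : K ⊗[R] A, (∀ i, LinearMap.lTensor K (φ i).toLinearMap a = 0) → a = 0) : FibreInj φ p := by
  let e : p.ResidueField →+* K := Ideal.ResidueField.lift p (algebraMap R K) hK.ge
    (fun x hx => IsUnit.mk0 _ (fun h0 => hx (hK ▸ (h0 : x ∈ RingHom.ker (algebraMap R K)))))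
  letI := e.toAlgebra
  have : IsScalarTower R p.ResidueField K :=
    IsScalarTower.of_algebraMap_eq fun x => (Ideal.ResidueField.lift_algebraMap p (algebraMap R K) _ _ _).symm
  obtain ⟨g, hg⟩ := (Algebra.linearMap p.ResidueField K).exists_leftInverse_of_injective
    (LinearMap.ker_eq_bot.mpr e.injective)
  intro a ha
  have h1 : LinearMap.rTensor A ((Algebra.linearMap p.ResidueField K).restrictScalars R) a = 0 := by
    refine h _ fun i => ?_
    rw [← LinearMap.comp_apply, LinearMap.lTensor_comp_rTensor, ← LinearMap.rTensor_comp_lTensor,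
      LinearMap.comp_apply, ha i, map_zero]
  have h2 := congrArg (LinearMap.rTensor A (g.restrictScalars R)) h1
  rw [map_zero, ← LinearMap.comp_apply, ← LinearMap.rTensor_comp] at h2
  have h3 : (g.restrictScalars R) ∘ₗ ((Algebra.linearMap p.ResidueField K).restrictScalars R) = LinearMap.id :=
    LinearMap.ext fun x => LinearMap.congr_fun hg x
  rwa [h3, LinearMap.rTensor_id, LinearMap.id_apply] at h2

end

section

variable {R : Type u} [CommRing R] {A : Type u} [CommRing A] [Algebra R A] {ι : Type w} {B : ι → Type u}
  [∀ i, CommRing (B i)] [∀ i, Algebra R (B i)] [∀ i, Module.Flat R (B i)] (φ : ∀ i, A →ₐ[R] B i)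

/-- Fibrewise joint injectivity is universal for Noetherian base changes. -/
theorem eq_zero_baseChange (h : ∀ (p : Ideal R) [p.IsPrime], FibreInj φ p) (C : Type u) [CommRing C] [Algebra R C]
    [IsNoetherianRing (C ⊗[R] A)] (a : C ⊗[R] A)
    (ha : ∀ i, LinearMap.lTensor C (φ i).toLinearMap a = 0) : a = 0 := by
  refine eq_zero_of_fibreInj (R := C) (B := fun i => C ⊗[R] B i)
    (fun i => Algebra.TensorProduct.map (AlgHom.id C C) (φ i)) (fun q _ z hz => ?_) a fun i => ?_
  · let p : Ideal R := q.comap (algebraMap R C)
    let e : p.ResidueField →+* q.ResidueField := Ideal.ResidueField.map p q (algebraMap R C) rfl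
    letI := e.toAlgebra
    have : IsScalarTower R p.ResidueField q.ResidueField := by
      refine IsScalarTower.of_algebraMap_eq fun x => ?_
      show _ = e (algebraMap R p.ResidueField x)
      rw [Ideal.ResidueField.map_algebraMap]
      exact IsScalarTower.algebraMap_apply R C q.ResidueField x
    apply (AlgebraTensorModule.cancelBaseChange R C q.ResidueField q.ResidueField A).injective
    rw [map_zero]
    refine eq_zero_of_space φ (h p) _ fun i => ?_
    have hcomp : ∀ y : q.ResidueField ⊗[C] (C ⊗[R] A),
        LinearMap.lTensor q.ResidueField (φ i).toLinearMap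
          (AlgebraTensorModule.cancelBaseChange R C q.ResidueField q.ResidueField A y) =
        AlgebraTensorModule.cancelBaseChange R C q.ResidueField q.ResidueField (B i)
          (LinearMap.lTensor q.ResidueField
            (Algebra.TensorProduct.map (AlgHom.id C C) (φ i)).toLinearMap y) := by
      intro y
      induction y using TensorProduct.induction_on with
      | zero => simp
      | tmul x w =>
        induction w using TensorProduct.induction_on with
        | zero => simp
        | tmul c w => simp
        | add w w' hw hw' => simp only [tmul_add, map_add, hw, hw']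
      | add y y' hy hy' => simp only [map_add, hy, hy']
    rw [hcomp, hz i, map_zero]
  · refine Eq.trans ?_ (ha i)
    clear ha
    induction a using TensorProduct.induction_on with
    | zero => simp
    | tmul c w => simp
    | add w w' hw hw' => simp only [map_add, hw, hw']

end

end Groth.Agent.Sga3xB
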