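import Groth.Agent.Red23Lib.Pinned.Torus
import Groth.Agent.GrpSchLib.MultTypeBC
import Groth.Agent.GrpSchLib.HomUnitLocus
import Groth.Agent.GrpSchLib.HomSplitLocus
import Groth.Agent.MultTransp18.Mono
import Groth.Agent.FpqcDescLib.Group

/-!
# Points of diagonalisable groups over any base

Points of `D_S(M)` are homomorphisms from `M` to units; the maps `D(φ)`; base change.
-/

set_option autoImplicit false
set_option linter.style.haveILetI false

universe u

open CategoryTheory CategoryTheory.Limits AlgebraicGeometry MonoidalCategory CartesianMonoidalCategory MonObj GrpObj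

noncomputable section

namespace Groth.Agent.Sga3xB

open Groth.Agent.Red23Lib.Pinned Groth.Agent.GrpSchLib Groth.Agent.GrpSchLib.RankOne

variable {S : Scheme.{u}} {M N P : Type} [AddCommGroup M] [AddCommGroup N] [AddCommGroup P]

/-- The ring map out of the coordinate ring attached to a character map. -/
def coordHom {B : Type u} [CommRing B] (χ : Multiplicative M →* Bˣ) : DSPtsLib.CoordM.{u} M →+* B :=
  letI : Algebra (ULift.{u} ℤ) B := ((algebraMap ℤ B).comp ULift.ringEquiv.toRingHom).toAlgebra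
  (MonoidAlgebra.lift (ULift.{u} ℤ) B (Multiplicative M) ((Units.coeHom B).comp χ)).toRingHom

theorem coordHom_single {B : Type u} [CommRing B] (χ : Multiplicative M →* Bˣ) (m : Multiplicative M) :
    coordHom χ (MonoidAlgebra.single m 1) = (χ m : B) := by
  letI : Algebra (ULift.{u} ℤ) B := ((algebraMap ℤ B).comp ULift.ringEquiv.toRingHom).toAlgebra
  show MonoidAlgebra.lift (ULift.{u} ℤ) B (Multiplicative M) ((Units.coeHom B).comp χ) (MonoidAlgebra.single m 1) = _
  rw [MonoidAlgebra.lift_single, Algebra.smul_def, map_one, _root_.one_mul]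
  rfl

/-- The point of `D_S(M)` with a prescribed character map. -/
def ofCh {X : Over S} (χ : Multiplicative M →* (Γ(X.left, ⊤))ˣ) : X ⟶ Red.DS S M :=
  Over.homMk (pullback.lift (X.left.toSpecΓ ≫ Spec.map (CommRingCat.ofHom (coordHom χ))) X.hom
    (specULiftZIsTerminal.hom_ext _ _)) (pullback.lift_snd _ _ _)

theorem comp_ofCh {X : Over S} (χ : Multiplicative M →* (Γ(X.left, ⊤))ˣ) {A : CommRingCat.{u}} (b : Spec A ⟶ S)
    (j : Over.mk b ⟶ X) :
    j ≫ ofCh χ = DSPtsLib.pt b (((sval b).toRingHom.comp j.left.appTop.hom).comp (coordHom χ)) := by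
  refine Over.OverMorphism.ext (pullback.hom_ext ?_ ?_)
  · have key : j.left ≫ (X.left.toSpecΓ ≫ Spec.map (CommRingCat.ofHom (coordHom χ))) =
        Spec.map (CommRingCat.ofHom (((sval b).toRingHom.comp j.left.appTop.hom).comp (coordHom χ))) := by
      rw [← Category.assoc]
      erw [Scheme.toSpecΓ_naturality]
      rw [Category.assoc, ← Spec.map_comp]
      erw [show (Spec A).toSpecΓ = Spec.map (Scheme.ΓSpecIso A).hom from (SpecMap_ΓSpecIso_hom A).symm]
      rw [← Spec.map_comp]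
      rfl
    rw [DSPtsLib.pt_fst, Over.comp_left, Category.assoc]
    exact (congrArg (fun z => j.left ≫ z) (pullback.lift_fst _ _ _)).trans key
  · exact (Over.w _).trans (pullback.lift_snd _ _ _).symm

theorem dsCh_ofCh {X : Over S} (χ : Multiplicative M →* (Γ(X.left, ⊤))ˣ) (m : M) :
    dsCh (ofCh χ) m = χ (Multiplicative.ofAdd m) := by
  refine Units.ext (NatFn.eq_of_val_eq fun A b j => (sval b).injective ?_)
  refine (sval_dsCh (ofCh χ) b j _ (comp_ofCh χ b j) m).trans ?_
  simp only [RingHom.comp_apply]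
  rw [coordHom_single]
  rfl

theorem ofCh_dsChHom {X : Over S} (t : X ⟶ Red.DS S M) : ofCh (dsChHom t) = t :=
  dsCh_ext fun m => dsCh_ofCh _ m

theorem eq_one_iff_dsCh {X : Over S} (t : X ⟶ Red.DS S M) : t = 1 ↔ ∀ m, dsCh t m = 1 :=
  ⟨fun h m => by rw [h, dsCh_one], fun h => dsCh_ext fun m => by rw [h, dsCh_one]⟩

theorem dsCh_inv {X : Over S} (t : X ⟶ Red.DS S M) (m : M) : dsCh t⁻¹ m = (dsCh t m)⁻¹ :=
  eq_inv_of_mul_eq_one_left (by rw [← dsCh_mul, inv_mul_cancel, dsCh_one])

theorem dsCh_comp' {X Y : Over S} (g : Y ⟶ X) (t : X ⟶ Red.DS S M) (m : M) :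
    dsCh (g ≫ t) m = Units.map g.left.appTop.hom.toMonoidHom (dsCh t m) :=
  Units.ext (dsCh_comp g t m)

theorem isMonHom_DSmap (φ : M →+ N) : IsMonHom (Red.DSmap S φ) := S5427.isMonHom_DSmap S φ

theorem DSmap_id : Red.DSmap S (AddMonoidHom.id M) = 𝟙 _ :=
  dsCh_ext fun m => by rw [← Category.id_comp (Red.DSmap S _), dsCh_DSmap]; rfl

theorem comp_DSmap_eq_one_iff {X : Over S} (φ : M →+ N) (t : X ⟶ Red.DS S N) :
    t ≫ Red.DSmap S φ = 1 ↔ ∀ m, dsCh t (φ m) = 1 := by
  rw [eq_one_iff_dsCh]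
  simp only [dsCh_DSmap]

theorem DSmap_zero : Red.DSmap S (0 : M →+ N) = 1 :=
  (eq_one_iff_dsCh _).mpr fun m => by
    rw [← Category.id_comp (Red.DSmap S _), dsCh_DSmap, AddMonoidHom.zero_apply, dsCh_zero]

/-- A point on which the characters in `L` are trivial comes from `D(M/L)`. -/
theorem exists_lift_quotient {X : Over S} (L : AddSubgroup M) (t : X ⟶ Red.DS S M) (h : ∀ m ∈ L, dsCh t m = 1) :
    ∃ c : X ⟶ Red.DS S (M ⧸ L), c ≫ Red.DSmap S (QuotientAddGroup.mk' L) = t := by
  let f : M →+ Additive (Γ(X.left, ⊤))ˣ :=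
    AddMonoidHom.mk' (fun m => Additive.ofMul (dsCh t m)) fun a b => congrArg Additive.ofMul (dsCh_add t a b)
  have hf : L ≤ f.ker := fun m hm => congrArg Additive.ofMul (h m hm)
  let χ : Multiplicative (M ⧸ L) →* (Γ(X.left, ⊤))ˣ :=
    MonoidHom.mk' (fun m => ((QuotientAddGroup.lift L f hf) m.toAdd).toMul)
      fun a b => congrArg Additive.toMul (map_add (QuotientAddGroup.lift L f hf) a.toAdd b.toAdd)
  refine ⟨ofCh χ, dsCh_ext fun m => ?_⟩
  rw [dsCh_DSmap, dsCh_ofCh]
  rfl

theorem mono_DSmap_of_surjective (φ : M →+ N) (h : Function.Surjective φ) : Mono (Red.DSmap S φ) :=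
  ⟨fun {X} a b e => dsCh_ext fun n => by
    obtain ⟨m, rfl⟩ := h n
    rw [← dsCh_DSmap, ← dsCh_DSmap, e]⟩

/-- If `D(φ)` is a monomorphism over a nonempty base, `φ` is surjective. -/
theorem surjective_of_mono_DSmap [Nonempty S] (φ : M →+ N) [Mono (Red.DSmap S φ)] : Function.Surjective φ := by
  intro n
  obtain ⟨U, hU, hU0, -⟩ := exists_isAffineOpen_mem_and_subset
    (show Classical.arbitrary S ∈ (⊤ : S.Opens) from trivial)
  haveI : Nontrivial Γ(S, U) := by
    haveI : Nonempty U := ⟨⟨_, hU0⟩⟩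
    infer_instance
  let C := Multiplicative N ⧸ (AddMonoidHom.toMultiplicative φ).range
  let A := MonoidAlgebra Γ(S, U) C
  let b : Spec (CommRingCat.of A) ⟶ S :=
    Spec.map (CommRingCat.ofHom (algebraMap Γ(S, U) A)) ≫ hU.fromSpec
  let χ : Multiplicative N →* (Γ((Over.mk b).left, ⊤))ˣ :=
    (Units.map (sval b).symm.toMonoidHom).comp ((MonoidAlgebra.of Γ(S, U) C).comp (QuotientGroup.mk' _)).toHomUnits
  have h1 : ofCh (X := Over.mk b) χ ≫ Red.DSmap S φ = 1 := by
    rw [comp_DSmap_eq_one_iff]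
    intro m
    rw [dsCh_ofCh]
    refine Units.ext ?_
    show (sval b).symm (MonoidAlgebra.single (QuotientGroup.mk' _ (Multiplicative.ofAdd (φ m))) 1) = 1
    rw [show QuotientGroup.mk' (AddMonoidHom.toMultiplicative φ).range (Multiplicative.ofAdd (φ m)) = (1 : C) from
      (QuotientGroup.eq_one_iff _).mpr ⟨Multiplicative.ofAdd m, rfl⟩]
    exact map_one (sval b).symm
  haveI := isMonHom_DSmap (S := S) φ
  have h2 : ofCh (X := Over.mk b) χ = 1 := by
    rw [← cancel_mono (Red.DSmap S φ), h1]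
    exact (MonObj.one_comp _).symm
  have h3 := congrArg Units.val ((eq_one_iff_dsCh _).mp h2 n)
  rw [dsCh_ofCh] at h3
  have h4 : (MonoidAlgebra.single (QuotientGroup.mk' _ (Multiplicative.ofAdd n)) 1 : A) =
      MonoidAlgebra.single (1 : C) 1 := (sval b).symm.injective (h3.trans (map_one (sval b).symm).symm)
  obtain ⟨m, hm⟩ := (QuotientGroup.eq_one_iff _).mp (MonoidAlgebra.single_left_injective one_ne_zero h4)
  exact ⟨m.toAdd, hm⟩

theorem flat_surjective_DSmap (φ : M →+ N) (h : Function.Injective φ) :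
    Flat (Red.DSmap S φ).left ∧ Surjective (Red.DSmap S φ).left := by
  obtain ⟨h1, h2⟩ := HomSplitLocal.flat_surjective_of_injective (ULift.{u} ℤ) φ h
  have hsq := HomSplitLocal.isPullback_map (Red.diagMap (ULift.{u} ℤ) φ) (IsTerminal.from specULiftZIsTerminal S)
  exact ⟨MorphismProperty.of_isPullback (P := @Flat) hsq h1, MorphismProperty.of_isPullback (P := @Surjective) hsq h2⟩

theorem isAffineHom_DS : IsAffineHom (Red.DS S M).hom :=
  haveI : IsAffineHom (Red.diag.{u} (ULift.{u} ℤ) M).hom :=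
    inferInstanceAs (IsAffineHom (Spec.map (CommRingCat.ofHom (algebraMap (ULift.{u} ℤ)
      (MonoidAlgebra (ULift.{u} ℤ) (Multiplicative M))))))
  MorphismProperty.of_isPullback (P := @IsAffineHom)
    (IsPullback.of_hasPullback (Red.diag (ULift.{u} ℤ) M).hom (IsTerminal.from specULiftZIsTerminal S)) ‹_›

theorem covers_DSmap (φ : M →+ N) (h : Function.Injective φ) : FpqcDescLib.Covers (Red.DSmap S φ).left := by
  obtain ⟨_, _⟩ := flat_surjective_DSmap (S := S) φ h
  haveI := isAffineHom_DS (S := S) (M := M)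
  haveI := isAffineHom_DS (S := S) (M := N)
  haveI : QuasiCompact ((Red.DSmap S φ).left ≫ (Red.DS S M).hom) := by rw [Over.w]; infer_instance
  haveI : QuasiCompact (Red.DSmap S φ).left := QuasiCompact.of_comp _ (Red.DS S M).hom
  exact FpqcDescLib.covers_of_isCovering (FpqcDescLib.isCovering_of_quasiCompact _)

/-- A homomorphism out of `D(M)` which is trivial on `D(M/L)` factors through `D(L)`. -/
theorem exists_desc {G : Over S} [GrpObj G] (u : Red.DS S M ⟶ G) [IsMonHom u] (L : AddSubgroup M)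
    (h : Red.DSmap S (QuotientAddGroup.mk' L) ≫ u = 1) :
    ∃ g : Red.DS S L ⟶ G, IsMonHom g ∧ Red.DSmap S L.subtype ≫ g = u := by
  haveI := isMonHom_DSmap (S := S) L.subtype
  haveI := isMonHom_DSmap (S := S) (QuotientAddGroup.mk' L)
  have hc : FpqcDescLib.IsCosetMap (Red.DSmap S (QuotientAddGroup.mk' L)) (Red.DSmap S L.subtype) := by
    intro T a b
    constructor
    · intro e
      have h' : (a⁻¹ * b) ≫ Red.DSmap S L.subtype = 1 := by
        rw [MonObj.mul_comp _ _ (Red.DSmap S L.subtype), GrpObj.inv_comp _ (Red.DSmap S L.subtype), e, inv_mul_cancel]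
      obtain ⟨c, hc⟩ := exists_lift_quotient L (a⁻¹ * b)
        fun m hm => (comp_DSmap_eq_one_iff _ _).mp h' ⟨m, hm⟩
      exact ⟨c, by rw [hc, mul_inv_cancel_left]⟩
    · rintro ⟨c, rfl⟩
      have : (c ≫ Red.DSmap S (QuotientAddGroup.mk' L)) ≫ Red.DSmap S L.subtype = 1 := by
        rw [comp_DSmap_eq_one_iff]
        intro m
        rw [dsCh_DSmap, show QuotientAddGroup.mk' L (L.subtype m) = 0 from (QuotientAddGroup.eq_zero_iff _).mpr m.2,
          dsCh_zero]
      rw [MonObj.mul_comp _ _ (Red.DSmap S L.subtype), this]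
      exact (mul_one (a ≫ Red.DSmap S L.subtype)).symm
  obtain ⟨g, ⟨hg, hg'⟩, -⟩ := FpqcDescLib.exists_unique_hom (covers_DSmap _ L.subtype_injective) hc u h
  exact ⟨g, hg', hg⟩

section BaseChange

variable {U : Scheme.{u}} (t : U ⟶ S)

/-- `D_S(M)` restricted to `U` is `D_U(M)`. -/
def bcHom (M : Type) [AddCommGroup M] : Red.bc t (Red.DS S M) ⟶ Red.DS U M :=
  Over.homMk (pullback.lift (pullback.fst (Red.DS S M).hom t ≫ pullback.fst _ _) (pullback.snd (Red.DS S M).hom t)
    (specULiftZIsTerminal.hom_ext _ _)) (pullback.lift_snd _ _ _)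

/-- The inverse of `bcHom`. -/
def bcInv (M : Type) [AddCommGroup M] : Red.DS U M ⟶ Red.bc t (Red.DS S M) :=
  Over.homMk (pullback.lift
    (pullback.lift (pullback.fst _ _) ((Red.DS U M).hom ≫ t) (specULiftZIsTerminal.hom_ext _ _))
    (Red.DS U M).hom (pullback.lift_snd _ _ _)) (pullback.lift_snd _ _ _)

@[reassoc]
theorem bcHom_bcInv : bcHom t M ≫ bcInv t M = 𝟙 _ := by
  refine Over.OverMorphism.ext ?_
  change pullback.lift _ _ _ ≫ pullback.lift _ _ _ = 𝟙 _
  refine pullback.hom_ext ?_ ?_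
  · rw [Category.assoc, Category.id_comp, pullback.lift_fst]
    refine pullback.hom_ext ?_ ?_
    · rw [Category.assoc]
      exact (congrArg (fun z => _ ≫ z) (pullback.lift_fst _ _ _)).trans (pullback.lift_fst _ _ _)
    · rw [Category.assoc]
      refine (congrArg (fun z => _ ≫ z) (pullback.lift_snd _ _ _)).trans ?_
      rw [← Category.assoc]
      exact (congrArg (fun z => z ≫ t) (pullback.lift_snd _ _ _)).trans pullback.condition.symm
  · rw [Category.assoc, Category.id_comp, pullback.lift_snd]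
    exact pullback.lift_snd _ _ _

@[reassoc]
theorem bcInv_bcHom : bcInv t M ≫ bcHom t M = 𝟙 _ := by
  refine Over.OverMorphism.ext ?_
  change pullback.lift _ _ _ ≫ pullback.lift _ _ _ = 𝟙 _
  refine pullback.hom_ext ?_ ?_
  · rw [Category.assoc, Category.id_comp, pullback.lift_fst, ← Category.assoc]
    exact (congrArg (fun z => z ≫ _) (pullback.lift_fst _ _ _)).trans (pullback.lift_fst _ _ _)
  · rw [Category.assoc, Category.id_comp, pullback.lift_snd]
    exact pullback.lift_snd _ _ _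

/-- The isomorphism `bcHom`. -/
@[simps]
def bcIso (M : Type) [AddCommGroup M] : Red.bc t (Red.DS S M) ≅ Red.DS U M :=
  ⟨bcHom t M, bcInv t M, bcHom_bcInv t, bcInv_bcHom t⟩

theorem bcHom_fst : (bcHom t M).left ≫ pullback.fst _ _ = pullback.fst (Red.DS S M).hom t ≫ pullback.fst _ _ :=
  pullback.lift_fst _ _ _

/-- Characters of a point of the base change. -/
theorem dsCh_bcHom {X : Over U} (a : X ⟶ Red.bc t (Red.DS S M)) (m : M) :
    dsCh (a ≫ bcHom t M) m = dsCh (DSPtsLib.theta t a) m := by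
  refine Units.ext (NatFn.eq_of_val_eq fun A b j => (sval b).injective ?_)
  obtain ⟨f, hf⟩ := DSPtsLib.exists_eq_pt b (j ≫ a ≫ bcHom t M)
  refine (sval_dsCh _ b j f hf m).trans ?_
  let j' : Over.mk (b ≫ t) ⟶ (Over.map t).obj X :=
    Over.homMk j.left (by
      show j.left ≫ X.hom ≫ t = b ≫ t
      rw [← Category.assoc]
      exact congrArg (· ≫ t) (Over.w j))
  have h2 : j' ≫ DSPtsLib.theta t a = DSPtsLib.pt (b ≫ t) f := by
    refine Over.OverMorphism.ext (pullback.hom_ext ?_ ?_)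
    · rw [DSPtsLib.pt_fst, Over.comp_left, DSPtsLib.theta_left, ← DSPtsLib.pt_fst b f, ← hf, Over.comp_left,
        Over.comp_left]
      simp only [Category.assoc, bcHom_fst, j', Over.homMk_left]
    · exact (Over.w _).trans (pullback.lift_snd _ _ _).symm
  exact (sval_dsCh (DSPtsLib.theta t a) (b ≫ t) j' f h2 m).symm

theorem mul_bcHom {X : Over U} (a b : X ⟶ Red.bc t (Red.DS S M)) :
    (a * b) ≫ bcHom t M = (a ≫ bcHom t M) * (b ≫ bcHom t M) :=
  dsCh_ext fun m =>
    (dsCh_bcHom t (a * b) m).trans <|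
      ((congrArg (fun z => dsCh z m) (DSPtsLib.theta_mul t a b)).trans (dsCh_mul _ _ m)).trans <|
        (congrArg₂ (fun y z : (Γ(X.left, ⊤))ˣ => y * z) (dsCh_bcHom t a m).symm (dsCh_bcHom t b m).symm).trans
          (dsCh_mul (a ≫ bcHom t M) (b ≫ bcHom t M) m).symm

theorem isMonHom_bcHom : IsMonHom (bcHom t M) := by
  refine ⟨?_, ?_⟩
  · rw [MonObj.one_eq_one, MonObj.one_eq_one]
    exact (eq_one_iff_dsCh _).mpr fun m => (dsCh_bcHom t _ m).trans
      ((congrArg (fun z => dsCh z m) (HomUnitLocus.theta_one t _)).trans (dsCh_one m))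
  · have h := mul_bcHom t (fst (Red.bc t (Red.DS S M)) (Red.bc t (Red.DS S M))) (snd _ _)
    rw [MonObj.mul_eq_mul]
    refine h.trans ?_
    rw [Hom.mul_def]
    congr 1

theorem isMonHom_bcInv : IsMonHom (bcInv t M) :=
  haveI := isMonHom_bcHom (M := M) t
  haveI : IsMonHom (bcIso t M).hom := isMonHom_bcHom (M := M) t
  (inferInstance : IsMonHom (bcIso t M).inv)

@[reassoc]
theorem map_DSmap_bcHom (φ : M →+ N) :
    (Over.pullback t).map (Red.DSmap S φ) ≫ bcHom t M = bcHom t N ≫ Red.DSmap U φ := by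
  refine dsCh_ext fun m => ?_
  rw [dsCh_DSmap, dsCh_bcHom, ← Category.id_comp ((Over.pullback t).map (Red.DSmap S φ)),
    HomUnitLocus.theta_comp_map, dsCh_DSmap, ← dsCh_bcHom, Category.id_comp]

/-- The base change of `D(M)` as a group. -/
def bcGrpIso (M : Type) [AddCommGroup M] : Grp.mk (Red.bc t (Red.DS S M)) ≅ Grp.mk (Red.DS U M) :=
  haveI : IsMonHom (bcIso t M).hom := isMonHom_bcHom (M := M) t
  Grp.mkIso' (bcIso t M)

end BaseChange

end Groth.Agent.Sga3xB

end
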