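import Groth.Agent.Sga3xB.Subtori
import Groth.Agent.GrpSchLib.AntiAffineHom
import Groth.Agent.GrpSchLib.MultTypeLft
import Groth.Agent.S5275

/-!
# Quotients of diagonalisable groups by subgroups of multiplicative type

If `H ⊆ D(M)` is of multiplicative type and `Q` is the quotient, then `Q` is, on an open and closed neighbourhood of
each point, the diagonalisable group of the characters which are trivial on `H`.
-/

set_option autoImplicit false
set_option linter.style.haveILetI false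

universe u

open CategoryTheory CategoryTheory.Limits AlgebraicGeometry MonoidalCategory CartesianMonoidalCategory MonObj GrpObj

noncomputable section

namespace Groth.Agent.Sga3xB

open Groth.Agent.Red23Lib.Pinned Groth.Agent.GrpSchLib
open HomUnitLocus (Triv theta_one theta_comp_map)
open FpqcDescLib (IsCosetMap Covers)

variable {S : Scheme.{u}}

section Coset

variable {G G' H Q : Over S} [GrpObj G] [GrpObj G'] [GrpObj H]

theorem isCosetMap_iso {i : H ⟶ G} {q : G ⟶ Q} (hc : IsCosetMap i q) (e : G' ≅ G) [IsMonHom e.hom] :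
    IsCosetMap (i ≫ e.inv) (e.hom ≫ q) := by
  intro T a b
  rw [← Category.assoc, ← Category.assoc]
  refine (hc T _ _).trans ⟨?_, ?_⟩ <;> rintro ⟨h, hh⟩ <;> refine ⟨h, ?_⟩
  · rw [← cancel_mono e.hom, hh, MonObj.mul_comp _ _ e.hom]
    simp
  · rw [hh, MonObj.mul_comp _ _ e.hom]
    simp

omit [GrpObj G] [GrpObj G'] in
theorem covers_iso {q : G ⟶ Q} (hq : Covers q.left) (e : G' ≅ G) : Covers (e.hom ≫ q).left := by
  haveI : IsIso e.hom.left := inferInstanceAs (IsIso ((Over.forget _).mapIso e).hom)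
  refine hq.pullback (𝟙 Q.left) _ e.hom.left (IsPullback.of_vert_isIso ⟨?_⟩)
  rw [Category.comp_id, Over.comp_left]

theorem isCosetMap_bc [GrpObj Q] {i : H ⟶ G} [IsMonHom i] {q : G ⟶ Q} (hc : IsCosetMap i q) {U : Scheme.{u}} (t : U ⟶ S) :
    IsCosetMap (H := Red.bc t H) (G := Red.bc t G) (Q := Red.bc t Q) ((Over.pullback t).map i)
      ((Over.pullback t).map q) := by
  intro Y a b
  constructor
  · intro h
    have h' : DSPtsLib.theta t a ≫ q = DSPtsLib.theta t b ≫ q := by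
      rw [← theta_comp_map, ← theta_comp_map, h]
    obtain ⟨c, hc'⟩ := (hc _ _ _).mp h'
    obtain ⟨c, rfl⟩ := (DSPtsLib.theta_bijective t).2 c
    refine ⟨c, (DSPtsLib.theta_bijective t).1 ?_⟩
    rw [DSPtsLib.theta_mul, theta_comp_map, hc']
  · rintro ⟨c, hc'⟩
    refine (DSPtsLib.theta_bijective t).1 ?_
    rw [theta_comp_map, theta_comp_map]
    exact (hc _ _ _).mpr ⟨DSPtsLib.theta t c, by rw [hc', DSPtsLib.theta_mul, theta_comp_map]⟩

omit [GrpObj G] in
theorem covers_bc {q : G ⟶ Q} (hq : Covers q.left) {U : Scheme.{u}} (t : U ⟶ S) :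
    Covers ((Over.pullback t).map q).left := by
  exact hq.pullback (pullback.fst Q.hom t) _ (pullback.fst G.hom t) (HomSplitLocal.isPullback_map q t).flip

end Coset

variable {M : Type} [AddCommGroup M] {Q : Over S} [GrpObj Q]

theorem map_one_comp {X : Over S} [GrpObj X] {U : Scheme.{u}} (t : U ⟶ S) {Y : Over U} (y : Y ⟶ Red.bc t X)
    {Z : Over S} [GrpObj Z] (v : X ⟶ Z) (hv : v = 1) : y ≫ (Over.pullback t).map v = 1 := by
  refine (DSPtsLib.theta_bijective t).1 ?_
  rw [theta_comp_map, hv, MonObj.comp_one, theta_one]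

theorem triv_restrict (u : Red.DS S M ⟶ Q) {U T : Scheme.{u}} (t : U ⟶ S) {g : T ⟶ U} (h : Triv u (g ≫ t)) :
    Triv (restrict u t) g := by
  intro Y q y
  refine (DSPtsLib.theta_bijective t).1 ?_
  rw [restrict, ← Category.assoc, theta_comp_map, theta_one]
  exact h _ ((Over.map t).map q ≫ Over.homMk (𝟙 T) (Category.id_comp _)) _

theorem one_bcHom {U : Scheme.{u}} (t : U ⟶ S) {Y : Over U} :
    (1 : Y ⟶ Red.bc t (Red.DS S M)) ≫ bcHom t M = 1 :=
  (eq_one_iff_dsCh _).mpr fun m => by rw [dsCh_bcHom, theta_one, dsCh_one]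

theorem DSmap_mk_subtype (L : AddSubgroup M) :
    Red.DSmap S (QuotientAddGroup.mk' L) ≫ Red.DSmap S L.subtype = 1 := by
  rw [comp_DSmap_eq_one_iff]
  intro m
  rw [← Category.id_comp (Red.DSmap S _), dsCh_DSmap,
    show QuotientAddGroup.mk' L (L.subtype m) = 0 from (QuotientAddGroup.eq_zero_iff _).mpr m.2, dsCh_zero]

/-- If the characters in `L` are trivial on `H` and over `s` the kernel `D(M/L)` maps into `H`, then `Q = D(L)` near
`s`. -/
theorem exists_clopen_iso_core [AddGroup.FG M] {H : Over S} [GrpObj H] (hH : SGA3x.IsMultTypeFT H)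
    (i : H ⟶ Red.DS S M) [IsMonHom i] [Mono i] (q : Red.DS S M ⟶ Q) [IsMonHom q]
    (hc : IsCosetMap i q) (hq : Covers q.left) (L : AddSubgroup M) (hL : i ≫ Red.DSmap S L.subtype = 1)
    (s : S) (hs : Triv (Red.DSmap S (QuotientAddGroup.mk' L) ≫ q) (S.fromSpecResidueField s)) :
    ∃ W : S.Opens, s ∈ W ∧ IsClosed (W : Set S) ∧ Red.IsSplitTorusWith L (Red.bc W.ι Q) := by
  haveI := isMonHom_DSmap (S := S) (QuotientAddGroup.mk' L)
  haveI := mono_DSmap_of_surjective (S := S) (QuotientAddGroup.mk' L) (QuotientAddGroup.mk'_surjective L)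
  haveI := addGroupFG_quotient L
  haveI := addGroupFG_subgroup L
  obtain ⟨ψ, hψ⟩ := exists_lift_quotient L i fun m hm => (comp_DSmap_eq_one_iff _ _).mp hL ⟨m, hm⟩
  haveI : IsMonHom (ψ ≫ Red.DSmap S (QuotientAddGroup.mk' L)) := hψ ▸ inferInstance
  haveI : IsMonHom ψ := isMonHom_of_comp_mono ψ (Red.DSmap S (QuotientAddGroup.mk' L)) inferInstance
  haveI : Mono (ψ ≫ Red.DSmap S (QuotientAddGroup.mk' L)) := hψ ▸ inferInstance
  haveI : Mono ψ := mono_of_mono ψ (Red.DSmap S (QuotientAddGroup.mk' L))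
  obtain ⟨W, hWc, hWm, hWi⟩ := Groth.Agent.S5275.result H (Red.DS S (M ⧸ L)) hH (isMultTypeFT_DS S _) ψ
  have hsW : s ∈ W := by
    rw [hWm]
    let g := S.fromSpecResidueField s
    let D := Red.DS S (M ⧸ L)
    let y : (Over.map g).obj (Red.bc g D) ⟶ D := DSPtsLib.theta g (𝟙 _)
    have h1 : (1 : (Over.map g).obj (Red.bc g D) ⟶ Red.DS S M) ≫ q =
        (y ≫ Red.DSmap S (QuotientAddGroup.mk' L)) ≫ q := by
      rw [MonObj.one_comp, Category.assoc]
      exact (hs _ (Over.homMk (Red.bc g D).hom rfl) y).symm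
    obtain ⟨h, hh⟩ := (hc _ _ _).mp h1
    replace hh := hh.trans (_root_.one_mul (h ≫ i))
    rw [← hψ, ← Category.assoc, cancel_mono] at hh
    obtain ⟨a, rfl⟩ := (DSPtsLib.theta_bijective g).2 h
    have h2 : a ≫ (Over.pullback g).map ψ = 𝟙 _ :=
      (DSPtsLib.theta_bijective g).1 (by rw [theta_comp_map]; exact hh.symm)
    haveI : IsSplitEpi ((Over.pullback g).map ψ) := ⟨⟨⟨a, h2⟩⟩⟩
    haveI := isIso_of_mono_of_isSplitEpi ((Over.pullback g).map ψ)
    exact inferInstanceAs (IsIso ((Over.forget _).map ((Over.pullback g).map ψ)))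
  refine ⟨W, hsW, hWc, ?_⟩
  haveI : IsIso ((Over.pullback W.ι).map ψ) := by
    haveI : IsIso ((Over.forget _).map ((Over.pullback W.ι).map ψ)) := hWi
    exact isIso_of_reflects_iso _ (Over.forget _)
  haveI := isMonHom_bcHom (S := S) (M := M ⧸ L) W.ι
  haveI := isMonHom_restrict q W.ι
  haveI := isMonHom_DSmap (S := W) L.subtype
  let iW : Red.bc W.ι H ⟶ Red.DS W M := (Over.pullback W.ι).map i ≫ bcHom W.ι M
  let ψW : Red.bc W.ι H ⟶ Red.DS W (M ⧸ L) := (Over.pullback W.ι).map ψ ≫ bcHom W.ι (M ⧸ L)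
  haveI : IsIso (bcHom (S := S) W.ι (M ⧸ L)) := inferInstanceAs (IsIso (bcIso W.ι (M ⧸ L)).hom)
  haveI : IsIso ψW := IsIso.comp_isIso
  have hfac : ψW ≫ Red.DSmap W (QuotientAddGroup.mk' L) = iW := by
    show ((Over.pullback W.ι).map ψ ≫ bcHom W.ι (M ⧸ L)) ≫ _ = (Over.pullback W.ι).map i ≫ bcHom W.ι M
    rw [Category.assoc, ← map_DSmap_bcHom, ← Category.assoc, ← Functor.map_comp, hψ]
  haveI : IsMonHom (bcIso (S := S) W.ι M).symm.hom := isMonHom_bcInv W.ι
  have hcW : IsCosetMap iW (restrict q W.ι) := isCosetMap_iso (isCosetMap_bc hc W.ι) (bcIso W.ι M).symm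
  have hqW : Covers (restrict q W.ι).left := covers_iso (covers_bc hq W.ι) (bcIso W.ι M).symm
  have hiq : i ≫ q = 1 := by
    rw [← MonObj.one_comp (X := H) q]
    exact ((hc _ _ _).mpr ⟨𝟙 H, by rw [_root_.one_mul, Category.id_comp]⟩).symm
  obtain ⟨g₁, ⟨hg₁, hg₁'⟩, -⟩ := FpqcDescLib.exists_unique_hom hqW hcW (Red.DSmap W L.subtype) (by
    rw [← hfac, Category.assoc, DSmap_mk_subtype]
    exact MonObj.comp_one _)
  obtain ⟨g₂, hg₂', hg₂⟩ := exists_desc (restrict q W.ι) L (by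
    rw [← cancel_epi ψW, ← Category.assoc, hfac, MonObj.comp_one]
    show ((Over.pullback W.ι).map i ≫ bcHom W.ι M) ≫ restrict q W.ι = 1
    rw [restrict, Category.assoc, bcHom_bcInv_assoc, ← Functor.map_comp]
    have := map_one_comp W.ι (𝟙 (Red.bc W.ι H)) _ hiq
    rwa [Category.id_comp] at this)
  haveI := hqW.over_epi
  haveI := (covers_DSmap (S := (W : Scheme.{u})) L.subtype L.subtype_injective).over_epi
  let e : Red.bc W.ι Q ≅ Red.DS W L :=
    ⟨g₁, g₂, by rw [← cancel_epi (restrict q W.ι), ← Category.assoc, hg₁, hg₂, Category.comp_id],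
      by rw [← cancel_epi (Red.DSmap (W : Scheme.{u}) L.subtype), ← Category.assoc, hg₂, hg₁, Category.comp_id]⟩
  haveI : IsMonHom e.hom := hg₁'
  exact ⟨Grp.mkIso' e⟩

/-- The quotient of a diagonalisable group by a subgroup of multiplicative type is diagonalisable on a clopen
neighbourhood of each point. -/
theorem exists_clopen_split_quotient [AddGroup.FG M] {T H : Over S} [GrpObj T] [GrpObj H]
    (hT : Red.IsSplitTorusWith M T) (hH : SGA3x.IsMultTypeFT H) (i : H ⟶ T) [IsMonHom i] [Mono i] (q : T ⟶ Q)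
    [IsMonHom q] (hc : IsCosetMap i q) (hq : Covers q.left) (s : S) :
    ∃ V : S.Opens, s ∈ V ∧ IsClosed (V : Set S) ∧ ∃ L : AddSubgroup M, Red.IsSplitTorusWith L (Red.bc V.ι Q) := by
  obtain ⟨e⟩ := hT
  let e₀ : Red.DS S M ≅ T := ((Grp.forget _).mapIso e).symm
  haveI : IsMonHom e₀.hom := e.inv.hom.isMonHom_hom
  replace hc := isCosetMap_iso hc e₀
  replace hq := covers_iso hq e₀
  revert hc hq
  haveI : IsMonHom e₀.inv := e.hom.hom.isMonHom_hom
  generalize hi' : i ≫ e₀.inv = i'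
  generalize hq' : e₀.hom ≫ q = q'
  intro hc hq
  haveI : IsMonHom i' := hi' ▸ inferInstance
  haveI : Mono i' := hi' ▸ inferInstance
  haveI : IsMonHom q' := hq' ▸ inferInstance
  clear hi' hq'
  -- the characters trivial on `H` over `s`
  let g := S.fromSpecResidueField s
  haveI := AntiAffine.isSeparated_grp (k := S.residueField s) (Red.bc g Q)
  haveI := isMonHom_restrict q' g
  let κ := Spec (S.residueField s)
  let L : AddSubgroup M := kerAnn (restrict q' g) (𝟙 κ)
  have hiq : i' ≫ q' = 1 := by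
    rw [← MonObj.one_comp (X := H) q']
    exact ((hc _ _ _).mpr ⟨𝟙 H, by rw [_root_.one_mul, Category.id_comp]⟩).symm
  have hH0 : Triv (i' ≫ Red.DSmap S L.subtype) g := by
    refine HomUnitLocus.triv_of_map_eq_one ?_
    haveI := isMonHom_bcHom (S := S) (M := L) g
    haveI : IsIso (bcHom (S := S) g L) := inferInstanceAs (IsIso (bcIso g L).hom)
    rw [← cancel_mono (bcHom g L)]
    refine Eq.trans ?_ (one_bcHom g).symm
    rw [Functor.map_comp, Category.assoc, map_DSmap_bcHom,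
      ← Category.assoc, comp_DSmap_eq_one_iff]
    intro m
    refine m.2 _ (Over.homMk (Red.bc g H).hom (Category.comp_id _)) _ ?_
    rw [restrict, Category.assoc, bcHom_bcInv_assoc, ← Functor.map_comp]
    have := map_one_comp g (𝟙 (Red.bc g H)) _ hiq
    rwa [Category.id_comp] at this
  haveI := isMonHom_DSmap (S := S) L.subtype
  haveI := isMonHom_DSmap (S := S) (QuotientAddGroup.mk' L)
  have hK : Triv (Red.DSmap S (QuotientAddGroup.mk' L) ≫ q') g := by
    refine HomUnitLocus.triv_of_map_eq_one ?_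
    haveI : IsIso (bcInv (S := S) g (M ⧸ L)) := inferInstanceAs (IsIso (bcIso g (M ⧸ L)).inv)
    have h1 := triv_kerAnn (K := S.residueField s) (𝟙 κ) (restrict q' g) (Red.DS κ (M ⧸ L)) (Over.homMk (Red.DS κ (M ⧸ L)).hom (Category.comp_id _)) (𝟙 _)
    rw [Category.id_comp, DSmap_restrict, restrict] at h1
    rw [← cancel_epi (bcInv g (M ⧸ L)), h1, MonObj.comp_one]
  haveI := addGroupFG_subgroup L
  haveI := isAffineHom_DS (S := S) (M := L)
  haveI : LocallyOfFiniteType (Red.DS S L).hom := MultTypeLft.lft_DS S L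
  obtain ⟨U, hUc, hUm, hUt⟩ := HomUnitLocus.main (u := i' ≫ Red.DSmap S L.subtype) hH (Or.inr inferInstance)
  obtain ⟨u₀, hu₀⟩ : ∃ x : U, U.ι x = s := ⟨⟨s, (hUm s).mpr hH0⟩, rfl⟩
  subst hu₀
  -- restrict to `U`
  haveI : IsMonHom (bcIso (S := S) U.ι M).symm.hom := isMonHom_bcInv U.ι
  haveI := isMonHom_bcHom (S := S) (M := M) U.ι
  haveI : IsIso (bcHom (S := S) U.ι M) := inferInstanceAs (IsIso (bcIso U.ι M).hom)
  haveI := isMonHom_restrict q' U.ι
  obtain ⟨W, hW, hWc, hWs⟩ := exists_clopen_iso_core (MultTypeBC.isMultTypeFT_bc U.ι hH)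
    ((Over.pullback U.ι).map i' ≫ bcHom U.ι M) (restrict q' U.ι)
    (isCosetMap_iso (isCosetMap_bc hc U.ι) (bcIso U.ι M).symm) (covers_iso (covers_bc hq U.ι) (bcIso U.ι M).symm) L
    (by
      haveI := isMonHom_bcHom (S := S) (M := L) U.ι
      rw [Category.assoc, ← map_DSmap_bcHom, ← Category.assoc, ← Functor.map_comp,
        HomUnitLocus.map_eq_one_of_triv hUt]
      exact one_bcHom _)
    u₀ (by
      rw [DSmap_restrict]
      refine triv_restrict _ _ ?_
      rw [← Scheme.Hom.SpecMap_residueFieldMap_fromSpecResidueField U.ι u₀]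
      exact hK.comp _)
  refine ⟨U.ι ''ᵁ W, ⟨u₀, hW, rfl⟩, ?_, L, ?_⟩
  · rw [Scheme.Hom.coe_image]
    exact (Topology.IsClosedEmbedding.mk U.ι.isOpenEmbedding.isEmbedding (by
      rw [Scheme.Opens.range_ι]; exact hUc)).isClosedMap _ hWc
  · obtain ⟨e1⟩ := MultTypeBC.bc_bc W.ι U.ι Q
    obtain ⟨e2⟩ := hWs
    exact isSplit_bc (U.ι.isoImage W).inv (U.ι.isoImage_inv_ι W) ⟨e1.symm ≪≫ e2⟩

/-- The quotient of a torus split over `U` is a split torus on a clopen neighbourhood in `U` of each point. -/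
theorem exists_clopen_split_torus_quotient {T H : Over S} [GrpObj T] [GrpObj H] (hH : SGA3x.IsMultTypeFT H)
    (i : H ⟶ T) [IsMonHom i] [Mono i] (q : T ⟶ Q) [IsMonHom q] (hq : RedSub.IsQuotient i q) {U : Scheme.{u}}
    (t : U ⟶ S) {r : ℕ} (hT : Red.IsSplitTorusWith (Fin r → ℤ) (Red.bc t T)) (u₀ : U) :
    ∃ V : U.Opens, u₀ ∈ V ∧ IsClosed (V : Set U) ∧
      ∃ r' : ℕ, r' ≤ r ∧ Red.IsSplitTorusWith (Fin r' → ℤ) (Red.bc (V.ι ≫ t) Q) := by
  obtain ⟨_, _, _, hsq⟩ := hq
  obtain ⟨V, hV, hVc, L, ⟨e⟩⟩ := exists_clopen_split_quotient hT (MultTypeBC.isMultTypeFT_bc t hH)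
    ((Over.pullback t).map i) ((Over.pullback t).map q)
    (isCosetMap_bc (FpqcDescLib.isCosetMap_of_isPullback hsq) t)
    (covers_bc (FpqcDescLib.covers_of_isCovering (FpqcDescLib.isCovering_of_lfp q.left)) t) u₀
  haveI := addGroupFG_subgroup L
  haveI : Module.Finite ℤ L := Module.Finite.iff_addGroup_fg.mpr inferInstance
  haveI : IsAddTorsionFree L := L.subtype_injective.isAddTorsionFree L.subtype
  obtain ⟨e'⟩ := dsGrpIso (S := (V : Scheme.{u})) (Module.finBasis ℤ L).equivFun.toAddEquiv.symm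
  obtain ⟨e1⟩ := MultTypeBC.bc_bc V.ι t Q
  refine ⟨V, hV, hVc, Module.finrank ℤ L, ?_, ⟨e1.symm ≪≫ e ≪≫ e'⟩⟩
  simpa using LinearMap.finrank_le_finrank_of_injective (f := L.subtype.toIntLinearMap) L.subtype_injective

/-- The base change along the identity. -/
theorem bc_id (X : Over S) [GrpObj X] : Nonempty (Grp.mk (Red.bc (𝟙 S) X) ≅ Grp.mk X) :=
  ⟨(Functor.mapGrpNatIso (Over.pullbackId (X := S)) ≪≫ Functor.mapGrpIdIso).app (Grp.mk X)⟩

end Groth.Agent.Sga3xB

end
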