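import Groth.Agent.Sga3xB.CocharGlobal
import Groth.Agent.SchTop.Closed

/-!
# Split subtori over connected normal bases
-/

set_option autoImplicit false
set_option linter.style.haveILetI false
set_option linter.unusedSectionVars false

universe u

open CategoryTheory CategoryTheory.Limits AlgebraicGeometry MonoidalCategory CartesianMonoidalCategory MonObj GrpObj

noncomputable section

namespace Groth.Agent.Sga3xB

open Groth.Agent.GrpSchLib

variable {S : Scheme.{u}}

/-- A connected locally noetherian scheme with domains as stalks is integral. -/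
theorem isIntegral_of_connected_locallyNoetherian [ConnectedSpace ↥S] [IsLocallyNoetherian S]
    (h : ∀ x : S, IsDomain (S.presheaf.stalk x)) : IsIntegral S := by
  haveI : ∀ x : S, _root_.IsReduced (S.presheaf.stalk x) := fun x => by
    haveI := h x
    infer_instance
  haveI : IsReduced S := isReduced_of_isReduced_stalk S
  let y : S := Classical.arbitrary _
  obtain ⟨Z, hZ, -⟩ := exists_mem_irreducibleComponents_subset_of_isIrreducible _
    (isIrreducible_singleton (x := y))
  have hop : IsOpen Z := by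
    refine isOpen_iff_forall_mem_open.mpr fun x hxZ => ?_
    obtain ⟨U, hU, hxU, -⟩ := exists_isAffineOpen_mem_and_subset (show x ∈ (⊤ : S.Opens) from trivial)
    haveI : IsNoetherianRing Γ(S, U) := IsLocallyNoetherian.component_noetherian ⟨U, hU⟩
    haveI : TopologicalSpace.NoetherianSpace (U : Set S) := noetherianSpace_of_isAffineOpen U hU
    let bad : Set (Set S) := {W ∈ irreducibleComponents S | (W ∩ U).Nonempty ∧ W ≠ Z}
    have hbad : bad.Finite := by
      let v : ↥(U : Set S) → S := Subtype.val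
      let cl : Set ↥(U : Set S) → Set S := fun W => closure (Set.image v W)
      have himg : bad ⊆ Set.image cl (irreducibleComponents ↥(U : Set S)) := by
        rintro W ⟨hW, hWU, -⟩
        refine ⟨Subtype.val ⁻¹' W, preimage_mem_irreducibleComponents hW U.2.isOpenEmbedding_subtypeVal ?_, ?_⟩
        · rw [Subtype.range_coe]
          exact hWU
        · show closure (Subtype.val '' (Subtype.val ⁻¹' W)) = W
          rw [Subtype.image_preimage_coe, Set.inter_comm]
          exact ((closure_mono Set.inter_subset_left).antisymm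
            (closure_minimal (subset_closure_inter_of_isPreirreducible_of_isOpen hW.1.2 U.2 hWU) isClosed_closure)).trans
              (isClosed_of_mem_irreducibleComponents W hW).closure_eq
      exact (TopologicalSpace.NoetherianSpace.finite_irreducibleComponents.image _).subset himg
    refine ⟨(U : Set S) ∩ (⋃ W ∈ bad, W)ᶜ, ?_, U.2.inter ?_, hxU, ?_⟩
    · rintro z ⟨hzU, hz⟩
      obtain ⟨W, hW, hzW⟩ := Set.mem_sUnion.1 ((sUnion_irreducibleComponents (X := S)).ge (Set.mem_univ z))
      by_contra hzZ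
      exact hz (Set.mem_iUnion₂.2 ⟨W, ⟨hW, ⟨z, hzW, hzU⟩, fun e => hzZ (e ▸ hzW)⟩, hzW⟩)
    · exact (hbad.isClosed_biUnion fun W hW => isClosed_of_mem_irreducibleComponents W hW.1).isOpen_compl
    · intro hxb
      obtain ⟨W, hW, hxW⟩ := Set.mem_iUnion₂.1 hxb
      haveI := h x
      exact hW.2.2 (SchTop.irreducibleComponents_eq x hW.1 hZ hxW hxZ)
  have hu : Z = Set.univ :=
    IsClopen.eq_univ ⟨isClosed_of_mem_irreducibleComponents Z hZ, hop⟩ hZ.1.nonempty
  haveI : IrreducibleSpace S := by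
    rw [irreducibleSpace_def, Set.top_eq_univ, ← hu]
    exact hZ.1
  exact isIntegral_of_irreducibleSpace_of_isReduced S

theorem isMonHom_pullbackComp_inv {U V : Scheme.{u}} (l : V ⟶ U) (t : U ⟶ S) (X : Over S) [GrpObj X] :
    IsMonHom (M := Red.bc l (Red.bc t X)) (N := Red.bc (l ≫ t) X) ((Over.pullbackComp l t).inv.app X) := by
  have h := (((Functor.mapGrpCompIso).symm ≪≫
    Functor.mapGrpNatIso (Over.pullbackComp l t).symm).app (Grp.mk X)).hom.hom.isMonHom_hom
  have h' : IsMonHom (M := Red.bc l (Red.bc t X)) (N := Red.bc (l ≫ t) X)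
      (𝟙 ((Over.pullback l).obj ((Over.pullback t).obj X)) ≫ (Over.pullbackComp l t).inv.app X) := h
  simpa using h'

/-- Maps out of a flat scheme agree if they agree after a schematically dominant base change. -/
theorem eq_of_dom {V : Scheme.{u}} (l : V ⟶ S) [IsSchemeTheoreticallyDominant l] [QuasiCompact l] {D G : Over S}
    [Flat D.hom] [IsSeparated G.hom] (a b : D ⟶ G) (h : (Over.pullback l).map a = (Over.pullback l).map b) : a = b := by
  haveI : QuasiCompact (pullback.fst D.hom l) :=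
    MorphismProperty.of_isPullback (P := @QuasiCompact) (IsPullback.of_hasPullback _ _).flip ‹_›
  refine Over.OverMorphism.ext (ext_of_schemDom (g := G.hom) (pullback.fst D.hom l) _ _
    ((Over.w a).trans (Over.w b).symm) ?_)
  rw [← HomSplitLocal.map_fst a, ← HomSplitLocal.map_fst b, h]

theorem existsUnique_of_eq [IsIntegral S] [QuasiSeparatedSpace S]
    (hnorm : ∀ x : S, IsDomain (S.presheaf.stalk x) ∧ IsIntegrallyClosed (S.presheaf.stalk x))
    {M : Type} [AddCommGroup M] {G : Over S} [GrpObj G] (hG : SGA3x.IsMultTypeFT G)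
    {g : Spec (S.presheaf.stalk (genericPoint S)) ⟶ S} (hg : g = S.fromSpecStalk (genericPoint S))
    (lamK : Red.bc g (Red.DS S M) ⟶ Red.bc g G) [IsMonHom lamK] :
    ∃! lam : Red.DS S M ⟶ G, IsMonHom lam ∧ (Over.pullback g).map lam = lamK := by
  subst hg
  exact existsUnique_extension hnorm hG lamK

/-- A homomorphism over a nonempty open of an integral normal scheme extends. -/
theorem exists_extension_of_open [IsIntegral S] [QuasiSeparatedSpace S]
    (hnorm : ∀ x : S, IsDomain (S.presheaf.stalk x) ∧ IsIntegrallyClosed (S.presheaf.stalk x))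
    {M : Type} [AddCommGroup M] {G : Over S} [GrpObj G] (hG : SGA3x.IsMultTypeFT G)
    (U : S.Opens) [Nonempty U] (w : Red.bc U.ι (Red.DS S M) ⟶ Red.bc U.ι G) [IsMonHom w] :
    ∃ v : Red.DS S M ⟶ G, IsMonHom v ∧ (Over.pullback U.ι).map v = w := by
  haveI := isAffineHom_of_isMultTypeFT hG
  let f := S.fromSpecStalk (genericPoint S)
  have hη : genericPoint S ∈ U :=
    ((genericPoint_spec S).mem_open_set_iff U.isOpen).mpr (by simpa using ‹Nonempty U›)
  haveI : Subsingleton (Spec (S.presheaf.stalk (genericPoint S))) :=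
    inferInstanceAs (Subsingleton (PrimeSpectrum S.functionField))
  have hr : Set.range f ⊆ Set.range U.ι := by
    rintro _ ⟨z, rfl⟩
    rw [Scheme.Opens.range_ι, Subsingleton.elim z (IsLocalRing.closedPoint _)]
    show S.fromSpecStalk _ _ ∈ U
    erw [Scheme.fromSpecStalk_closedPoint]
    exact hη
  let l : Spec (S.presheaf.stalk (genericPoint S)) ⟶ (U : Scheme.{u}) := IsOpenImmersion.lift U.ι f hr
  have hl : l ≫ U.ι = f := IsOpenImmersion.lift_fac _ _ _
  haveI : IsIntegral (U : Scheme.{u}) := isIntegral_of_isOpenImmersion U.ι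
  haveI : IsDominant l := ⟨by
    rw [denseRange_iff_closure_range, U.ι.isOpenEmbedding.isInducing.closure_eq_preimage_closure_image,
      ← Set.univ_subset_iff]
    intro z _
    rw [Set.mem_preimage, ← Set.range_comp]
    refine closure_mono (s := {genericPoint S}) ?_ (((genericPoint_spec S).def).symm ▸ Set.mem_univ _)
    rw [Set.singleton_subset_iff]
    refine ⟨IsLocalRing.closedPoint _, ?_⟩
    show U.ι (l (IsLocalRing.closedPoint _)) = _
    erw [← Scheme.Hom.comp_apply, hl]
    exact Scheme.fromSpecStalk_closedPoint⟩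
  haveI : IsSchemeTheoreticallyDominant l := IsSchemeTheoreticallyDominant.of_isDominant l
  haveI : QuasiSeparatedSpace (U : Scheme.{u}) :=
    QuasiSeparatedSpace.of_isOpenEmbedding U.ι.isOpenEmbedding
  haveI : QuasiCompact l := QuasiCompact.of_comp l (terminal.from _)
  let cD : Red.bc (l ≫ U.ι) (Red.DS S M) ≅ Red.bc l (Red.bc U.ι (Red.DS S M)) := (Over.pullbackComp l U.ι).app (Red.DS S M)
  let cG : Red.bc (l ≫ U.ι) G ≅ Red.bc l (Red.bc U.ι G) := (Over.pullbackComp l U.ι).app G
  haveI : IsMonHom cG.inv := isMonHom_pullbackComp_inv l U.ι G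
  haveI : IsMonHom cD.inv := isMonHom_pullbackComp_inv l U.ι (Red.DS S M)
  haveI : IsMonHom cD.symm.hom := isMonHom_pullbackComp_inv l U.ι (Red.DS S M)
  haveI : IsMonHom cD.hom := (inferInstance : IsMonHom cD.symm.inv)
  obtain ⟨v, ⟨hv, hvw⟩, -⟩ := existsUnique_of_eq hnorm hG hl (cD.hom ≫ (Over.pullback l).map w ≫ cG.inv)
  refine ⟨v, hv, ?_⟩
  haveI : Flat (Red.bc U.ι (Red.DS S M)).hom := by
    haveI := flat_DS (S := S) M
    exact MorphismProperty.of_isPullback (P := @Flat) (IsPullback.of_hasPullback (Red.DS S M).hom U.ι) ‹_›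
  haveI : IsSeparated (Red.bc U.ι G).hom := isSeparated_bc G U.ι
  refine eq_of_dom l _ _ ?_
  have hn := (Over.pullbackComp l U.ι).inv.naturality v
  rw [hvw] at hn
  change (Over.pullback l).map ((Over.pullback U.ι).map v) ≫ cG.inv =
    cD.inv ≫ cD.hom ≫ (Over.pullback l).map w ≫ cG.inv at hn
  rw [Iso.inv_hom_id_assoc] at hn
  exact (cancel_mono cG.inv).mp hn

/-- A homomorphism from a split torus factors through the greatest split subtorus. -/
theorem exists_lift_greatest [ConnectedSpace ↥S] {T T₀ : Over S} [GrpObj T] [GrpObj T₀]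
    (hM : SGA3x.IsMultTypeFT T) (j₀ : T₀ ⟶ T)
    (hmax : ∀ (T' : Over S) [GrpObj T'] (j' : T' ⟶ T) [IsMonHom j'] [Mono j'] (r' : ℕ),
      Red.IsSplitTorusWith (Fin r' → ℤ) T' → ∃ g : T' ⟶ T₀, g ≫ j₀ = j')
    {r : ℕ} (v : Red.DS S (Fin r → ℤ) ⟶ T) [IsMonHom v] : ∃ v₀ : Red.DS S (Fin r → ℤ) ⟶ T₀, v₀ ≫ j₀ = v := by
  haveI := isAffineHom_of_isMultTypeFT hM
  haveI := MultTransp18.lfp_multTypeFT hM
  obtain ⟨V, hsV, hVc, L, h, hh, hhm, hfac⟩ := exists_clopen_image v (Classical.arbitrary _)
  have hV : V = ⊤ := SetLike.coe_injective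
    ((IsClopen.eq_univ ⟨hVc, V.2⟩ ⟨_, hsV⟩).trans (TopologicalSpace.Opens.coe_top).symm)
  obtain ⟨h', hh', hhm', hfac'⟩ := descend_top hV L h hfac
  haveI := addGroupFG_subgroup L
  haveI : Module.Finite ℤ L := Module.Finite.iff_addGroup_fg.mpr inferInstance
  obtain ⟨e⟩ := dsGrpIso (S := S) (Module.finBasis ℤ L).equivFun.toAddEquiv.symm
  obtain ⟨g, hg⟩ := hmax (Red.DS S L) h' _ ⟨e⟩
  exact ⟨Red.DSmap S L.subtype ≫ g, by rw [Category.assoc, hg, hfac']⟩

/-- A morphism factors through a monomorphism if it does so locally on the base. -/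
theorem exists_lift_of_local {T T₀ T₁ : Over S} (j₀ : T₀ ⟶ T) [Mono j₀] (j₁ : T₁ ⟶ T)
    (h : ∀ s : S, ∃ U : S.Opens, s ∈ U ∧ ∃ g : Red.bc U.ι T₁ ⟶ Red.bc U.ι T₀,
      g ≫ (Over.pullback U.ι).map j₀ = (Over.pullback U.ι).map j₁) : ∃ g : T₁ ⟶ T₀, g ≫ j₀ = j₁ := by
  choose U hU g hg using h
  haveI : Mono j₀.left := Over.mono_left_of_mono j₀
  let 𝒰 : T₁.left.OpenCover := preimageCover T₁.hom (fun s => (U s).ι) (fun s => inferInstance)
    (fun s => by rw [Scheme.Opens.range_ι]; exact hU s)
  let i : ∀ s, pullback T₁.hom (U s).ι ⟶ T₁.left := fun s => pullback.fst _ _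
  let x : ∀ s, pullback T₁.hom (U s).ι ⟶ T₀.left := fun s => (g s).left ≫ pullback.fst T₀.hom (U s).ι
  have hx : ∀ s, x s ≫ j₀.left = i s ≫ j₁.left := fun s => by
    show ((g s).left ≫ pullback.fst T₀.hom (U s).ι) ≫ j₀.left = pullback.fst _ _ ≫ j₁.left
    rw [Category.assoc, ← HomSplitLocal.map_fst j₀, ← Category.assoc, ← Over.comp_left, hg, HomSplitLocal.map_fst]
  have hov : ∀ s t : S, pullback.fst (i s) (i t) ≫ x s = pullback.snd (i s) (i t) ≫ x t := fun s t => by
    rw [← cancel_mono j₀.left, Category.assoc (pullback.fst (i s) (i t)) (x s),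
      Category.assoc (pullback.snd (i s) (i t)) (x t), hx, hx, ← Category.assoc, pullback.condition,
      Category.assoc]
  let gl : T₁.left ⟶ T₀.left := Scheme.Cover.glueMorphisms 𝒰 x hov
  have hgl : gl ≫ j₀.left = j₁.left := Scheme.Cover.hom_ext 𝒰 _ _ fun (s : S) => by
    show i s ≫ gl ≫ j₀.left = i s ≫ j₁.left
    rw [← Category.assoc, show i s ≫ gl = x s from Scheme.Cover.ι_glueMorphisms 𝒰 x hov s, hx]
  refine ⟨Over.homMk gl ?_, Over.OverMorphism.ext hgl⟩
  rw [← Over.w j₀, ← Category.assoc, hgl, Over.w j₁]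

end Groth.Agent.Sga3xB

end
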