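import Groth.Agent.Sga3xB.Charts
import Groth.Agent.TransLib.Finite
import Mathlib.AlgebraicGeometry.Noetherian

/-!
# Closed subschemes classified by a fibrewise dense family of finite flat subschemes

For `H` locally of finite type over `S` and a directed family `W n → H` of finite flat `S`-schemes which is
schematically dense in each fibre, the points `x` of a locally Noetherian `X` with `f (H × x) ⊆ E` form a closed
subscheme, which is cut out by one `W n` when `X` is Noetherian.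
-/

universe u

open CategoryTheory CategoryTheory.Limits MonoidalCategory CartesianMonoidalCategory AlgebraicGeometry TensorProduct
open TopologicalSpace

set_option backward.isDefEq.respectTransparency false

namespace Groth.Agent.Sga3xB

variable {S : Scheme.{u}}

theorem le_ker_iff_factors {Z X : Over S} (c : Z ⟶ X) [IsClosedImmersion c.left] {P : Over S} (x : P ⟶ X) :
    c.left.ker ≤ x.left.ker ↔ ∃ z : P ⟶ Z, z ≫ c = x := by
  constructor
  · intro h
    refine ⟨Over.homMk (IsClosedImmersion.lift c.left x.left h) ?_, Over.OverMorphism.ext (IsClosedImmersion.lift_fac _ _ _)⟩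
    rw [← Over.w c, IsClosedImmersion.lift_fac_assoc, Over.w x]
  · rintro ⟨z, rfl⟩
    exact Scheme.Hom.le_ker_comp z.left c.left

/-- A closed subscheme of `H ×_S Z` containing all `W n ×_S Z` is everything. -/
theorem section_of_dense {H Z : Over S} [LocallyOfFiniteType H.hom] [IsLocallyNoetherian Z.left]
    {ι : Type*} (W : ι → Over S) [∀ n, Flat (W n).hom] (ν : ∀ n, W n ⟶ H)
    (hd : FibreDense H.hom (fun n => (W n).hom) (fun n => (ν n).left))
    {E : Scheme.{u}} (e : E ⟶ (H ⊗ Z).left) [IsClosedImmersion e]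
    (he : ∀ n, ∃ l : (W n ⊗ Z).left ⟶ E, l ≫ e = (ν n ▷ Z).left) :
    ∃ σ : (H ⊗ Z).left ⟶ E, σ ≫ e = 𝟙 _ := by
  let π : (H ⊗ Z).left ⟶ S := (H ⊗ Z).hom
  have hsnd : (snd H Z).left ≫ Z.hom = π := Over.w _
  have hfst : (fst H Z).left ≫ H.hom = π := Over.w _
  have hz : ∀ z : (H ⊗ Z).left, ∃ (Y : Scheme.{u}) (c : Y ⟶ (H ⊗ Z).left), IsOpenImmersion c ∧
      z ∈ Set.range c ∧ ∃ l : Y ⟶ E, l ≫ e = c := by
    intro z
    obtain ⟨V, hV, hzV, -⟩ := exists_isAffineOpen_mem_and_subset (show π z ∈ (⊤ : S.Opens) from trivial)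
    obtain ⟨U, hU, hzU, hUV⟩ := exists_isAffineOpen_mem_and_subset
      (show (fst H Z).left z ∈ H.hom ⁻¹ᵁ V by
        show H.hom ((fst H Z).left z) ∈ V
        rw [← Scheme.Hom.comp_apply, hfst]; exact hzV)
    obtain ⟨T, hT, hzT, hTV⟩ := exists_isAffineOpen_mem_and_subset
      (show (snd H Z).left z ∈ Z.hom ⁻¹ᵁ V by
        show Z.hom ((snd H Z).left z) ∈ V
        rw [← Scheme.Hom.comp_apply, hsnd]; exact hzV)
    let R := Γ(S, V)
    let A := Γ(H.left, U)
    let C := Γ(Z.left, T)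
    let algA : Algebra Γ(S, V) Γ(H.left, U) := (H.hom.appLE V U hUV).hom.toAlgebra
    let algC : Algebra Γ(S, V) Γ(Z.left, T) := (Z.hom.appLE V T hTV).hom.toAlgebra
    have hjV : ∀ j : Idx (fun n => (ν n).left) U, j.2.1 ≤ (W j.1).hom ⁻¹ᵁ V := fun j x hx => by
      show (W j.1).hom x ∈ V
      rw [← Over.w (ν j.1), Scheme.Hom.comp_apply]; exact hUV (j.2.2.2 hx)
    let algB : ∀ j : Idx (fun n => (ν n).left) U, Algebra Γ(S, V) Γ((W j.1).left, j.2.1) :=
      fun j => ((W j.1).hom.appLE V j.2.1 (hjV j)).hom.toAlgebra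
    let φ : ∀ j : Idx (fun n => (ν n).left) U, Γ(H.left, U) →ₐ[Γ(S, V)] Γ((W j.1).left, j.2.1) := fun (j : Idx (fun n => (ν n).left) U) =>
      { toRingHom := ((ν j.1).left.appLE U j.2.1 j.2.2.2).hom
        commutes' := fun r => by
          show ((H.hom.appLE V U hUV) ≫ (ν j.1).left.appLE U j.2.1 j.2.2.2) r = (W j.1).hom.appLE V j.2.1 (hjV j) r
          rw [Scheme.Hom.appLE_comp_appLE]
          simp_rw [Over.w (ν j.1)] }
    have hflat : ∀ j : Idx (fun n => (ν n).left) U, Module.Flat Γ(S, V) Γ((W j.1).left, j.2.1) := fun j =>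
      (W j.1).hom.flat_appLE hV j.2.2.1 (hjV j)
    have hft : Algebra.FiniteType Γ(S, V) Γ(H.left, U) :=
      HasRingHomProperty.appLE @LocallyOfFiniteType H.hom inferInstance ⟨V, hV⟩ ⟨U, hU⟩ hUV
    have hC : IsNoetherianRing Γ(Z.left, T) := IsLocallyNoetherian.component_noetherian ⟨T, hT⟩
    have hCA : IsNoetherianRing (Γ(Z.left, T) ⊗[Γ(S, V)] Γ(H.left, U)) :=
      Algebra.FiniteType.isNoetherianRing Γ(Z.left, T) _
    have hA' : Spec.map (CommRingCat.ofHom (algebraMap Γ(S, V) Γ(H.left, U))) ≫ hV.fromSpec =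
        hU.fromSpec ≫ H.hom := by
      rw [RingHom.algebraMap_toAlgebra, CommRingCat.ofHom_hom, IsAffineOpen.SpecMap_appLE_fromSpec]
    have hC' : Spec.map (CommRingCat.ofHom (algebraMap Γ(S, V) Γ(Z.left, T))) ≫ hV.fromSpec =
        hT.fromSpec ≫ Z.hom := by
      rw [RingHom.algebraMap_toAlgebra, CommRingCat.ofHom_hom, IsAffineOpen.SpecMap_appLE_fromSpec]
    let c : Spec (CommRingCat.of (Γ(Z.left, T) ⊗[Γ(S, V)] Γ(H.left, U))) ⟶ (H ⊗ Z).left :=
      chart H.hom Z.hom hV.fromSpec hU.fromSpec hT.fromSpec hA' hC'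
    have hc : IsOpenImmersion c := isOpenImmersion_chart _ _ _ _ _ hA' hC'
    obtain ⟨J, hJ⟩ := GrpSchLib.factors_closed_iff e c
    have hJ0 : J = ⊥ := by
      refine (Submodule.eq_bot_iff _).mpr fun a ha => ?_
      refine eq_zero_baseChange φ (fun p hp => fibreInj_of_fibreDense hd (fun n => Over.w (ν n)) hU hV hUV
        (RingHom.algebraMap_toAlgebra _) φ (fun _ => rfl) p) Γ(Z.left, T) a fun j => ?_
      have hB : Spec.map (CommRingCat.ofHom (algebraMap Γ(S, V) Γ((W j.1).left, j.2.1))) ≫ hV.fromSpec =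
          j.2.2.1.fromSpec ≫ (W j.1).hom := by
        rw [RingHom.algebraMap_toAlgebra, CommRingCat.ofHom_hom, IsAffineOpen.SpecMap_appLE_fromSpec]
      obtain ⟨l, hl⟩ := he j.1
      let c' : Spec (CommRingCat.of (Γ(Z.left, T) ⊗[Γ(S, V)] Γ((W j.1).left, j.2.1))) ⟶ (W j.1 ⊗ Z).left :=
        chart (W j.1).hom Z.hom hV.fromSpec j.2.2.1.fromSpec hT.fromSpec hB hC'
      let m := CommRingCat.ofHom (Algebra.TensorProduct.map (AlgHom.id Γ(Z.left, T) Γ(Z.left, T)) (φ j)).toRingHom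
      have hcomp : c' ≫ (ν j.1 ▷ Z).left = Spec.map m ≫ c := by
        refine chart_comp H.hom Z.hom _ _ _ hA' hC' (W j.1).hom j.2.2.1.fromSpec hB (φ j) (ν j.1).left ?_ _ ?_ ?_
        · show Spec.map (CommRingCat.ofHom ((ν j.1).left.appLE U j.2.1 j.2.2.2).hom) ≫ _ = _
          rw [CommRingCat.ofHom_hom, IsAffineOpen.SpecMap_appLE_fromSpec]
        · exact congrArg CommaMorphism.left (whiskerRight_fst (ν j.1) Z)
        · exact congrArg CommaMorphism.left (whiskerRight_snd (ν j.1) Z)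
      have hle := (hJ (CommRingCat.of (Γ(Z.left, T) ⊗[Γ(S, V)] Γ((W j.1).left, j.2.1))) m).mp
        ⟨c' ≫ l, by rw [Category.assoc, hl, hcomp]⟩
      refine Eq.trans ?_ (RingHom.mem_ker.mp (hle ha))
      clear ha
      induction a using TensorProduct.induction_on with
      | zero => simp
      | tmul x w => rfl
      | add w w' hw hw' => simp only [map_add, hw, hw']
    obtain ⟨l, hl⟩ := (hJ (CommRingCat.of (Γ(Z.left, T) ⊗[Γ(S, V)] Γ(H.left, U))) (𝟙 _)).mpr (by simp [hJ0])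
    refine ⟨_, c, hc, ?_, l, by rw [hl, Spec.map_id, Category.id_comp]⟩
    rw [show Set.range c = _ from range_chart _ _ _ _ _ hA' hC']
    exact ⟨hU.range_fromSpec.ge hzU, hT.range_fromSpec.ge hzT⟩
  choose Y c hc hrange l hl using hz
  let 𝒰 : (H ⊗ Z).left.OpenCover := Scheme.Cover.mkOfCovers (H ⊗ Z).left Y c (fun z => ⟨z, hrange z⟩)
    fun z => hc z
  refine ⟨𝒰.glueMorphisms l fun x y => ?_, 𝒰.hom_ext _ _ fun z => ?_⟩
  · rw [← cancel_mono e, Category.assoc, Category.assoc]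
    erw [hl x, hl y]
    exact pullback.condition
  · rw [← Category.assoc, Scheme.Cover.ι_glueMorphisms, Category.comp_id]
    exact hl z

theorem exists_closed_universal {H X Y E : Over S} (f : H ⊗ X ⟶ Y) (i : E ⟶ Y) [IsClosedImmersion i.left]
    {ι : Type*} [Nonempty ι] (W : ι → Over S) [∀ n, IsFinite (W n).hom] [∀ n, Flat (W n).hom]
    [∀ n, LocallyOfFinitePresentation (W n).hom] (ν : ∀ n, W n ⟶ H)
    [LocallyOfFiniteType H.hom] [IsLocallyNoetherian X.left]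
    (hd : FibreDense H.hom (fun n => (W n).hom) (fun n => (ν n).left))
    (hdir : ∀ m n, ∃ k, (∃ a : W m ⟶ W k, a ≫ ν k = ν m) ∧ ∃ b : W n ⟶ W k, b ≫ ν k = ν n) :
    (∃ (Z : Over S) (c : Z ⟶ X), IsClosedImmersion c.left ∧
      ∀ (P : Over S) (x : P ⟶ X), (∃ z : P ⟶ Z, z ≫ c = x) ↔ ∃ l : H ⊗ P ⟶ E, l ≫ i = (H ◁ x) ≫ f) ∧
    (AlgebraicGeometry.IsNoetherian X.left → ∃ n, ∀ (P : Over S) (x : P ⟶ X),
      (∃ l : H ⊗ P ⟶ E, l ≫ i = (H ◁ x) ≫ f) ↔
        ∃ l : W n ⊗ P ⟶ E, l ≫ i = (ν n ▷ P) ≫ (H ◁ x) ≫ f) := by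
  choose Zn cn hcn _ hZn using fun n =>
    TransLib.exists_closed_universal_finite (W := W n) (X := X) ((ν n ▷ X) ≫ f) i
  let K : ι → X.left.IdealSheafData := fun n => (cn n).left.ker
  have hK : ∀ n (P : Over S) (x : P ⟶ X),
      (∃ l : W n ⊗ P ⟶ E, l ≫ i = (ν n ▷ P) ≫ (H ◁ x) ≫ f) ↔ K n ≤ x.left.ker := by
    intro n P x
    rw [le_ker_iff_factors, hZn n x, ← whisker_exchange_assoc]
  let 𝓘 : X.left.IdealSheafData := ⨆ n, K n
  let Z : Over S := Over.mk (𝓘.subschemeι ≫ X.hom)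
  let c : Z ⟶ X := Over.homMk 𝓘.subschemeι rfl
  have hc : IsClosedImmersion c.left := inferInstanceAs (IsClosedImmersion 𝓘.subschemeι)
  have hcker : c.left.ker = 𝓘 := Scheme.IdealSheafData.ker_subschemeι _
  have : IsLocallyNoetherian Z.left :=
    LocallyOfFiniteType.isLocallyNoetherian 𝓘.subschemeι
  -- the universal family
  have hZ : ∃ l : H ⊗ Z ⟶ E, l ≫ i = (H ◁ c) ≫ f := by
    let e := pullback.snd i.left ((H ◁ c) ≫ f).left
    have he : IsClosedImmersion e := MorphismProperty.pullback_snd _ _ ‹_›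
    obtain ⟨σ, hσ⟩ := section_of_dense W ν hd e fun n => by
      obtain ⟨l, hl⟩ := (hK n Z c).mpr (hcker.symm ▸ le_iSup K n)
      exact ⟨pullback.lift l.left (ν n ▷ Z).left (congrArg CommaMorphism.left hl), pullback.lift_snd _ _ _⟩
    refine ⟨Over.homMk (σ ≫ pullback.fst _ _) ?_, Over.OverMorphism.ext ?_⟩
    · rw [Category.assoc, ← Over.w i, pullback.condition_assoc, Over.w, ← Category.assoc, hσ, Category.id_comp]
    · show (σ ≫ pullback.fst _ _) ≫ i.left = _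
      rw [Category.assoc, pullback.condition, ← Category.assoc, hσ, Category.id_comp]
  have huniv : ∀ (P : Over S) (x : P ⟶ X),
      (∃ z : P ⟶ Z, z ≫ c = x) ↔ ∃ l : H ⊗ P ⟶ E, l ≫ i = (H ◁ x) ≫ f := by
    intro P x
    refine ⟨?_, fun ⟨l, hl⟩ => ?_⟩
    · rintro ⟨z, rfl⟩
      obtain ⟨l, hl⟩ := hZ
      exact ⟨(H ◁ z) ≫ l, by rw [Category.assoc, hl, whiskerLeft_comp, Category.assoc]⟩
    · rw [← le_ker_iff_factors, hcker]
      exact iSup_le fun n => (hK n P x).mp ⟨(ν n ▷ P) ≫ l, by rw [Category.assoc, hl]⟩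
  refine ⟨⟨Z, c, hc, huniv⟩, fun hX => ?_⟩
  have hdirK : Directed (· ≤ ·) K := fun m n => by
    obtain ⟨k, ⟨a, ha⟩, ⟨b, hb⟩⟩ := hdir m n
    obtain ⟨l, hl⟩ := (hK k (Zn k) (cn k)).mpr le_rfl
    refine ⟨k, (hK m (Zn k) (cn k)).mp ⟨(a ▷ Zn k) ≫ l, ?_⟩, (hK n (Zn k) (cn k)).mp ⟨(b ▷ Zn k) ≫ l, ?_⟩⟩
    · rw [Category.assoc, hl, ← comp_whiskerRight_assoc, ha]
    · rw [Category.assoc, hl, ← comp_whiskerRight_assoc, hb]
  obtain ⟨t, ht⟩ := isCompact_univ.elim_finite_subcover (fun U : X.left.affineOpens => (U.1 : Set X.left))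
    (fun U => U.1.2) (fun x _ => by
      obtain ⟨U, hU, hxU, -⟩ := exists_isAffineOpen_mem_and_subset (show x ∈ (⊤ : X.left.Opens) from trivial)
      exact Set.mem_iUnion.mpr ⟨⟨U, hU⟩, hxU⟩)
  have hstab : ∀ U : X.left.affineOpens, ∃ n, 𝓘.ideal U ≤ (K n).ideal U := by
    intro U
    have := IsLocallyNoetherian.component_noetherian (X := X.left) U
    obtain ⟨_, ⟨n, rfl⟩, hmax⟩ := (set_has_maximal_iff_noetherian.mpr ‹_›)
      (Set.range fun n => (K n).ideal U) (Set.range_nonempty _)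
    refine ⟨n, ?_⟩
    rw [Scheme.IdealSheafData.ideal_iSup, iSup_apply]
    refine iSup_le fun m => ?_
    obtain ⟨k, hnk, hmk⟩ := hdirK n m
    have : (K n).ideal U = (K k).ideal U :=
      (hnk U).eq_or_lt.resolve_right (hmax _ ⟨k, rfl⟩)
    exact (hmk U).trans this.ge
  choose N hN using hstab
  classical
  obtain ⟨n, hn⟩ := hdirK.finset_le (t.image N)
  refine ⟨n, fun P x => ?_⟩
  rw [← huniv, ← le_ker_iff_factors, hK, hcker]
  refine ⟨fun h => le_trans (le_iSup K n) h, fun h => le_trans ?_ h⟩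
  refine Scheme.IdealSheafData.le_of_iSup_eq_top (fun U : t => U.1) ?_ fun U => ?_
  · refine top_unique fun x _ => ?_
    obtain ⟨U, hU, hx⟩ := Set.mem_iUnion₂.mp (ht (Set.mem_univ x))
    exact Opens.mem_iSup.mpr ⟨⟨U, hU⟩, hx⟩
  · exact (hN U.1).trans (hn _ (Finset.mem_image_of_mem N U.2) U.1)

end Groth.Agent.Sga3xB
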