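import Groth.Agent.Sga3xB.DSImage
import Groth.Agent.Sga3xB.UnivClosed
import Groth.Agent.GrpSchLib.MonoSubgroup
import Mathlib.AlgebraicGeometry.Morphisms.SchemeTheoreticallyDominant

/-!
# Images of homomorphisms from locally diagonalisable groups to affine groups

The scheme-theoretic image is a closed subgroup, locally diagonalisable, and the map onto it is faithfully flat.
-/

set_option autoImplicit false
set_option linter.style.haveILetI false

universe u

open CategoryTheory CategoryTheory.Limits AlgebraicGeometry MonoidalCategory CartesianMonoidalCategory MonObj GrpObj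

noncomputable section

namespace Groth.Agent.Sga3xB

open Groth.Agent.GrpSchLib
open HomSplitLocal (Ff)

variable {S : Scheme.{u}}

theorem covers_iso_comp {A B C : Scheme.{u}} (e : A ⟶ B) [IsIso e] {p : B ⟶ C} (h : FpqcDescLib.Covers p) :
    FpqcDescLib.Covers (e ≫ p) := by
  obtain ⟨Z, r, hr⟩ := h
  exact ⟨Z, r ≫ inv e, by simpa using hr⟩

/-- A subobject receiving a covering from a group, compatibly with a homomorphism, is a subgroup. -/
theorem exists_grp_image {X E G : Over S} [GrpObj X] [GrpObj G] (p : X ⟶ E) (j : E ⟶ G) [Mono j]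
    [IsMonHom (p ≫ j)] (hp : FpqcDescLib.Covers p.left) :
    ∃ s : GrpObj E, letI := s; IsMonHom j ∧ IsMonHom p := by
  haveI := hp.over_epi
  have key : ∀ {T : Over S} (a b : T ⟶ X), (a * b) ≫ p ≫ j = (a ≫ p ≫ j) * (b ≫ p ≫ j) := fun a b =>
    MonObj.mul_comp a b (p ≫ j)
  obtain ⟨m₁, hm₁, -⟩ := (FpqcDescLib.covers_whiskerRight hp X).over_desc
    ((fst X X * snd X X) ≫ p) fun T a b e => by
      have e1 : (a ≫ fst X X) ≫ p = (b ≫ fst X X) ≫ p := by simpa using congrArg (· ≫ fst E X) e
      have e2 : a ≫ snd X X = b ≫ snd X X := by simpa using congrArg (· ≫ snd E X) e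
      rw [← cancel_mono j, Category.assoc, Category.assoc, Category.assoc, Category.assoc, key, MonObj.comp_mul,
        MonObj.comp_mul, ← Category.assoc a, ← Category.assoc a, ← Category.assoc b, ← Category.assoc b, e2,
        ← Category.assoc, e1, Category.assoc]
  haveI := (FpqcDescLib.covers_whiskerRight hp X).over_epi
  have hm₁' : m₁ ≫ j = (fst E X ≫ j) * (snd E X ≫ p ≫ j) := by
    rw [← cancel_epi (p ▷ X), ← Category.assoc, hm₁, Category.assoc, key, MonObj.comp_mul, whiskerRight_fst_assoc,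
      whiskerRight_snd_assoc]
  obtain ⟨m, hm, -⟩ := (FpqcDescLib.covers_whiskerLeft hp E).over_desc m₁ fun T a b e => by
      have e1 : a ≫ fst E X = b ≫ fst E X := by simpa using congrArg (· ≫ fst E E) e
      have e2 : (a ≫ snd E X) ≫ p = (b ≫ snd E X) ≫ p := by simpa using congrArg (· ≫ snd E E) e
      rw [← cancel_mono j, Category.assoc, Category.assoc, hm₁', MonObj.comp_mul, MonObj.comp_mul,
        ← Category.assoc a, e1, Category.assoc, ← Category.assoc a, ← Category.assoc _ p, e2, Category.assoc,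
        Category.assoc]
  haveI := (FpqcDescLib.covers_whiskerLeft hp E).over_epi
  have hm' : m ≫ j = (fst E E ≫ j) * (snd E E ≫ j) := by
    rw [← cancel_epi (E ◁ p), ← Category.assoc, hm, hm₁', MonObj.comp_mul, whiskerLeft_fst_assoc,
      whiskerLeft_snd_assoc]
  obtain ⟨v, hv, -⟩ := hp.over_desc ((𝟙 X)⁻¹ ≫ p) fun T a b e => by
    rw [← cancel_mono j, Category.assoc, Category.assoc, Category.assoc, Category.assoc,
      GrpObj.inv_comp _ (p ≫ j), Category.id_comp, GrpObj.comp_inv, GrpObj.comp_inv, ← Category.assoc a, e,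
      Category.assoc]
  have hv' : v ≫ j = j⁻¹ := by
    rw [← cancel_epi p, ← Category.assoc, hv, Category.assoc, GrpObj.inv_comp _ (p ≫ j), Category.id_comp,
      GrpObj.comp_inv]
  obtain ⟨s, hs⟩ := GrpSchLib.exists_grpObj_of_mono j ((1 : 𝟙_ (Over S) ⟶ X) ≫ p) (by
    rw [Category.assoc, MonObj.one_comp (p ≫ j), MonObj.one_eq_one]) m hm' v hv'
  letI := s
  haveI := hs
  refine ⟨s, hs, ⟨?_, ?_⟩⟩
  · rw [← cancel_mono j, Category.assoc]
    exact (IsMonHom.one_hom (f := p ≫ j)).trans (IsMonHom.one_hom (f := j)).symm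
  · rw [← cancel_mono j, Category.assoc, Category.assoc, IsMonHom.mul_hom (f := p ≫ j), IsMonHom.mul_hom (f := j)]
    simp [tensorHom_comp_tensorHom_assoc]

/-- A closed subobject onto which a map is schematically dominant agrees with any covering factorisation. -/
theorem exists_iso_of_dom {X E G D : Over S} (q : X ⟶ E) (i : E ⟶ G) [IsClosedImmersion i.left]
    [IsSchemeTheoreticallyDominant q.left] (r : X ⟶ D) (hr : FpqcDescLib.Covers r.left) (h : D ⟶ G)
    [IsClosedImmersion h.left] (e : r ≫ h = q ≫ i) :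
    ∃ a : E ≅ D, a.hom ≫ h = i ∧ q ≫ a.hom = r := by
  haveI := hr.over_epi
  haveI : Mono i := Over.mono_of_mono_left i
  haveI : Mono h := Over.mono_of_mono_left h
  obtain ⟨a, ha⟩ : ∃ a : E ⟶ D, a ≫ h = i := by
    rw [← le_ker_iff_factors]
    have h1 : h.left.ker ≤ (q ≫ i).left.ker := by
      rw [← e]
      exact Scheme.Hom.le_ker_comp r.left h.left
    have h2 : (q ≫ i).left.ker = i.left.ker := by
      rw [Over.comp_left, Scheme.Hom.ker_comp, q.left.ker_eq_bot, Scheme.IdealSheafData.map_bot]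
    exact h2 ▸ h1
  have hqa : q ≫ a = r := by rw [← cancel_mono h, Category.assoc, ha, e]
  obtain ⟨b, hb, -⟩ := hr.over_desc q fun T x y exy => by
    rw [← cancel_mono i, Category.assoc, Category.assoc, ← e, ← Category.assoc, exy, Category.assoc]
  have hbi : b ≫ i = h := by rw [← cancel_epi r, ← Category.assoc, hb, e]
  exact ⟨⟨a, b, by rw [← cancel_mono i, Category.assoc, hbi, ha, Category.id_comp],
    by rw [← cancel_mono h, Category.assoc, ha, hbi, Category.id_comp]⟩, ha, hqa⟩

/-- The map to the scheme-theoretic image is schematically dominant. -/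
theorem isSchemeTheoreticallyDominant_toImage {X Y : Scheme.{u}} (f : X ⟶ Y) [QuasiCompact f] :
    IsSchemeTheoreticallyDominant f.toImage := by
  rw [isSchemeTheoreticallyDominant_iff]
  refine Scheme.IdealSheafData.ext_of_iSup_eq_top
    (fun U : Y.affineOpens => ⟨f.imageι ⁻¹ᵁ U.1, U.2.preimage f.imageι⟩) ?_ fun U => ?_
  · rw [← Scheme.Hom.preimage_iSup, iSup_affineOpens_eq_top, Scheme.Hom.preimage_top]
  · rw [Scheme.Hom.ker_apply, Scheme.IdealSheafData.ideal_bot, Pi.bot_apply, ← RingHom.injective_iff_ker_eq_bot]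
    exact f.toImage_app_injective U

theorem isSchemeTheoreticallyDominant_map {X E : Over S} (p : X ⟶ E) [IsSchemeTheoreticallyDominant p.left]
    [QuasiCompact p.left] {U : Scheme.{u}} (t : U ⟶ S) [Flat t] :
    IsSchemeTheoreticallyDominant ((Over.pullback t).map p).left :=
  haveI : Flat (pullback.fst E.hom t) :=
    MorphismProperty.of_isPullback (P := @Flat) (IsPullback.of_hasPullback E.hom t).flip ‹_›
  IsSchemeTheoreticallyDominant.of_isPullback (HomSplitLocal.isPullback_map p t)

theorem isClosedImmersion_map {E G : Over S} (j : E ⟶ G) [IsClosedImmersion j.left] {U : Scheme.{u}} (t : U ⟶ S) :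
    IsClosedImmersion ((Over.pullback t).map j).left :=
  MorphismProperty.of_isPullback (P := @IsClosedImmersion) (HomSplitLocal.isPullback_map j t) ‹_›

theorem quasiCompact_map {E G : Over S} (j : E ⟶ G) [QuasiCompact j.left] {U : Scheme.{u}} (t : U ⟶ S) :
    QuasiCompact ((Over.pullback t).map j).left :=
  MorphismProperty.of_isPullback (P := @QuasiCompact) (HomSplitLocal.isPullback_map j t) ‹_›

/-- A monomorphism from a diagonalisable group of finite type into an affine group is a closed immersion. -/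
theorem isClosedImmersion_of_mono_DS {M : Type} [AddCommGroup M] [AddGroup.FG M] {G : Over S} [GrpObj G]
    [IsAffineHom G.hom] (h : Red.DS S M ⟶ G) [IsMonHom h] [Mono h] : IsClosedImmersion h.left :=
  MultTransp18.isClosedImmersion_of_mono (isMultTypeFT_DS S M) ‹_› h

/-- The local structure of an image: near `v` it is a closed diagonalisable subgroup, covered. -/
theorem exists_chart {M : Type} [AddCommGroup M] [AddGroup.FG M] {X E G : Over S} [GrpObj X] [GrpObj G]
    [IsAffineHom G.hom] [LocallyOfFiniteType G.hom] (p : X ⟶ E) (j : E ⟶ G) [IsClosedImmersion j.left]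
    [IsSchemeTheoreticallyDominant p.left] [QuasiCompact p.left] [IsMonHom (p ≫ j)]
    (eX : Grp.mk X ≅ Grp.mk (Red.DS S M)) (v : S) :
    ∃ V : S.Opens, v ∈ V ∧ IsClosed (V : Set S) ∧ ∃ L : AddSubgroup M, ∃ a : Red.bc V.ι E ≅ Red.DS V L,
      Flat ((Over.pullback V.ι).map p).left ∧ Surjective ((Over.pullback V.ι).map p).left ∧
      ∃ h : Red.DS V L ⟶ Red.bc V.ι G, IsMonHom h ∧ Mono h ∧ a.hom ≫ h = (Over.pullback V.ι).map j := by
  haveI : IsSeparated G.hom := inferInstance
  let ψ : X ≅ Red.DS S M := (Grp.forget _).mapIso eX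
  haveI : IsMonHom eX.hom.hom.hom := eX.hom.hom.isMonHom_hom
  haveI : IsMonHom eX.inv.hom.hom := eX.inv.hom.isMonHom_hom
  haveI : IsMonHom ψ.inv := ‹IsMonHom eX.inv.hom.hom›
  obtain ⟨V, hvV, hVc, L, h, hh, hhm, hfac⟩ := exists_clopen_image (ψ.inv ≫ p ≫ j) v
  haveI := hh
  haveI := hhm
  haveI := addGroupFG_subgroup L
  haveI : IsAffineHom (Red.bc V.ι G).hom :=
    MorphismProperty.of_isPullback (P := @IsAffineHom) (IsPullback.of_hasPullback G.hom V.ι) ‹_›
  haveI := isClosedImmersion_of_mono_DS h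
  haveI := isClosedImmersion_map j V.ι
  haveI := isSchemeTheoreticallyDominant_map p V.ι
  let ψ' : Red.bc V.ι X ≅ Red.DS V M := (Over.pullback V.ι).mapIso ψ ≪≫ bcIso V.ι M
  let r : Red.bc V.ι X ⟶ Red.DS V L := ψ'.hom ≫ Red.DSmap V L.subtype
  haveI : IsIso ψ'.hom.left := inferInstanceAs (IsIso ((Over.forget _).mapIso ψ').hom)
  have hrh : r ≫ h = (Over.pullback V.ι).map p ≫ (Over.pullback V.ι).map j := by
    show (ψ'.hom ≫ Red.DSmap V L.subtype) ≫ h = _
    rw [Category.assoc, hfac, restrict, ← Functor.map_comp]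
    show ((Over.pullback V.ι).map ψ.hom ≫ bcHom V.ι M) ≫ bcInv V.ι M ≫ _ = _
    rw [Category.assoc, bcHom_bcInv_assoc, ← Functor.map_comp, ψ.hom_inv_id_assoc]
  obtain ⟨a, ha, hqa⟩ := exists_iso_of_dom _ _ r
    (covers_iso_comp ψ'.hom.left (covers_DSmap _ L.subtype_injective)) h hrh
  have hq : (Over.pullback V.ι).map p = ψ'.hom ≫ Red.DSmap V L.subtype ≫ a.inv := by
    rw [← Category.assoc]
    exact (Iso.eq_comp_inv a).mpr hqa
  obtain ⟨_, _⟩ := flat_surjective_DSmap (S := (V : Scheme.{u})) L.subtype L.subtype_injective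
  haveI : IsIso a.inv.left := inferInstanceAs (IsIso ((Over.forget _).mapIso a).inv)
  exact ⟨V, hvV, hVc, L, a, by rw [hq, Over.comp_left, Over.comp_left]; infer_instance,
    by rw [hq, Over.comp_left, Over.comp_left]; infer_instance, h, hh, hhm, ha⟩

theorem ff_comp_iff {X E : Over S} (p : X ⟶ E) {U W : Scheme.{u}} (t : U ⟶ S) (l : W ⟶ U) :
    Ff ((Over.pullback t).map p) l ↔ Ff p (l ≫ t) := by
  have e := NatTrans.naturality (Over.pullbackComp l t).hom p
  have key : ∀ (P : MorphismProperty Scheme.{u}) [P.IsStableUnderBaseChange],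
      P ((Over.pullback l).map ((Over.pullback t).map p)).left ↔ P ((Over.pullback (l ≫ t)).map p).left := by
    intro P _
    refine P.arrow_mk_iso_iff ((Arrow.isoMk
      ((Over.forget _).mapIso ((Over.pullbackComp l t).app X))
      ((Over.forget _).mapIso ((Over.pullbackComp l t).app E)) ?_).symm)
    exact (congrArg CommaMorphism.left e).symm
  exact and_congr (key (@Flat : MorphismProperty Scheme.{u})) (key (@Surjective : MorphismProperty Scheme.{u}))

theorem ff_id {X E : Over S} {p : X ⟶ E} (h : Ff p (𝟙 S)) : Flat p.left ∧ Surjective p.left := by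
  have hsq := HomSplitLocal.isPullback_map p (𝟙 S)
  haveI : IsIso (pullback.fst E.hom (𝟙 S)) := inferInstance
  haveI : IsIso (pullback.fst X.hom (𝟙 S)) := inferInstance
  have e : p.left = inv (pullback.fst X.hom (𝟙 S)) ≫ ((Over.pullback (𝟙 S)).map p).left ≫ pullback.fst E.hom (𝟙 S) := by
    rw [IsIso.eq_inv_comp]
    exact hsq.w
  obtain ⟨_, _⟩ := h
  rw [e]
  exact ⟨inferInstance, inferInstance⟩

/-- A map to a subgroup is a homomorphism if the composite is. -/
theorem isMonHom_of_comp_mono {A B C : Over S} [GrpObj A] [GrpObj B] [GrpObj C] (a : A ⟶ B) (h : B ⟶ C) [IsMonHom h]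
    [Mono h] (hc : IsMonHom (a ≫ h)) : IsMonHom a := by
  refine ⟨?_, ?_⟩
  · rw [← cancel_mono h, Category.assoc, hc.one_hom, IsMonHom.one_hom (f := h)]
  · rw [← cancel_mono h, Category.assoc, hc.mul_hom, Category.assoc, IsMonHom.mul_hom (f := h)]
    simp [tensorHom_comp_tensorHom_assoc]

/-- The open cover given by open immersions through every point. -/
def openCoverOfMem {W : S → Scheme.{u}} (t : ∀ s, W s ⟶ S) (ht : ∀ s, IsOpenImmersion (t s))
    (hmem : ∀ s, s ∈ Set.range (t s)) : S.OpenCover where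
  I₀ := S
  X := W
  f := t
  mem₀ := by
    rw [Scheme.presieve₀_mem_precoverage_iff]
    exact ⟨fun s => ⟨s, hmem s⟩, ht⟩

/-- Near each point `X` is diagonalisable with characters in the class `P`. -/
def LocDS (P : ∀ (M : Type) [AddCommGroup M], Prop) (X : Over S) [GrpObj X] : Prop :=
  ∀ s : S, ∃ (U : Scheme.{u}) (t : U ⟶ S) (_ : IsOpenImmersion t) (M : Type) (_ : AddCommGroup M),
    s ∈ Set.range t ∧ P M ∧ AddGroup.FG M ∧ Nonempty (Grp.mk (Red.bc t X) ≅ Grp.mk (Red.DS U M))

/-- The image of a homomorphism of a locally diagonalisable group into an affine group. -/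
theorem exists_image (P : ∀ (M : Type) [AddCommGroup M], Prop)
    (hP : ∀ (M : Type) [AddCommGroup M] (L : AddSubgroup M), P M → P L)
    {X G : Over S} [GrpObj X] [GrpObj G] [QuasiCompact X.hom] [IsAffineHom G.hom] [LocallyOfFiniteType G.hom]
    (hX : LocDS P X) (u : X ⟶ G) [IsMonHom u] :
    ∃ (E : Over S) (_ : GrpObj E) (p : X ⟶ E) (j : E ⟶ G), IsMonHom p ∧ IsMonHom j ∧ p ≫ j = u ∧
      IsClosedImmersion j.left ∧ Flat p.left ∧ Surjective p.left ∧ LocDS P E := by
  haveI : QuasiCompact (u.left ≫ G.hom) := by rw [Over.w u]; infer_instance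
  haveI : QuasiCompact u.left := QuasiCompact.of_comp u.left G.hom
  let E : Over S := Over.mk (u.left.imageι ≫ G.hom)
  let p : X ⟶ E := Over.homMk u.left.toImage (by
    show u.left.toImage ≫ u.left.imageι ≫ G.hom = X.hom
    rw [Scheme.Hom.toImage_imageι_assoc, Over.w u])
  let j : E ⟶ G := Over.homMk u.left.imageι rfl
  have hpj : p ≫ j = u := Over.OverMorphism.ext u.left.toImage_imageι
  haveI : IsMonHom (p ≫ j) := hpj.symm ▸ ‹IsMonHom u›
  haveI hj : IsClosedImmersion j.left := inferInstanceAs (IsClosedImmersion u.left.imageι)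
  haveI : IsSchemeTheoreticallyDominant p.left := isSchemeTheoreticallyDominant_toImage u.left
  haveI : QuasiCompact p.left := inferInstanceAs (QuasiCompact u.left.toImage)
  haveI : Mono j := Over.mono_of_mono_left j
  have hch : ∀ s : S, ∃ (W : Scheme.{u}) (t : W ⟶ S) (_ : IsOpenImmersion t) (L : Type) (_ : AddCommGroup L),
      s ∈ Set.range t ∧ P L ∧ AddGroup.FG L ∧ Flat ((Over.pullback t).map p).left ∧
      Surjective ((Over.pullback t).map p).left ∧
      ∀ (_ : GrpObj E), IsMonHom j → Nonempty (Grp.mk (Red.bc t E) ≅ Grp.mk (Red.DS W L)) := by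
    intro s
    obtain ⟨U, t, ht, M, iM, ⟨x, hx⟩, hM, hMfg, ⟨eX⟩⟩ := hX s
    haveI := isSchemeTheoreticallyDominant_map p t
    haveI := quasiCompact_map p t
    haveI := isClosedImmersion_map j t
    haveI : IsMonHom ((Over.pullback t).map p ≫ (Over.pullback t).map j) := by
      rw [← Functor.map_comp]
      infer_instance
    haveI : IsAffineHom (Red.bc t G).hom :=
      MorphismProperty.of_isPullback (P := @IsAffineHom) (IsPullback.of_hasPullback G.hom t) ‹_›
    haveI : LocallyOfFiniteType (Red.bc t G).hom :=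
      MorphismProperty.of_isPullback (P := @LocallyOfFiniteType) (IsPullback.of_hasPullback G.hom t) ‹_›
    obtain ⟨V, hxV, -, L, a, hfl, hsu, h, hh, hhm, ha⟩ :=
      exists_chart ((Over.pullback t).map p) ((Over.pullback t).map j) eX x
    refine ⟨V, V.ι ≫ t, inferInstance, L, inferInstance, ⟨⟨x, hxV⟩, hx⟩, hP M L hM, addGroupFG_subgroup L,
      ?_, ?_, fun sE hjm => ?_⟩
    · exact ((ff_comp_iff p t V.ι).mp ⟨hfl, hsu⟩).1
    · exact ((ff_comp_iff p t V.ι).mp ⟨hfl, hsu⟩).2
    · letI := sE
      haveI := hjm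
      haveI : IsMonHom a.hom := isMonHom_of_comp_mono a.hom h (by rw [ha]; infer_instance)
      obtain ⟨e1⟩ := MultTypeBC.bc_bc V.ι t E
      exact ⟨e1.symm ≪≫ Grp.mkIso' a⟩
  choose W t ht L iL hmem hPL hLfg hfl hsu hiso using hch
  let 𝒰 : S.OpenCover := openCoverOfMem t ht hmem
  have hff : Ff p (𝟙 S) := HomSplitLocus.ff_of_openCover 𝒰 fun i => by
    have e : 𝒰.f i ≫ 𝟙 S = t i := Category.comp_id _
    rw [e]
    exact ⟨hfl i, hsu i⟩
  obtain ⟨hpf, hps⟩ := ff_id hff
  have hcov : FpqcDescLib.Covers p.left :=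
    FpqcDescLib.covers_of_isCovering (FpqcDescLib.isCovering_of_quasiCompact _)
  obtain ⟨sE, hjm, hpm⟩ := exists_grp_image p j hcov
  exact ⟨E, sE, p, j, hpm, hjm, hpj, hj, hpf, hps,
    fun s => ⟨W s, t s, ht s, L s, iL s, hmem s, hPL s, hLfg s, hiso s sE hjm⟩⟩

end Groth.Agent.Sga3xB

end
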