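import Groth.Agent.Sga3xB.MonoValuative
import Groth.Agent.Sga3xB.SubImage
import Mathlib.AlgebraicGeometry.AffineTransitionLimit

/-!
# Homomorphisms from diagonalisable groups of arbitrary type into separated groups of finite presentation

Near each point such a homomorphism factors through `D(Λ)` with `Λ` finitely generated, as the limit `D(Γ)` of the
`D(Λ)` is affine; hence it is clopen-locally the projection to some `D(Λ)` followed by a closed immersion.
-/

set_option autoImplicit false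
set_option linter.style.haveILetI false

universe u

open CategoryTheory CategoryTheory.Limits AlgebraicGeometry MonoidalCategory CartesianMonoidalCategory MonObj GrpObj

noncomputable section

namespace Groth.Agent.Sga3xB

open Groth.Agent.Red23Lib.Pinned Groth.Agent.GrpSchLib Groth.Agent.GrpSchLib.RankOne
open HomUnitLocus (Triv theta_one theta_comp_map)
open HomMonoLocus (Inj)

variable {S : Scheme.{u}} {Γ : Type} [AddCommGroup Γ]

/-- The finitely generated subgroups, in the universe of the schemes. -/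
@[ext]
structure FGSub (Γ : Type) [AddCommGroup Γ] : Type u where
  /-- the subgroup -/
  sub : AddSubgroup Γ
  /-- it is finitely generated -/
  fg : sub.FG

instance : PartialOrder (FGSub.{u} Γ) :=
  PartialOrder.lift (fun j : FGSub.{u} Γ => j.sub) fun _ _ h => FGSub.ext h

instance : IsDirectedOrder (FGSub.{u} Γ) :=
  ⟨fun a b => ⟨⟨_, a.fg.sup b.fg⟩, (le_sup_left : a.sub ≤ a.sub ⊔ b.sub), (le_sup_right : b.sub ≤ a.sub ⊔ b.sub)⟩⟩

instance : Nonempty (FGSub.{u} Γ) := ⟨⟨⊥, AddSubgroup.fg_iff _ |>.mpr ⟨∅, by simp, Set.finite_empty⟩⟩⟩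

theorem sub_le {i j : (FGSub.{u} Γ)ᵒᵖ} (f : i ⟶ j) : j.unop.sub ≤ i.unop.sub :=
  (leOfHom f.unop : j.unop ≤ i.unop)

/-- Characters of `D(φ)` in terms of the tautological point. -/
theorem dsCh_univ {U : Scheme.{u}} {M N : Type} [AddCommGroup M] [AddCommGroup N] (φ : M →+ N) (m : M) :
    dsCh (Red.DSmap U φ) m = dsCh (𝟙 (Red.DS U N)) (φ m) := by
  conv_lhs => rw [← Category.id_comp (Red.DSmap U φ), dsCh_DSmap]

/-- The system of the `D(Λ)`. -/
def dsSystem (U : Scheme.{u}) (Γ : Type) [AddCommGroup Γ] : (FGSub.{u} Γ)ᵒᵖ ⥤ Over U where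
  obj j := Red.DS U j.unop.sub
  map f := Red.DSmap U (AddSubgroup.inclusion (sub_le f))
  map_id i := dsCh_ext fun m => by rw [dsCh_univ]; rfl
  map_comp f g := dsCh_ext fun m => by rw [dsCh_DSmap, dsCh_univ, dsCh_univ]; rfl

/-- `D(Γ)` over the system of the `D(Λ)`. -/
def dsCone (U : Scheme.{u}) (Γ : Type) [AddCommGroup Γ] : Cone (dsSystem U Γ) where
  pt := Red.DS U Γ
  π :=
    { app := fun j => Red.DSmap U j.unop.sub.subtype
      naturality := fun i j f => (Category.id_comp _).trans (dsCh_ext fun m => by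
        show dsCh (Red.DSmap U j.unop.sub.subtype) m =
          dsCh (Red.DSmap U i.unop.sub.subtype ≫ Red.DSmap U (AddSubgroup.inclusion (sub_le f))) m
        rw [dsCh_DSmap, dsCh_univ, dsCh_univ]
        rfl) }

/-- `D(Γ)` is the limit of the `D(Λ)`. -/
def dsConeIsLimit (U : Scheme.{u}) (Γ : Type) [AddCommGroup Γ] : IsLimit (dsCone U Γ) := by
  let sub (s : Finset Γ) : FGSub.{u} Γ := ⟨AddSubgroup.closure s, ⟨s, rfl⟩⟩
  have mem : ∀ (s : Finset Γ) (γ : Γ), γ ∈ s → γ ∈ (sub s).sub := fun s γ h => AddSubgroup.subset_closure h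
  have key : ∀ (c : Cone (dsSystem U Γ)) (i j : FGSub.{u} Γ) (γ : Γ) (hi : γ ∈ i.sub) (hj : γ ∈ j.sub),
      dsCh (c.π.app (Opposite.op i)) ⟨γ, hi⟩ = dsCh (c.π.app (Opposite.op j)) ⟨γ, hj⟩ := by
    intro c i j γ hi hj
    obtain ⟨k, hik, hjk⟩ := exists_ge_ge i j
    have e : ∀ (a : FGSub.{u} Γ) (hak : a ≤ k) (h : γ ∈ a.sub),
        dsCh (c.π.app (Opposite.op a)) ⟨γ, h⟩ = dsCh (c.π.app (Opposite.op k)) ⟨γ, hak h⟩ := fun a hak h => by
      have h1 : c.π.app (Opposite.op k) ≫ Red.DSmap U (AddSubgroup.inclusion (show a.sub ≤ k.sub from hak)) =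
          c.π.app (Opposite.op a) := c.w (homOfLE hak).op
      exact (congrArg (fun t => dsCh t (⟨γ, h⟩ : a.sub)) h1).symm.trans (dsCh_DSmap _ _ _)
    exact (e i hik hi).trans (e j hjk hj).symm
  classical
  let χ (c : Cone (dsSystem U Γ)) : Multiplicative Γ →* (Γ(c.pt.left, ⊤))ˣ :=
    MonoidHom.mk' (fun γ => dsCh (c.π.app (Opposite.op (sub {γ.toAdd}))) ⟨γ.toAdd, mem _ _ (by simp)⟩)
      fun a b => by
        rw [key c _ (sub {a.toAdd, b.toAdd}) a.toAdd _ (mem _ _ (by simp)),
          key c (sub {b.toAdd}) (sub {a.toAdd, b.toAdd}) b.toAdd _ (mem _ _ (by simp)),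
          key c _ (sub {a.toAdd, b.toAdd}) (a * b).toAdd _
            (add_mem (mem _ _ (by simp)) (mem _ _ (by simp)))]
        exact dsCh_add (c.π.app (Opposite.op (sub {a.toAdd, b.toAdd}))) ⟨a.toAdd, mem _ _ (by simp)⟩
          ⟨b.toAdd, mem _ _ (by simp)⟩
  refine
    { lift := fun c => ofCh (χ c)
      fac := fun c j => dsCh_ext fun m => ?_
      uniq := fun c t ht => dsCh_ext fun γ => ?_ }
  · show dsCh (ofCh (χ c) ≫ Red.DSmap U j.unop.sub.subtype) m = _
    rw [dsCh_DSmap, dsCh_ofCh]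
    exact key c _ _ _ _ m.2
  · rw [dsCh_ofCh]
    have h1 : (t : c.pt ⟶ Red.DS U Γ) ≫ Red.DSmap U (sub {γ}).sub.subtype = c.π.app (Opposite.op (sub {γ})) :=
      ht (Opposite.op (sub {γ}))
    have h2 := (congrArg (fun z => dsCh z (⟨γ, mem _ _ (by simp)⟩ : (sub {γ}).sub)) h1).symm.trans
      (dsCh_DSmap (sub {γ}).sub.subtype (t : c.pt ⟶ Red.DS U Γ) _)
    exact h2.symm

/-- Over an affine base a homomorphism from `D(Γ)` factors through some `D(Λ)`. -/
theorem exists_factor_fg {U : Scheme.{u}} [IsAffine U] {G : Over U} [GrpObj G] [LocallyOfFinitePresentation G.hom]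
    (f : Red.DS U Γ ⟶ G) [IsMonHom f] :
    ∃ Λ : AddSubgroup Γ, Λ.FG ∧ ∃ g : Red.DS U Λ ⟶ G, IsMonHom g ∧ Red.DSmap U Λ.subtype ≫ g = f := by
  have := IsCofiltered.isConnected (FGSub.{u} Γ)ᵒᵖ
  have : ∀ j, IsAffine ((dsSystem U Γ ⋙ Over.forget U).obj j) := fun j =>
    @isAffine_of_isAffineHom _ U ((dsSystem U Γ).obj j).hom isAffineHom_DS _
  have : ∀ {j k} (f : j ⟶ k), IsAffineHom ((dsSystem U Γ ⋙ Over.forget U).map f) := fun f => inferInstance
  let t : dsSystem U Γ ⋙ Over.forget U ⟶ (Functor.const _).obj U :=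
    { app := fun j => ((dsSystem U Γ).obj j).hom
      naturality := fun j k f => (Over.w ((dsSystem U Γ).map f)).trans (Category.comp_id _).symm }
  obtain ⟨j, g, hg, hg'⟩ := Scheme.exists_π_app_comp_eq_of_locallyOfFinitePresentation
    (dsSystem U Γ ⋙ Over.forget U) t G.hom ((Over.forget U).mapCone (dsCone U Γ))
    (isLimitOfPreserves (Over.forget U) (dsConeIsLimit U Γ)) f.left
    (by ext j; exact (Over.w ((dsCone U Γ).π.app j)).trans (Over.w f).symm)
  let g₀ : Red.DS U j.unop.sub ⟶ G := Over.homMk g hg'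
  have hg₀ : Red.DSmap U j.unop.sub.subtype ≫ g₀ = f := Over.OverMorphism.ext hg
  haveI := isMonHom_DSmap (S := U) j.unop.sub.subtype
  haveI := isMonHom_DSmap (S := U) (QuotientAddGroup.mk' j.unop.sub)
  have h1 : Red.DSmap U (QuotientAddGroup.mk' j.unop.sub) ≫ f = 1 := by
    have h : Red.DSmap U (QuotientAddGroup.mk' j.unop.sub) ≫ Red.DSmap U j.unop.sub.subtype = 1 := by
      rw [comp_DSmap_eq_one_iff]
      intro m
      rw [← Category.id_comp (Red.DSmap U _), dsCh_DSmap, show QuotientAddGroup.mk' j.unop.sub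
        (j.unop.sub.subtype m) = 0 from (QuotientAddGroup.eq_zero_iff _).mpr m.2, dsCh_zero]
    rw [← hg₀, reassoc_of% h, ← MonObj.one_comp (Red.DSmap U j.unop.sub.subtype), Category.assoc, hg₀,
      MonObj.one_comp]
  exact ⟨_, j.unop.fg, exists_desc f _ h1⟩

variable {G : Over S} [GrpObj G]

theorem triv_of_restrict {M : Type} [AddCommGroup M] (u : Red.DS S M ⟶ G) {U T : Scheme.{u}} (t : U ⟶ S) {g : T ⟶ U}
    (h : Triv (restrict u t) g) : Triv u (g ≫ t) := by
  intro Y q y
  let Y' : Over U := Over.mk (q.left ≫ g)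
  let e : Y ⟶ (Over.map t).obj Y' := Over.homMk (𝟙 _) (by
    show 𝟙 _ ≫ (q.left ≫ g) ≫ t = Y.hom
    rw [Category.id_comp, Category.assoc]; exact Over.w q)
  let e' : (Over.map t).obj Y' ⟶ Y := Over.homMk (𝟙 _) (by
    show 𝟙 _ ≫ Y.hom = (q.left ≫ g) ≫ t
    rw [Category.id_comp, Category.assoc]; exact (Over.w q).symm)
  obtain ⟨a, ha⟩ := (DSPtsLib.theta_bijective t).2 (e' ≫ y)
  have h1 := h Y' (Over.homMk q.left rfl) (a ≫ bcHom t M)
  rw [restrict, Category.assoc, bcHom_bcInv_assoc] at h1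
  have h2 := congrArg (DSPtsLib.theta t) h1
  rw [theta_comp_map, ha, theta_one] at h2
  have h3 : e ≫ e' = 𝟙 Y := Over.OverMorphism.ext (Category.comp_id _)
  have h4 := congrArg (e ≫ ·) h2
  simpa only [← Category.assoc, h3, Category.id_comp, MonObj.comp_one] using h4

/-- Near each point `f` is a projection followed by a monomorphism; the data on such a neighbourhood. -/
theorem exists_local [IsSeparated G.hom] [LocallyOfFinitePresentation G.hom] (f : Red.DS S Γ ⟶ G) [IsMonHom f]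
    (s : S) :
    ∃ (L : AddSubgroup Γ) (O : Scheme.{u}) (t : O ⟶ S) (_ : IsOpenImmersion t), L.FG ∧ s ∈ Set.range t ∧
      (∀ x : O, kerAnn f (S.fromSpecResidueField (t x)) = L) ∧
      Triv (Red.DSmap S (QuotientAddGroup.mk' L) ≫ f) t := by
  obtain ⟨W, hW, hsW, -⟩ := exists_isAffineOpen_mem_and_subset (show s ∈ (⊤ : S.Opens) from trivial)
  haveI : IsAffine W.toScheme := hW
  haveI : LocallyOfFinitePresentation (Red.bc W.ι G).hom :=
    MorphismProperty.of_isPullback (P := @LocallyOfFinitePresentation) (IsPullback.of_hasPullback G.hom W.ι) ‹_›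
  haveI := isSeparated_bc G W.ι
  haveI := isMonHom_restrict f W.ι
  obtain ⟨Λ, hΛ, g, hg, hfac⟩ := exists_factor_fg (restrict f W.ι)
  haveI := hg
  haveI : AddGroup.FG Λ := (AddGroup.fg_iff_addSubgroup_fg Λ).mpr hΛ
  obtain ⟨V, hsV, -, L, h, hh, hhm, hhfac⟩ := exists_clopen_image g ⟨s, hsW⟩
  haveI := hh
  haveI := addGroupFG_subgroup L
  let e := L.equivMapOfInjective Λ.subtype Λ.subtype_injective
  let L' : AddSubgroup Γ := L.map Λ.subtype
  haveI := isMonHom_DSmap (S := (V : Scheme.{u})) e.toAddMonoidHom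
  haveI := isMonHom_DSmap (S := (V : Scheme.{u})) (QuotientAddGroup.mk' L')
  let h' : Red.DS V L' ⟶ Red.bc V.ι (Red.bc W.ι G) := Red.DSmap V e.toAddMonoidHom ≫ h
  haveI : Mono (Red.DSmap (V : Scheme.{u}) e.toAddMonoidHom) := mono_DSmap_of_surjective _ e.surjective
  have hfac' : Red.DSmap V L'.subtype ≫ h' = restrict (restrict f W.ι) V.ι := by
    rw [← hfac, ← DSmap_restrict, ← hhfac]
    simp only [h', ← Category.assoc]
    congr 1
    refine dsCh_ext fun m => ?_
    rw [dsCh_DSmap, dsCh_DSmap, ← Category.id_comp (Red.DSmap _ L'.subtype),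
      ← Category.id_comp (Red.DSmap _ Λ.subtype), dsCh_DSmap, dsCh_DSmap]
    rfl
  haveI := isMonHom_restrict (restrict f W.ι) V.ι
  refine ⟨L', V, V.ι ≫ W.ι, inferInstance, (AddGroup.fg_iff_addSubgroup_fg L').mp
    (AddGroup.fg_of_surjective (f := e.toAddMonoidHom) e.surjective), ⟨⟨⟨s, hsW⟩, hsV⟩, rfl⟩, fun x => ?_, ?_⟩
  · haveI : Mono ((Over.pullback ((V : Scheme.{u}).fromSpecResidueField x)).map h').left :=
      Over.mono_left_of_mono _
    rw [show (V.ι ≫ W.ι) x = W.ι (V.ι x) from rfl, ← kerAnn_residue f W.ι (V.ι x),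
      ← kerAnn_residue (restrict f W.ι) V.ι x]
    exact le_antisymm (kerAnn_le_of_desc L' h' _ hfac' _)
      (le_kerAnn_of_desc L' h' _ hfac' (HomMonoLocus.inj_of_mono ‹_›))
  · refine triv_of_restrict _ W.ι ?_
    rw [← DSmap_restrict]
    rw [← Category.id_comp V.ι]
    refine triv_of_restrict _ V.ι ?_
    rw [← DSmap_restrict, ← hfac', ← Category.assoc]
    intro Y q y
    simp only [h', ← Category.assoc]
    have hone : (y ≫ Red.DSmap V (QuotientAddGroup.mk' L')) ≫ Red.DSmap V L'.subtype = 1 := by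
      rw [comp_DSmap_eq_one_iff]
      intro m
      rw [dsCh_DSmap, show QuotientAddGroup.mk' L' (L'.subtype m) = 0 from (QuotientAddGroup.eq_zero_iff _).mpr m.2,
        dsCh_zero]
    rw [hone, show (1 : Y ⟶ Red.DS V L') ≫ Red.DSmap V e.toAddMonoidHom = 1 from
      dsCh_ext fun m => by rw [dsCh_DSmap, dsCh_one, dsCh_one], MonObj.one_comp]

/-- Clopen-locally `f` is a projection to some `D(Λ)` followed by a closed immersion. -/
theorem exists_clopen_image_sep [IsSeparated G.hom] [QuasiCompact G.hom] [LocallyOfFinitePresentation G.hom]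
    (f : Red.DS S Γ ⟶ G) [IsMonHom f] (s : S) :
    ∃ U : S.Opens, s ∈ U ∧ IsClosed (U : Set S) ∧ ∃ L : AddSubgroup Γ, L.FG ∧
      ∃ j : Red.DS U L ⟶ Red.bc U.ι G, IsMonHom j ∧ IsClosedImmersion j.left ∧
        Red.DSmap U L.subtype ≫ j = restrict f U.ι := by
  let ann : S → AddSubgroup Γ := fun s => kerAnn f (S.fromSpecResidueField s)
  choose L O t ht hfg hmem hann htriv using fun x => exists_local f x
  have hopen : ∀ K, IsOpen {x | ann x = K} := fun K => isOpen_iff_forall_mem_open.mpr fun x hx => by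
    refine ⟨Set.range (t x), ?_, (t x).isOpenEmbedding.isOpen_range, hmem x⟩
    rintro _ ⟨y, rfl⟩
    obtain ⟨z, hz⟩ := hmem x
    exact (hann x y).trans ((hann x z).symm.trans ((congrArg ann hz).trans hx))
  let U : S.Opens := ⟨{x | ann x = ann s}, hopen _⟩
  have hUc : IsClosed (U : Set S) := by
    rw [← isOpen_compl_iff]
    have : (U : Set S)ᶜ = ⋃ K ∈ {K | K ≠ ann s}, {x | ann x = K} := by
      ext x
      simp [U, TopologicalSpace.Opens.coe_mk]
    rw [this]
    exact isOpen_biUnion fun K _ => hopen K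
  have hLs : ∀ x, ann x = L x := fun x => by
    obtain ⟨z, hz⟩ := hmem x
    rw [← hann x z, hz]
  have hfgs : (ann s).FG := (hLs s).symm ▸ hfg s
  haveI : AddGroup.FG (ann s) := (AddGroup.fg_iff_addSubgroup_fg _).mpr hfgs
  haveI := isMonHom_DSmap (S := S) (QuotientAddGroup.mk' (ann s))
  have hUt : Triv (Red.DSmap S (QuotientAddGroup.mk' (ann s)) ≫ f) U.ι := by
    intro Y q y
    let P : U → Y.left.Opens := fun x => Y.hom ⁻¹ᵁ (t (x : S)).opensRange
    have hP : TopologicalSpace.IsOpenCover P := by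
      refine TopologicalSpace.IsOpenCover.mk (top_le_iff.mp fun z _ => ?_)
      have hz : Y.hom z ∈ U := by
        rw [← Over.w q]
        exact (q.left z).2
      exact TopologicalSpace.Opens.mem_iSup.mpr ⟨⟨Y.hom z, hz⟩, hmem _⟩
    refine Over.OverMorphism.ext ((Y.left.openCoverOfIsOpenCover P hP).hom_ext _ _ fun (x : U) => ?_)
    let Yx : Over S := Over.mk ((P x).ι ≫ Y.hom)
    let c : Yx ⟶ Y := Over.homMk (P x).ι rfl
    have hr : Set.range ((P x).ι ≫ Y.hom) ⊆ Set.range (t (x : S)) := by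
      rintro _ ⟨z, rfl⟩
      exact z.2
    have hx : Triv (Red.DSmap S (QuotientAddGroup.mk' (ann s)) ≫ f) (t (x : S)) := by
      have : L (x : S) = ann s := (hLs _).symm.trans x.2
      exact this ▸ htriv (x : S)
    have := hx Yx (Over.homMk (IsOpenImmersion.lift _ _ hr) (IsOpenImmersion.lift_fac _ _ hr)) (c ≫ y)
    rw [Category.assoc, ← MonObj.comp_one c] at this
    exact congrArg CommaMorphism.left this
  haveI := isMonHom_restrict f U.ι
  haveI := isSeparated_bc G U.ι
  haveI : QuasiCompact (Red.bc U.ι G).hom :=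
    MorphismProperty.of_isPullback (P := @QuasiCompact) (IsPullback.of_hasPullback G.hom U.ι) ‹_›
  haveI : LocallyOfFiniteType (Red.bc U.ι G).hom :=
    MorphismProperty.of_isPullback (P := @LocallyOfFiniteType) (IsPullback.of_hasPullback G.hom U.ι) inferInstance
  obtain ⟨j, hj, hfac⟩ := exists_desc (restrict f U.ι) (ann s) (by
    rw [DSmap_restrict, restrict, HomUnitLocus.map_eq_one_of_triv hUt]
    exact MonObj.comp_one _)
  haveI := hj
  obtain ⟨W, hW, hWi⟩ := HomMonoLocus.main (u := j) (isMultTypeFT_DS U (ann s))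
  haveI : Mono j := mono_of_inj j (inj_id_of_top hWi (top_le_iff.mp fun x _ => (hW x).mpr
    (inj_of_le_kerAnn _ j _ hfac (by
      rw [kerAnn_residue]
      exact le_of_eq (show ann s = ann (U.ι x) from x.2.symm)))))
  exact ⟨U, rfl, hUc, ann s, hfgs, j, hj, isClosedImmersion_of_mono_DS_sep j, hfac⟩

end Groth.Agent.Sga3xB

end
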