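import Groth.Agent.Sga3xB.CocharExt

/-!
# Global extension of homomorphisms from diagonalisable groups given at the generic point
-/

set_option autoImplicit false
set_option linter.style.haveILetI false
set_option linter.unusedSectionVars false

universe u

open CategoryTheory CategoryTheory.Limits AlgebraicGeometry MonoidalCategory CartesianMonoidalCategory MonObj GrpObj

noncomputable section

namespace Groth.Agent.Sga3xB

open Groth.Agent.GrpSchLib
open DiagActionRigid (sp spm univPt)
open HomKernelIdeal (str)

variable {S : Scheme.{u}}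

/-- Morphisms to a separated scheme agree if they agree after a schematically dominant map. -/
theorem ext_of_schemDom {O Z : Scheme.{u}} {T : Scheme.{u}} {g : T ⟶ S} [IsSeparated g] (j : Z ⟶ O) [QuasiCompact j]
    [IsSchemeTheoreticallyDominant j] (a b : O ⟶ T) (hg : a ≫ g = b ≫ g) (h : j ≫ a = j ≫ b) : a = b := by
  let e := pullback.fst (pullback.lift a b hg) (pullback.diagonal g)
  haveI : IsClosedImmersion e := MorphismProperty.of_isPullback (P := @IsClosedImmersion)
    (IsPullback.of_hasPullback (pullback.lift a b hg) (pullback.diagonal g)).flip inferInstance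
  have hfac : ∃ k, k ≫ e = j := ⟨pullback.lift j (j ≫ a) (by
    refine pullback.hom_ext ?_ ?_
    · rw [Category.assoc, Category.assoc, pullback.lift_fst, pullback.diagonal_fst, Category.comp_id]
    · rw [Category.assoc, Category.assoc, pullback.lift_snd, pullback.diagonal_snd, Category.comp_id, h]),
      pullback.lift_fst _ _ _⟩
  obtain ⟨k, hk⟩ := hfac
  have hbot : e.ker = ⊥ := le_bot_iff.mp (by
    rw [← j.ker_eq_bot, ← hk]
    exact Scheme.Hom.le_ker_comp k e)
  haveI : IsIso e.imageι := (Scheme.isIso_subschemeι_iff_eq_bot _).mpr hbot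
  haveI : IsIso e.toImage := inferInstance
  haveI : IsIso e := by rw [← e.toImage_imageι]; infer_instance
  rw [← cancel_epi e]
  have hc := pullback.condition (f := pullback.lift a b hg) (g := pullback.diagonal g)
  have h1 := congrArg (· ≫ pullback.fst g g) hc
  have h2 := congrArg (· ≫ pullback.snd g g) hc
  simp only [Category.assoc, pullback.lift_fst, pullback.lift_snd, pullback.diagonal_fst, pullback.diagonal_snd,
    Category.comp_id] at h1 h2
  exact h1.trans h2.symm

theorem pt_left_congr {U : Scheme.{u}} {M : Type} [AddCommGroup M] {B : Type u} [CommRing B]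
    {j j' : Spec (CommRingCat.of B) ⟶ U} (h : j = j') (c : DSPtsLib.CoordM.{u} M →+* B) :
    (DSPtsLib.pt j c).left = (DSPtsLib.pt j' c).left := by
  subst h
  rfl

section Univ

variable (M : Type) [AddCommGroup M] {R : Type u} [CommRing R] (β : Spec (CommRingCat.of R) ⟶ S)

/-- `Spec R[M]` is the restriction of `D(M)` to `Spec R`. -/
def uIso : Spec (CommRingCat.of (MonoidAlgebra R (Multiplicative M))) ≅ pullback (Red.DS S M).hom β :=
  haveI := HomSplitLocal.isIso_univMap (R := R) (β := β) (X := Red.DS S M)
    (fun T _ _ c => DSPtsLib.pt (str β T) c)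
    (fun φ c => DSPtsLib.pt_comp _ _ _ _ (by
      rw [← Spec.map_comp_assoc, ← CommRingCat.ofHom_comp]
      congr 3
      exact φ.comp_algebraMap))
    (fun T _ _ => ⟨fun c c' h => HomMonoLocus.pt_injective _ h, fun y => by
      obtain ⟨f, hf⟩ := DSPtsLib.exists_eq_pt (str β T) y
      exact ⟨f, hf.symm⟩⟩)
  asIso (HomSplitLocal.univMap (R := R) (β := β) (X := Red.DS S M) (fun T _ _ c => DSPtsLib.pt (str β T) c))

/-- The universal point on underlying schemes. -/
def uptL (T : Type u) [CommRing T] [Algebra R T] :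
    Spec (CommRingCat.of (MonoidAlgebra T (Multiplicative M))) ⟶ (Red.DS S M).left :=
  (upt M β T).left

theorem uIso_fst : (uIso M β).hom ≫ pullback.fst _ _ = uptL M β R := pullback.lift_fst _ _ _

theorem upt_left_eq (T : Type u) [CommRing T] [Algebra R T] : (upt M β T).left = uptL M β T := rfl

theorem upt_left_fst (T : Type u) [CommRing T] [Algebra R T] :
    uptL M β T ≫ pullback.fst _ _ = Spec.map (CommRingCat.ofHom (univPt T (AddMonoidHom.id M))) :=
  DSPtsLib.pt_fst _ _

theorem upt_left_snd (T : Type u) [CommRing T] [Algebra R T] :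
    uptL M β T ≫ (Red.DS S M).hom = str β (MonoidAlgebra T (Multiplicative M)) :=
  Over.w (upt M β T)

theorem uIso_snd : (uIso M β).hom ≫ pullback.snd _ _ =
    Spec.map (CommRingCat.ofHom (algebraMap R (MonoidAlgebra R (Multiplicative M)))) := pullback.lift_snd _ _ _

end Univ

/-- The point of the base change attached to a point over the old base, on underlying schemes. -/
theorem adj_left_fst {T : Scheme.{u}} (g : T ⟶ S) {Y : Over T} {H : Over S} (z : (Over.map g).obj Y ⟶ H) :
    (((Over.mapPullbackAdj g).homEquiv Y H) z).left ≫ pullback.fst H.hom g = z.left := by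
  have h := DSPtsLib.theta_left g (((Over.mapPullbackAdj g).homEquiv Y H) z)
  rw [DSPtsLib.theta, Equiv.symm_apply_apply] at h
  exact h.symm

theorem adj_left_snd {T : Scheme.{u}} (g : T ⟶ S) {Y : Over T} {H : Over S} (z : (Over.map g).obj Y ⟶ H) :
    (((Over.mapPullbackAdj g).homEquiv Y H) z).left ≫ pullback.snd H.hom g = Y.hom :=
  Over.w (((Over.mapPullbackAdj g).homEquiv Y H) z)

theorem toK_inv_left {R K : Type u} [CommRing R] [Field K] [Algebra R K] (β : Spec (CommRingCat.of R) ⟶ S)
    (T : Type u) [CommRing T] [Algebra R T] [Algebra K T] [IsScalarTower R K T] :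
    (toK (K := K) β T).inv.left = 𝟙 _ := rfl

theorem toK_hom_left {R K : Type u} [CommRing R] [Field K] [Algebra R K] (β : Spec (CommRingCat.of R) ⟶ S)
    (T : Type u) [CommRing T] [Algebra R T] [Algebra K T] [IsScalarTower R K T] :
    (toK (K := K) β T).hom.left = 𝟙 _ := rfl

theorem actK_left {M : Type} [AddCommGroup M] {G : Over S} [GrpObj G] {R K : Type u} [CommRing R] [Field K]
    [Algebra R K] (β : Spec (CommRingCat.of R) ⟶ S)
    (lam : Red.bc (Spec.map (CommRingCat.ofHom (algebraMap R K)) ≫ β) (Red.DS S M) ⟶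
      Red.bc (Spec.map (CommRingCat.ofHom (algebraMap R K)) ≫ β) G)
    {T : Type u} [CommRing T] [Algebra R T] [Algebra K T] [IsScalarTower R K T] (y : sp β T ⟶ Red.DS S M)
    (w : Spec (CommRingCat.of T) ⟶ pullback (Red.DS S M).hom (Spec.map (CommRingCat.ofHom (algebraMap R K)) ≫ β))
    (h1 : w ≫ pullback.fst _ _ = y.left)
    (h2 : w ≫ pullback.snd _ _ = Spec.map (CommRingCat.ofHom (algebraMap K T))) :
    (actK β lam y).left = w ≫ lam.left ≫ pullback.fst G.hom _ := by
  unfold actK act
  rw [Over.comp_left, toK_hom_left, Category.id_comp, DSPtsLib.theta_left, Over.comp_left, Category.assoc]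
  congr 1
  refine pullback.hom_ext ?_ ?_
  · rw [adj_left_fst, h1, Over.comp_left, toK_inv_left]
    exact Category.id_comp _
  · rw [adj_left_snd, h2]
    rfl

/-- The extension over an affine normal piece. -/
theorem exists_ext_piece {M : Type} [AddCommGroup M] {G : Over S} [GrpObj G] (hG : SGA3x.IsMultTypeFT G)
    {R K : Type u} [CommRing R] [Field K] [Algebra R K] [IsDomain R] [IsIntegrallyClosed R] [IsFractionRing R K]
    (β : Spec (CommRingCat.of R) ⟶ S) {f : Spec (CommRingCat.of K) ⟶ S}
    (hf : Spec.map (CommRingCat.ofHom (algebraMap R K)) ≫ β = f)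
    (lam : Red.bc f (Red.DS S M) ⟶ Red.bc f G) [IsMonHom lam] :
    ∃ x : pullback (Red.DS S M).hom β ⟶ G.left, x ≫ G.hom = pullback.snd _ _ ≫ β ∧
      pullback.lift (pullback.fst (Red.DS S M).hom f) (pullback.snd _ _ ≫ Spec.map (CommRingCat.ofHom (algebraMap R K)))
        (by rw [pullback.condition, Category.assoc, hf]) ≫ x = lam.left ≫ pullback.fst G.hom f := by
  subst hf
  obtain ⟨x, hx⟩ := exists_point_normal β lam hG
  refine ⟨(uIso M β).inv ≫ x.left, ?_, ?_⟩
  · rw [Category.assoc, Over.w x, ← cancel_epi (uIso M β).hom, Iso.hom_inv_id_assoc, ← Category.assoc, uIso_snd]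
    rfl
  · let f := Spec.map (CommRingCat.ofHom (algebraMap R K)) ≫ β
    rw [← cancel_epi (uIso M f).hom]
    have hstr : str f (MonoidAlgebra K (Multiplicative M)) = str β (MonoidAlgebra K (Multiplicative M)) := by
      show Spec.map _ ≫ Spec.map _ ≫ β = _
      rw [← Spec.map_comp_assoc, ← CommRingCat.ofHom_comp, ← IsScalarTower.algebraMap_eq]
    have hup : uptL M f K = uptL M β K := by
      refine pullback.hom_ext ?_ ?_
      · exact (upt_left_fst M f K).trans (upt_left_fst M β K).symm
      · exact ((upt_left_snd M f K).trans hstr).trans (upt_left_snd M β K).symm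
    have e1 : (uIso M f).hom ≫ pullback.lift (pullback.fst (Red.DS S M).hom f)
        (pullback.snd _ _ ≫ Spec.map (CommRingCat.ofHom (algebraMap R K)))
        (by rw [pullback.condition, Category.assoc]) =
        (spm β (mapA (M := M) (Algebra.ofId R K))).left ≫ (uIso M β).hom := by
      refine pullback.hom_ext ?_ ?_
      · rw [Category.assoc, pullback.lift_fst, uIso_fst, hup, Category.assoc, uIso_fst, ← upt_left_eq,
          ← upt_left_eq, ← Over.comp_left, spm_upt]
      · rw [Category.assoc, pullback.lift_snd, ← Category.assoc, uIso_snd, Category.assoc, uIso_snd, ← Spec.map_comp,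
          ← CommRingCat.ofHom_comp]
        show _ = Spec.map _ ≫ Spec.map _
        rw [← Spec.map_comp, ← CommRingCat.ofHom_comp]
        congr 2
        refine RingHom.ext fun r => ?_
        exact ((IsScalarTower.algebraMap_apply R K (MonoidAlgebra K (Multiplicative M)) r).symm.trans
          ((mapA (M := M) (Algebra.ofId R K)).commutes r).symm)
    rw [← Category.assoc, e1, Category.assoc, Iso.hom_inv_id_assoc, ← Over.comp_left, hx]
    exact actK_left β lam (upt M β K) (uIso M f).hom (((uIso_fst M f).trans hup).trans (upt_left_eq M β K).symm)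
      (uIso_snd M f)

/-- The preimage of a cover by open immersions. -/
def preimageCover {X : Scheme.{u}} (h : X ⟶ S) {Y : S → Scheme.{u}} (β : ∀ s, Y s ⟶ S)
    (hβ : ∀ s, IsOpenImmersion (β s)) (hmem : ∀ s, s ∈ Set.range (β s)) : X.OpenCover where
  I₀ := S
  X := fun s => pullback h (β s)
  f := fun s => pullback.fst h (β s)
  mem₀ := by
    rw [Scheme.presieve₀_mem_precoverage_iff]
    refine ⟨fun x => ⟨h x, ?_⟩, fun s => haveI := hβ s; inferInstance⟩
    haveI := hβ (h x)
    rw [IsOpenImmersion.range_pullbackFst]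
    exact hmem (h x)

variable [IsIntegral S]

theorem isSchemeTheoreticallyDominant_generic [QuasiSeparatedSpace S] :
    IsSchemeTheoreticallyDominant (S.fromSpecStalk (genericPoint S)) ∧
      QuasiCompact (S.fromSpecStalk (genericPoint S)) := by
  haveI : IsDominant (S.fromSpecStalk (genericPoint S)) := ⟨by
    rw [DenseRange, dense_iff_closure_eq]
    refine top_unique ?_
    exact ((genericPoint_spec S).def).symm.le.trans (closure_mono (Set.singleton_subset_iff.mpr
      ⟨IsLocalRing.closedPoint _, Scheme.fromSpecStalk_closedPoint⟩))⟩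
  exact ⟨IsSchemeTheoreticallyDominant.of_isDominant _,
    QuasiCompact.of_comp _ (terminal.from S)⟩

variable [QuasiSeparatedSpace S]

/-- Anything flat over an integral base is schematically dense at the generic point. -/
theorem dominant_generic (D : Over S) [Flat D.hom] :
    IsSchemeTheoreticallyDominant (pullback.fst D.hom (S.fromSpecStalk (genericPoint S))) ∧
      QuasiCompact (pullback.fst D.hom (S.fromSpecStalk (genericPoint S))) := by
  obtain ⟨_, hq⟩ := isSchemeTheoreticallyDominant_generic (S := S)
  exact ⟨inferInstance, MorphismProperty.of_isPullback (P := @QuasiCompact) (IsPullback.of_hasPullback _ _).flip hq⟩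

theorem eq_of_generic {D G : Over S} [Flat D.hom] [IsSeparated G.hom] (a b : D ⟶ G)
    (h : (Over.pullback (S.fromSpecStalk (genericPoint S))).map a =
      (Over.pullback (S.fromSpecStalk (genericPoint S))).map b) : a = b := by
  obtain ⟨_, _⟩ := dominant_generic D
  refine Over.OverMorphism.ext (ext_of_schemDom (g := G.hom) (pullback.fst D.hom (S.fromSpecStalk (genericPoint S))) _ _
    ((Over.w a).trans (Over.w b).symm) ?_)
  rw [← HomSplitLocal.map_fst a, ← HomSplitLocal.map_fst b, h]

/-- On an integral normal scheme a homomorphism from `D(M)` at the generic point extends uniquely. -/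
theorem existsUnique_extension (hnorm : ∀ x : S, IsDomain (S.presheaf.stalk x) ∧ IsIntegrallyClosed (S.presheaf.stalk x))
    {M : Type} [AddCommGroup M] {G : Over S} [GrpObj G] (hG : SGA3x.IsMultTypeFT G)
    (lamK : Red.bc (S.fromSpecStalk (genericPoint S)) (Red.DS S M) ⟶ Red.bc (S.fromSpecStalk (genericPoint S)) G)
    [IsMonHom lamK] :
    ∃! lam : Red.DS S M ⟶ G, IsMonHom lam ∧ (Over.pullback (S.fromSpecStalk (genericPoint S))).map lam = lamK := by
  haveI := isAffineHom_of_isMultTypeFT hG
  haveI := flat_DS (S := S) M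
  let f := S.fromSpecStalk (genericPoint S)
  let D := Red.DS S M
  obtain ⟨hjd, hjq⟩ := dominant_generic D
  let j := pullback.fst D.hom f
  let L : pullback D.hom f ⟶ G.left := lamK.left ≫ pullback.fst G.hom f
  have hpiece : ∀ s : S, ∃ (Y : Scheme.{u}) (β : Y ⟶ S) (_ : IsOpenImmersion β) (k : pullback D.hom f ⟶ pullback D.hom β)
      (x : pullback D.hom β ⟶ G.left), s ∈ Set.range β ∧ k ≫ pullback.fst D.hom β = j ∧
        x ≫ G.hom = pullback.snd _ _ ≫ β ∧ k ≫ x = L := by
    intro s
    obtain ⟨W, hW, hsW, -⟩ := exists_isAffineOpen_mem_and_subset (show s ∈ (⊤ : S.Opens) from trivial)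
    haveI : Nonempty W := ⟨⟨s, hsW⟩⟩
    haveI : IsIntegrallyClosed Γ(S, W) := by
      haveI : IsIntegral (W : Scheme.{u}) := isIntegral_of_isOpenImmersion W.ι
      have hN : Pi1.IsNormalScheme (W : Scheme.{u}) := fun x => by
        obtain ⟨h1, h2⟩ := hnorm x.1
        haveI := h1
        haveI := h2
        exact ⟨(W.stalkIso x).commRingCatIsoToRingEquiv.toMulEquiv.isDomain _,
          @IsIntegrallyClosed.of_equiv _ _ _ _ (W.stalkIso x).commRingCatIsoToRingEquiv.symm h2⟩
      haveI := Groth.Agent.S2102.result (W : Scheme.{u}) hN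
      exact IsIntegrallyClosed.of_equiv W.topIso.commRingCatIsoToRingEquiv
    haveI := functionField_isFractionRing_of_isAffineOpen S W hW
    have hη : genericPoint S ∈ W :=
      ((genericPoint_spec S).mem_open_set_iff W.isOpen).mpr (by simpa using ‹Nonempty W›)
    have hf : Spec.map (CommRingCat.ofHom (algebraMap Γ(S, W) S.functionField)) ≫ hW.fromSpec = f := by
      show _ = S.fromSpecStalk (genericPoint S)
      rw [← hW.fromSpecStalk_eq_fromSpecStalk hη]
      rfl
    obtain ⟨x, hxw, hx⟩ := exists_ext_piece hG hW.fromSpec (f := f) hf lamK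
    exact ⟨_, hW.fromSpec, inferInstance, _, x, by rw [hW.range_fromSpec]; exact hsW, pullback.lift_fst _ _ _, hxw, hx⟩
  choose Y β hβ k x hmem hkj hxw hx using hpiece
  let i : ∀ s : S, pullback D.hom (β s) ⟶ D.left := fun s => pullback.fst D.hom (β s)
  have hov : ∀ s t : S, pullback.fst (i s) (i t) ≫ x s = pullback.snd (i s) (i t) ≫ x t := by
    intro s t
    haveI := hβ s
    haveI := hβ t
    haveI : IsOpenImmersion (i s) := inferInstanceAs (IsOpenImmersion (pullback.fst D.hom (β s)))
    haveI : IsOpenImmersion (i t) := inferInstanceAs (IsOpenImmersion (pullback.fst D.hom (β t)))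
    let o := pullback.fst (i s) (i t) ≫ i s
    haveI : IsOpenImmersion (pullback.fst (i s) (i t)) := inferInstance
    haveI : Flat o := inferInstance
    haveI : IsSchemeTheoreticallyDominant j := hjd
    haveI : QuasiCompact j := hjq
    haveI : IsSchemeTheoreticallyDominant (pullback.fst o j) := inferInstance
    haveI : QuasiCompact (pullback.fst o j) :=
      MorphismProperty.of_isPullback (P := @QuasiCompact) (IsPullback.of_hasPullback _ _).flip ‹QuasiCompact j›
    have h1 : pullback.fst o j ≫ pullback.fst (i s) (i t) = pullback.snd o j ≫ k s := by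
      rw [← cancel_mono (i s), Category.assoc, Category.assoc, hkj]
      exact pullback.condition
    have h2 : pullback.fst o j ≫ pullback.snd (i s) (i t) = pullback.snd o j ≫ k t := by
      rw [← cancel_mono (i t), Category.assoc, Category.assoc, hkj]
      exact (congrArg (pullback.fst o j ≫ ·) pullback.condition.symm).trans pullback.condition
    refine ext_of_schemDom (g := G.hom) (pullback.fst o j) _ _ ?_ ?_
    · rw [Category.assoc, Category.assoc, hxw, hxw, ← pullback.condition, ← pullback.condition, ← Category.assoc,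
        ← Category.assoc]
      exact congrArg (· ≫ D.hom) (pullback.condition (f := i s) (g := i t))
    · rw [← Category.assoc (pullback.fst o j) _ (x s), ← Category.assoc (pullback.fst o j) _ (x t), h1, h2,
        Category.assoc, Category.assoc, hx, hx]
  let 𝒰 : D.left.OpenCover := preimageCover D.hom β hβ hmem
  let g : D.left ⟶ G.left := Scheme.Cover.glueMorphisms 𝒰 x hov
  have hg : ∀ s, i s ≫ g = x s := fun s => Scheme.Cover.ι_glueMorphisms 𝒰 x hov s
  let lam : D ⟶ G := Over.homMk g (Scheme.Cover.hom_ext 𝒰 _ _ fun (s : S) => by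
    show i s ≫ g ≫ G.hom = i s ≫ D.hom
    rw [← Category.assoc, hg, hxw]
    exact pullback.condition.symm)
  have hlam : (Over.pullback f).map lam = lamK := by
    refine Over.OverMorphism.ext (pullback.hom_ext ?_ ?_)
    · rw [HomSplitLocal.map_fst]
      let s : S := genericPoint S
      show j ≫ g = L
      rw [← hkj s, Category.assoc, show pullback.fst D.hom (β s) = i s from rfl, hg, hx]
    · rw [HomSplitLocal.map_snd]
      exact (Over.w lamK).symm
  refine ⟨lam, ⟨⟨?_, ?_⟩, hlam⟩, fun l ⟨_, hl⟩ => eq_of_generic l lam (hl.trans hlam.symm)⟩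
  · haveI : Flat (𝟙_ (Over S)).hom := inferInstanceAs (Flat (𝟙 S))
    refine eq_of_generic _ _ ((DSPtsLib.theta_bijective f).1 ?_)
    rw [MonObj.one_eq_one, MonObj.one_eq_one, ← Category.id_comp ((Over.pullback f).map ((1 : 𝟙_ (Over S) ⟶ D) ≫ lam)),
      ← Category.id_comp ((Over.pullback f).map (1 : 𝟙_ (Over S) ⟶ G)), HomUnitLocus.theta_comp_map,
      HomUnitLocus.theta_comp_map, ← Category.assoc, MonObj.comp_one, MonObj.comp_one,
      ← HomUnitLocus.theta_one (G := D) f, ← HomUnitLocus.theta_comp_map, hlam, MonObj.one_comp lamK,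
      HomUnitLocus.theta_one]
  · haveI : Flat (D ⊗ D).hom := inferInstanceAs (Flat (pullback.fst D.hom D.hom ≫ D.hom))
    refine eq_of_generic _ _ ((DSPtsLib.theta_bijective f).1 ?_)
    rw [← Category.id_comp ((Over.pullback f).map (μ[D] ≫ lam)),
      ← Category.id_comp ((Over.pullback f).map ((lam ⊗ₘ lam) ≫ μ[G])), HomUnitLocus.theta_comp_map,
      HomUnitLocus.theta_comp_map]
    let p := DSPtsLib.theta f (𝟙 (Red.bc f (D ⊗ D)))
    obtain ⟨a, ha⟩ := (DSPtsLib.theta_bijective f).2 (p ≫ fst D D)
    obtain ⟨b, hb⟩ := (DSPtsLib.theta_bijective f).2 (p ≫ snd D D)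
    have key : ∀ c : Red.bc f (D ⊗ D) ⟶ Red.bc f D, DSPtsLib.theta f c ≫ lam = DSPtsLib.theta f (c ≫ lamK) :=
      fun c => by rw [← HomUnitLocus.theta_comp_map, hlam]
    rw [MonObj.mul_eq_mul, MonObj.mul_eq_mul, MonObj.comp_mul, tensorHom_fst, tensorHom_snd]
    show p ≫ (fst D D * snd D D) ≫ lam = p ≫ ((fst D D ≫ lam) * (snd D D ≫ lam))
    rw [← Category.assoc, MonObj.comp_mul, MonObj.comp_mul, ← ha, ← hb, ← DSPtsLib.theta_mul, key,
      MonObj.mul_comp a b lamK, DSPtsLib.theta_mul, ← key, ← key, ha, hb, Category.assoc, Category.assoc]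

end Groth.Agent.Sga3xB

end
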