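import Groth.Agent.Sga3xB.UnivClosed
import Groth.Prelude.Def_MoreMor
import Groth.Prelude.Def_SGA3x

/-!
# The torsion subschemes as a directed family
-/

universe u

open CategoryTheory CategoryTheory.Limits MonoidalCategory CartesianMonoidalCategory MonObj GrpObj AlgebraicGeometry

namespace Groth.Agent.Sga3xB

variable {S : Scheme.{u}} (H : Over S) [GrpObj H]

/-- The subscheme `ₙH` of `H`. -/
noncomputable def torsion (n : ℕ) : Over S :=
  Over.mk (pullback.snd η[H].left (𝟙 H ^ n : H ⟶ H).left ≫ H.hom)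

/-- The inclusion of `ₙH`. -/
noncomputable def torsionι (n : ℕ) : torsion H n ⟶ H :=
  Over.homMk (pullback.snd η[H].left (𝟙 H ^ n : H ⟶ H).left) rfl

theorem torsion_iff {n : ℕ} {X : Over S} (h : X ⟶ H) : (∃ a, a ≫ torsionι H n = h) ↔ h ^ n = 1 := by
  have h1 : (1 : X ⟶ H).left = X.hom ≫ η[H].left := rfl
  have h2 : ∀ {Y : Over S} (k : Y ⟶ H), k.left ≫ (𝟙 H ^ n : H ⟶ H).left = (k ^ n).left := fun k => by
    rw [← Over.comp_left, MonObj.comp_pow, Category.comp_id]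
  have hcond : (torsionι H n).left ≫ (𝟙 H ^ n : H ⟶ H).left = (torsion H n).hom ≫ η[H].left := by
    show pullback.snd η[H].left (𝟙 H ^ n : H ⟶ H).left ≫ _ =
      (pullback.snd η[H].left (𝟙 H ^ n : H ⟶ H).left ≫ H.hom) ≫ _
    have h3 : pullback.snd η[H].left (𝟙 H ^ n : H ⟶ H).left ≫ H.hom = pullback.fst _ _ := by
      calc _ = pullback.snd η[H].left (𝟙 H ^ n : H ⟶ H).left ≫ (𝟙 H ^ n : H ⟶ H).left ≫ H.hom := by rw [Over.w]
        _ = pullback.fst _ _ ≫ η[H].left ≫ H.hom := by rw [← pullback.condition_assoc]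
        _ = pullback.fst _ _ := by rw [Over.w η[H]]; exact Category.comp_id _
    rw [h3, pullback.condition]
  constructor
  · rintro ⟨a, rfl⟩
    apply Over.OverMorphism.ext
    rw [← h2, h1, Over.comp_left, Category.assoc, hcond, ← Category.assoc, Over.w a]
  · intro hh
    refine ⟨Over.homMk (pullback.lift X.hom h.left (by rw [h2, hh, h1])) ?_, Over.OverMorphism.ext ?_⟩
    · show _ ≫ pullback.snd _ _ ≫ H.hom = _
      erw [pullback.lift_snd_assoc, Over.w h]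
    · show _ ≫ pullback.snd _ _ = _
      exact pullback.lift_snd _ _ _

theorem torsion_le {m n : ℕ} (h : m ∣ n) : ∃ a : torsion H m ⟶ torsion H n, a ≫ torsionι H n = torsionι H m := by
  obtain ⟨k, rfl⟩ := h
  exact (torsion_iff H _).mpr (by rw [pow_mul, (torsion_iff H _).mp ⟨𝟙 _, Category.id_comp _⟩, one_pow])

theorem fibreDense_torsion (E : Set ℕ)
    (hb : ∀ (s : S) (V : (H.hom.fiber s).Opens) (t : Γ(H.hom.fiber s, V)),
      (∀ n ∈ E, (MoreMor.fiberMap (pullback.snd η[H].left (𝟙 H ^ n : H ⟶ H).left) H.hom s).app V t = 0) → t = 0) :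
    FibreDense H.hom (fun n : E => (torsion H n).hom) (fun n => (torsionι H n).left) := fun s V t ht =>
  hb s V t fun n hn => ht ⟨n, hn⟩ _ (pullback.lift_fst _ _ _) (pullback.lift_snd _ _ _)

theorem exists_closed_universal_torsion [LocallyOfFiniteType H.hom] [IsLocallyNoetherian S]
    (E : Set ℕ) (hE : E.Nonempty) (hEmul : ∀ m ∈ E, ∀ n ∈ E, m * n ∈ E)
    (ha : ∀ n ∈ E, IsFinite ((pullback.snd η[H].left (𝟙 H ^ n : H ⟶ H).left) ≫ H.hom) ∧
      Flat ((pullback.snd η[H].left (𝟙 H ^ n : H ⟶ H).left) ≫ H.hom))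
    (hb : ∀ (s : S) (V : (H.hom.fiber s).Opens) (t : Γ(H.hom.fiber s, V)),
      (∀ n ∈ E, (MoreMor.fiberMap (pullback.snd η[H].left (𝟙 H ^ n : H ⟶ H).left) H.hom s).app V t = 0) → t = 0)
    {X Y C : Over S} [IsLocallyNoetherian X.left] (f : H ⊗ X ⟶ Y) (i : C ⟶ Y) [IsClosedImmersion i.left] :
    (∃ (Z : Over S) (c : Z ⟶ X), IsClosedImmersion c.left ∧
      ∀ (P : Over S) (x : P ⟶ X), (∃ z : P ⟶ Z, z ≫ c = x) ↔ ∃ l : H ⊗ P ⟶ C, l ≫ i = (H ◁ x) ≫ f) ∧
    (AlgebraicGeometry.IsNoetherian X.left → ∃ n : E, ∀ (P : Over S) (x : P ⟶ X),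
      (∃ l : H ⊗ P ⟶ C, l ≫ i = (H ◁ x) ≫ f) ↔
        ∃ l : torsion H n ⊗ P ⟶ C, l ≫ i = (torsionι H n ▷ P) ≫ (H ◁ x) ≫ f) := by
  have : Nonempty E := hE.to_subtype
  have hfin : ∀ n : E, IsFinite (torsion H n).hom := fun n => (ha n n.2).1
  have hfl : ∀ n : E, Flat (torsion H n).hom := fun n => (ha n n.2).2
  have hfp : ∀ n : E, LocallyOfFinitePresentation (torsion H n).hom := fun n => inferInstance
  exact exists_closed_universal f i _ _ (fibreDense_torsion H E hb) fun m n =>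
    ⟨⟨m * n, hEmul _ m.2 _ n.2⟩, torsion_le H ⟨n, rfl⟩, torsion_le H ⟨m, Nat.mul_comm _ _⟩⟩

end Groth.Agent.Sga3xB
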