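import Groth.Agent.Sga3xB.RedKilled
import Groth.Agent.GrpSchLib.MultTypeComm
import Groth.Agent.GrpSchLib.MultTypeBC

/-!
# Lifting isomorphisms and monomorphisms of groups of multiplicative type along surjective closed immersions
-/

universe u

set_option autoImplicit false
set_option linter.style.haveILetI false
set_option backward.isDefEq.respectTransparency false
set_option synthInstance.maxHeartbeats 400000
set_option maxHeartbeats 800000

open CategoryTheory CategoryTheory.Limits AlgebraicGeometry MonoidalCategory CartesianMonoidalCategory MonObj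

noncomputable section

namespace Groth.Agent.Sga3xB

open Groth.Agent.DSPtsLib

variable {S S₀ : Scheme.{u}} (π : S₀ ⟶ S) [IsClosedImmersion π] [Surjective π]

theorem mono_of_mono_red {H G : Over S} [GrpObj H] [GrpObj G] (hH : SGA3x.IsMultTypeFT H) (hk : LocKilled H)
    (u : H ⟶ G) [IsMonHom u] [Mono ((Over.pullback π).map u)] : Mono u := by
  haveI := flat_multTypeFT hH
  haveI := MultTransp18.lfp_multTypeFT hH
  refine ⟨fun {X} a b h => ?_⟩
  rw [← mul_inv_eq_one]
  have hd : (a * b⁻¹) ≫ u = 1 := by rw [MonObj.mul_comp, GrpObj.inv_comp, h, mul_inv_cancel]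
  have h0 : (Over.pullback π).map (a * b⁻¹) = (Over.pullback π).map (1 : X ⟶ H) := by
    rw [← cancel_mono ((Over.pullback π).map u), ← Functor.map_comp, ← Functor.map_comp, hd, MonObj.one_comp]
  refine eq_of_mod π (𝟙 (Red.bc π H)) (fun Y x g => GrpSchLib.MultTypeComm.points_comm
    (GrpSchLib.MultTypeBC.isMultTypeFT_bc π hH) (x ≫ 𝟙 _) g) (a * b⁻¹) 1 h0 ?_ fun q => ?_
  · rintro p -
    haveI : Surjective (pullback.fst H.hom π) := MorphismProperty.pullback_fst _ _ ‹_›
    obtain ⟨z, rfl⟩ := (pullback.fst H.hom π).surjective p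
    refine ⟨z, ?_⟩
    rw [theta_left, Over.id_left, Category.id_comp]
    rfl
  · obtain ⟨V, N, hs, hN, hV⟩ := hk (X.hom q)
    exact ⟨V, N, hs, hN, fun Y y hY => ⟨hV Y _ hY, hV Y _ hY⟩⟩

theorem exists_iso_lift {K K' : Over S} [GrpObj K] [GrpObj K'] (hK : SGA3x.IsMultTypeFT K)
    (hK' : SGA3x.IsMultTypeFT K') (hk : LocKilled K) (hk' : LocKilled K')
    (φ₀ : Red.bc π K ≅ Red.bc π K') [IsMonHom φ₀.hom] :
    ∃ φ : K ≅ K', IsMonHom φ.hom ∧ (Over.pullback π).map φ.hom = φ₀.hom := by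
  haveI := flat_multTypeFT hK
  haveI := MultTransp18.lfp_multTypeFT hK
  haveI := flat_multTypeFT hK'
  haveI := MultTransp18.lfp_multTypeFT hK'
  have hc : ∀ {L : Over S} [GrpObj L], SGA3x.IsMultTypeFT L → ∀ (Y : Over S₀) (x g : Y ⟶ Red.bc π L), x * g = g * x :=
    fun hL Y x g => GrpSchLib.MultTypeComm.points_comm (GrpSchLib.MultTypeBC.isMultTypeFT_bc π hL) x g
  haveI : IsMonHom φ₀.inv := inferInstance
  obtain ⟨f, hf, hf0, -, -⟩ := exists_central_lift π φ₀.hom (fun Y x g => hc hK' Y _ g) hk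
  obtain ⟨g, hg, hg0, -, -⟩ := exists_central_lift π φ₀.inv (fun Y x g => hc hK Y _ g) hk'
  obtain ⟨w, -, -, -, hw⟩ := exists_central_lift π (𝟙 (Red.bc π K)) (fun Y x g => hc hK Y _ g) hk
  obtain ⟨w', -, -, -, hw'⟩ := exists_central_lift π (𝟙 (Red.bc π K')) (fun Y x g => hc hK' Y _ g) hk'
  haveI := hf
  haveI := hg
  refine ⟨⟨f, g, ?_, ?_⟩, hf, hf0⟩
  · rw [hw (f ≫ g) inferInstance (by rw [Functor.map_comp, hf0, hg0, Iso.hom_inv_id]),
      hw (𝟙 K) inferInstance (CategoryTheory.Functor.map_id _ _)]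
  · rw [hw' (g ≫ f) inferInstance (by rw [Functor.map_comp, hf0, hg0, Iso.inv_hom_id]),
      hw' (𝟙 K') inferInstance (CategoryTheory.Functor.map_id _ _)]

end Groth.Agent.Sga3xB
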