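import Groth.Agent.MultTransp18.InfHomScheme
import Groth.Agent.GrpSchLib.MultTypeBC
import Groth.Agent.GrpSchLib.AffineHopf
import Groth.Agent.MultTypeLib.FiniteMult
import Mathlib.GroupTheory.FiniteAbelian.Basic

/-!
# The spectrum of a Hopf algebra of multiplicative type and of finite type is a group of multiplicative type
-/

universe u

set_option autoImplicit false
set_option linter.style.haveILetI false
set_option maxHeartbeats 800000
set_option synthInstance.maxHeartbeats 400000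

open CategoryTheory CategoryTheory.Limits AlgebraicGeometry TensorProduct

namespace Groth.Agent.Sga3xB

open Groth.Agent.GrpSchLib Groth.Agent.GrpSchLib.AffineHopf Groth.Agent.MultTypeLib

/-- A finitely generated commutative group is isomorphic to a small one. -/
theorem exists_small_fg (M : Type u) [CommGroup M] [Group.FG M] :
    ∃ (M₀ : Type) (_ : AddCommGroup M₀), AddGroup.FG M₀ ∧ Nonempty (M ≃* Multiplicative M₀) := by
  classical
  haveI : AddGroup.FG (Additive M) := GroupFG.iff_add_fg.mp inferInstance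
  obtain ⟨r, idx, hidx, p, -, e, ⟨ψ⟩⟩ := AddCommGroup.equiv_free_prod_directSum_zmod (Additive M)
  exact ⟨_, inferInstance, AddGroup.fg_of_surjective (f := ψ.toAddMonoidHom) ψ.surjective,
    ⟨AddEquiv.toMultiplicativeRight ψ⟩⟩

theorem nonempty_DS_of_equiv {S : Type u} [CommRing S] {B : Type u} [CommRing B] [HopfAlgebra S B] {M : Type u}
    [CommGroup M] {M₀ : Type} [AddCommGroup M₀] (E : B ≃ₐc[S] MonoidAlgebra S M) (ψ : M ≃* Multiplicative M₀) :
    Nonempty (Grp.mk (sp S B) ≅ Grp.mk (Red.DS (Spec (CommRingCat.of S)) M₀)) := by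
  obtain ⟨e₂⟩ := nonempty_DS_iso S M₀
  exact ⟨spIso (E.trans (MonoidAlgebra.domCongrBialgEquiv S S ψ)).symm ≪≫ e₂⟩

set_option maxHeartbeats 800000 in
/-- A member of a trivialising cover splits the spectrum as a diagonalisable group. -/
theorem exists_DS_split {R : Type u} [CommRing R] {A : Type u} [CommRing A] [HopfAlgebra R A]
    (hft : ∀ (C : Type u) [Field C] [Algebra R C], Algebra.FiniteType C (C ⊗[R] A))
    (P : Split R A) [Nontrivial P.S] :
    ∃ (M₀ : Type) (_ : AddCommGroup M₀), AddGroup.FG M₀ ∧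
      Nonempty (Grp.mk (Red.bc (Spec.map (CommRingCat.ofHom (algebraMap R P.S))) (sp R A)) ≅
        Grp.mk (Red.DS (Spec (CommRingCat.of P.S)) M₀)) := by
  classical
  have hb : Function.Bijective P.hom.extend := by
    rw [show ⇑P.hom.extend = ⇑P.equiv from funext P.extend_eq]
    exact P.equiv.bijective
  let E : P.S ⊗[R] A ≃ₐc[P.S] MonoidAlgebra P.S P.M := P.hom.toBialgEquiv hb
  -- the character group is finitely generated
  obtain ⟨m, hm⟩ := Ideal.exists_maximal P.S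
  letI := Ideal.Quotient.field m
  haveI : Algebra.FiniteType (P.S ⧸ m) (MonoidAlgebra (P.S ⧸ m) P.M) := (hft (P.S ⧸ m)).equiv
    (((Algebra.TensorProduct.cancelBaseChange R P.S (P.S ⧸ m) (P.S ⧸ m) A).symm.trans
      (Algebra.TensorProduct.congr AlgEquiv.refl (E : P.S ⊗[R] A ≃ₐ[P.S] MonoidAlgebra P.S P.M))).trans
        (MonoidAlgebra.scalarTensorEquiv P.S (P.S ⧸ m) (M := P.M)))
  haveI : Monoid.FG P.M := MonoidAlgebra.finiteType_iff_fg.mp this
  haveI : Group.FG P.M := Group.fg_iff_monoid_fg.mpr inferInstance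
  obtain ⟨M₀, iM, hM₀, ⟨ψ⟩⟩ := exists_small_fg P.M
  obtain ⟨e₁⟩ := nonempty_bc_sp (R := R) P.S A
  obtain ⟨e₂⟩ := nonempty_DS_of_equiv E ψ
  exact ⟨M₀, iM, hM₀, ⟨e₁ ≪≫ e₂⟩⟩

set_option backward.isDefEq.respectTransparency false in
theorem isMultTypeFT_sp {R : Type u} [CommRing R] {A : Type u} [CommRing A] [HopfAlgebra R A]
    (hA : SGA3b.IsMultType R A)
    (hft : ∀ (C : Type u) [Field C] [Algebra R C], Algebra.FiniteType C (C ⊗[R] A)) :
    SGA3x.IsMultTypeFT (sp R A) := by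
  classical
  obtain ⟨c⟩ := exists_cover hA
  let X : c.ι → Scheme.{u} := fun i => Spec (CommRingCat.of (c.split i).S)
  let g : ∀ i, X i ⟶ Spec (CommRingCat.of R) := fun i =>
    Spec.map (CommRingCat.ofHom (algebraMap R (c.split i).S))
  let f : (∐ X) ⟶ Spec (CommRingCat.of R) := Sigma.desc g
  haveI : Flat f := IsZariskiLocalAtSource.sigmaDesc (P := @Flat) fun i =>
    (HasRingHomProperty.Spec_iff (P := @Flat) (φ := CommRingCat.ofHom (algebraMap R (c.split i).S))).mpr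
      (RingHom.flat_algebraMap_iff.mpr inferInstance)
  haveI : Surjective f := ⟨fun p => by
    obtain ⟨i, q, hq, hqp⟩ := c.surj p.asIdeal p.isPrime
    refine ⟨Sigma.ι X i ⟨q, hq⟩, ?_⟩
    rw [← Scheme.Hom.comp_apply, Sigma.ι_desc]
    exact PrimeSpectrum.ext hqp⟩
  haveI : IsAffineHom f := isAffineHom_of_isAffine f
  refine ⟨∐ X, f, inferInstance, inferInstance, fun V hV => ⟨f ⁻¹ᵁ V, (hV.preimage f).isCompact, ?_⟩, fun s' => ?_⟩
  · rw [Scheme.Hom.coe_preimage, Set.image_preimage_eq _ f.surjective]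
  obtain ⟨i, q, rfl⟩ := (sigmaOpenCover X).exists_eq s'
  haveI : Nontrivial (c.split i).S := PrimeSpectrum.nonempty_iff_nontrivial.mp ⟨q⟩
  obtain ⟨M₀, iM, hM₀, ⟨eS⟩⟩ := exists_DS_split hft (c.split i)
  have hU : (Sigma.ι X i).opensRange.ι ≫ f = (Sigma.ι X i).isoOpensRange.inv ≫ g i := by
    rw [← Scheme.Hom.isoOpensRange_inv_comp (Sigma.ι X i), Category.assoc, Sigma.ι_desc]
  obtain ⟨e₃⟩ := MultTypeBC.bc_congr hU (sp R A)
  obtain ⟨e₄⟩ := MultTypeBC.bc_bc (Sigma.ι X i).isoOpensRange.inv (g i) (sp R A)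
  obtain ⟨e₅⟩ := MultTypeBC.bc_iso (Sigma.ι X i).isoOpensRange.inv eS
  obtain ⟨e₆⟩ := MultTypeBC.bc_DS (Sigma.ι X i).isoOpensRange.inv M₀
  exact ⟨(Sigma.ι X i).opensRange, ⟨q, rfl⟩, M₀, iM, hM₀, ⟨e₃ ≪≫ e₄.symm ≪≫ e₅ ≪≫ e₆⟩⟩

end Groth.Agent.Sga3xB
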