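import Groth.Agent.Sga3xB.EtaleAtFibre
import Groth.Agent.Sga3xB.NilEtale
import Groth.Agent.S8395
import Groth.Agent.DSPtsLib.Basic
import Groth.Agent.GrpSchLib.HomUnitLocus

/-!
# Central homomorphisms from groups killed by invertible integers lift along surjective closed immersions

The power map of a flat group is étale at central points killed by it, so the lifts are unique étale sections.
-/

universe u

set_option autoImplicit false
set_option linter.style.haveILetI false
set_option backward.isDefEq.respectTransparency false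
set_option maxHeartbeats 800000
set_option synthInstance.maxHeartbeats 400000

open CategoryTheory CategoryTheory.Limits AlgebraicGeometry MonoidalCategory CartesianMonoidalCategory MonObj
open TopologicalSpace

noncomputable section

namespace Groth.Agent.Sga3xB

open Groth.Agent.DSPtsLib

variable {S : Scheme.{u}}

theorem theta_one' {U : Scheme.{u}} {g : U ⟶ S} {H : Over S} [GrpObj H] {Y : Over U} :
    theta g (1 : Y ⟶ Red.bc g H) = 1 := by
  have h1 := theta_mul (g := g) (H := H) (1 : Y ⟶ Red.bc g H) 1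
  rw [_root_.one_mul] at h1
  exact mul_eq_left.mp h1.symm

theorem theta_pow' {U : Scheme.{u}} {g : U ⟶ S} {H : Over S} [GrpObj H] {Y : Over U} (a : Y ⟶ Red.bc g H) (n : ℕ) :
    theta g (a ^ n) = theta g a ^ n := by
  induction n with
  | zero => rw [pow_zero, pow_zero, theta_one']
  | succ n ih => rw [pow_succ, pow_succ, theta_mul, ih]

theorem theta_id_comp {U : Scheme.{u}} {g : U ⟶ S} {X Y : Over S} (v : X ⟶ Y) :
    theta g (𝟙 (Red.bc g X)) ≫ v = theta g ((Over.pullback g).map v) := by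
  have h : theta g (𝟙 (Red.bc g X) ≫ (Over.pullback g).map v) = theta g (𝟙 (Red.bc g X)) ≫ v :=
    (Over.mapPullbackAdj g).homEquiv_naturality_right_symm (𝟙 (Red.bc g X)) v
  rw [Category.id_comp] at h
  exact h.symm

variable {G : Over S} [GrpObj G]

/-- The open where the `N`-th power map is étale. -/
def etaleOpen (G : Over S) [GrpObj G] (N : ℕ) : G.left.Opens :=
  sSup {W : G.left.Opens | Etale (W.ι ≫ ((𝟙 G : G ⟶ G) ^ N).left)}

instance etale_etaleOpen (N : ℕ) : Etale ((etaleOpen G N).ι ≫ ((𝟙 G : G ⟶ G) ^ N).left) := by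
  refine IsZariskiLocalAtSource.of_iSup_eq_top
    (fun W : {W : G.left.Opens // Etale (W.ι ≫ ((𝟙 G : G ⟶ G) ^ N).left)} => (etaleOpen G N).ι ⁻¹ᵁ W.1)
    (top_unique fun x _ => ?_) (fun W => ?_)
  · obtain ⟨W, hW, hxW⟩ := Opens.mem_sSup.mp x.2
    exact Opens.mem_iSup.mpr ⟨⟨W, hW⟩, hxW⟩
  · haveI := W.2
    rw [show ((etaleOpen G N).ι ⁻¹ᵁ W.1).ι ≫ (etaleOpen G N).ι ≫ ((𝟙 G : G ⟶ G) ^ N).left =
      ((etaleOpen G N).ι ∣_ W.1) ≫ W.1.ι ≫ ((𝟙 G : G ⟶ G) ^ N).left by rw [morphismRestrict_ι_assoc]]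
    infer_instance

variable [Flat G.hom] [LocallyOfFinitePresentation G.hom]

/-- The power map is étale at a central point where the exponent is invertible. -/
theorem mem_etaleOpen_of_central {N : ℕ} {K : Type u} [Field K] (hN : (N : K) ≠ 0)
    (b : Spec (CommRingCat.of K) ⟶ S) (g : Over.mk b ⟶ G)
    (hg : ∀ (X : Over S) (t : X ⟶ Over.mk b) (x : X ⟶ G), (t ≫ g) * x = x * (t ≫ g)) :
    g.left (IsLocalRing.closedPoint K) ∈ etaleOpen G N := by
  let jj : (Over.map b).obj (𝟙_ (Over (Spec (CommRingCat.of K)))) ⟶ Over.mk b :=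
    Over.homMk (𝟙 (Spec (CommRingCat.of K))) (by simp)
  obtain ⟨gK, hgK⟩ := (theta_bijective (g := b) (H := G)).2 (jj ≫ g)
  haveI : LocallyOfFiniteType (Red.bc b G).hom := inferInstanceAs (LocallyOfFiniteType (pullback.snd G.hom b))
  have hcen : ∀ (X : Over (Spec (CommRingCat.of K))) (x : X ⟶ Red.bc b G),
      (toUnit X ≫ gK) * x = x * (toUnit X ≫ gK) := fun X x => by
    refine (theta_bijective (g := b) (H := G)).1 ?_
    rw [theta_mul, theta_mul, theta_comp, hgK, ← Category.assoc]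
    exact hg _ _ _
  obtain ⟨U, hU, hUe⟩ := S8395.result K (Red.bc b G) N hN gK hcen
  haveI := hUe
  haveI : LocallyOfFinitePresentation (((𝟙 G : G ⟶ G) ^ N).left ≫ G.hom) := by rw [Over.w]; infer_instance
  haveI : Flat (((𝟙 G : G ⟶ G) ^ N).left ≫ G.hom) := by rw [Over.w]; infer_instance
  have hθ : theta b ((𝟙 (Red.bc b G) : Red.bc b G ⟶ Red.bc b G) ^ N) =
      theta b (𝟙 (Red.bc b G)) ≫ ((𝟙 G : G ⟶ G) ^ N) := by
    rw [theta_pow', MonObj.comp_pow, Category.comp_id]
  have h1 := congrArg CommaMorphism.left hθ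
  simp only [Over.comp_left, theta_left, Over.id_left, Category.id_comp] at h1
  obtain ⟨W, hW, hWe⟩ := exists_etale_nhd_of_fibre ((𝟙 G : G ⟶ G) ^ N).left G.hom b
    (p₁ := pullback.fst G.hom b) (p₂ := pullback.snd G.hom b)
    (by rw [Over.w]; exact IsPullback.of_hasPullback G.hom b) (IsPullback.of_hasPullback G.hom b)
    ((𝟙 (Red.bc b G) : Red.bc b G ⟶ Red.bc b G) ^ N).left h1
    (Over.w ((𝟙 (Red.bc b G) : Red.bc b G ⟶ Red.bc b G) ^ N))
    (gK.left (IsLocalRing.closedPoint K)) U (hU ⟨_, rfl⟩)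
  refine (le_sSup (show W ∈ {W : G.left.Opens | Etale (W.ι ≫ ((𝟙 G : G ⟶ G) ^ N).left)} from hWe)) ?_
  have h2 := congrArg CommaMorphism.left hgK
  have h3 : g.left = gK.left ≫ pullback.fst G.hom b := (h2.trans (Category.id_comp _)).symm
  rw [h3]
  exact hW

section Lift

variable {S₀ : Scheme.{u}} (π : S₀ ⟶ S) [IsClosedImmersion π] [Surjective π] {H : Over S} [GrpObj H]

/-- A group is killed, locally on the base, by integers invertible there. -/
def LocKilled (H : Over S) [GrpObj H] : Prop :=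
  ∀ s : S, ∃ (V : S.Opens) (N : ℕ), s ∈ V ∧ (∀ t ∈ V, (N : S.residueField t) ≠ 0) ∧
    ∀ (X : Over S) (x : X ⟶ H), Set.range X.hom.base ⊆ (V : Set S) → x ^ N = 1

variable (u₀ : Red.bc π H ⟶ Red.bc π G) [IsMonHom u₀]
  (hc₀ : ∀ (X : Over S₀) (x : X ⟶ Red.bc π H) (g : X ⟶ Red.bc π G), (x ≫ u₀) * g = g * (x ≫ u₀))

/-- A point of the reduction over the base comes from a point over the closed subscheme. -/
theorem exists_red_point {X : Over S} {Z : Over S₀} (m : X ⟶ (Over.map π).obj Z) :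
    ∃ (X₀ : Over S₀) (a : X₀ ⟶ Z) (e : (Over.map π).obj X₀ ⟶ X) (e' : X ⟶ (Over.map π).obj X₀),
      e' ≫ e = 𝟙 _ ∧ e ≫ m = (Over.map π).map a := by
  have hw : X.hom = (m.left ≫ Z.hom) ≫ π := by rw [Category.assoc]; exact (Over.w m).symm
  exact ⟨Over.mk (m.left ≫ Z.hom), Over.homMk m.left rfl, Over.homMk (𝟙 _) (by simpa using hw),
    Over.homMk (𝟙 _) (by simpa using hw.symm), Over.OverMorphism.ext (Category.id_comp _),
    Over.OverMorphism.ext (Category.id_comp _)⟩

include hc₀ in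
theorem commute_red (X : Over S) (m : X ⟶ (Over.map π).obj (Red.bc π H)) (x : X ⟶ G) :
    (m ≫ theta π u₀) * x = x * (m ≫ theta π u₀) := by
  obtain ⟨X₀, a, e, e', hee, hem⟩ := exists_red_point π m
  obtain ⟨x₀, hx₀⟩ := (theta_bijective (g := π) (H := G)).2 (e ≫ x)
  have h := congrArg (theta π) (hc₀ X₀ a x₀)
  rw [theta_mul, theta_mul, theta_comp, hx₀, ← hem, Category.assoc, ← MonObj.comp_mul, ← MonObj.comp_mul] at h
  have h' := congrArg (fun q => e' ≫ q) h
  simpa only [← Category.assoc, hee, Category.id_comp] using h'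

theorem pow_red {V : S.Opens} {N : ℕ}
    (hV : ∀ (X : Over S) (x : X ⟶ H), Set.range X.hom.base ⊆ (V : Set S) → x ^ N = 1)
    (X : Over S) (m : X ⟶ (Over.map π).obj (Red.bc π H)) (hX : Set.range X.hom.base ⊆ (V : Set S)) :
    (m ≫ theta π u₀) ^ N = 1 := by
  obtain ⟨X₀, a, e, e', hee, hem⟩ := exists_red_point π m
  have hrange : Set.range ((Over.map π).obj X₀).hom.base ⊆ (V : Set S) := by
    rintro _ ⟨p, rfl⟩
    refine hX ⟨e.left p, ?_⟩
    rw [← Scheme.Hom.comp_apply, Over.w e]
  have ha : a ^ N = 1 := (theta_bijective (g := π) (H := H)).1 (by rw [theta_pow', hV _ _ hrange, theta_one'])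
  have h : theta π ((a ≫ u₀) ^ N) = 1 := by rw [← MonObj.pow_comp, ha, MonObj.one_comp, theta_one']
  rw [theta_pow', theta_comp, ← hem, Category.assoc, ← MonObj.comp_pow] at h
  have h' := congrArg (fun q => e' ≫ q) h
  simp only [← Category.assoc, hee, Category.id_comp, MonObj.comp_one] at h'
  exact h'

include hc₀ in
theorem mem_etaleOpen_red {N : ℕ} (z : ((Over.map π).obj (Red.bc π H)).left)
    (hN : (N : S.residueField (((Over.map π).obj (Red.bc π H)).hom z)) ≠ 0) :
    (theta π u₀).left z ∈ etaleOpen G N := by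
  let Z : Over S := (Over.map π).obj (Red.bc π H)
  let K : Type u := Z.left.residueField z
  let m : Over.mk (Z.left.fromSpecResidueField z ≫ Z.hom) ⟶ Z := Over.homMk (Z.left.fromSpecResidueField z) rfl
  have hNK : (N : K) ≠ 0 := fun h0 => hN ((Z.hom.residueFieldMap z).hom.injective (by rw [map_natCast, map_zero]; exact h0))
  have h := mem_etaleOpen_of_central (N := N) hNK (Z.left.fromSpecResidueField z ≫ Z.hom) (m ≫ theta π u₀)
    fun X t x => by rw [← Category.assoc]; exact commute_red π u₀ hc₀ X _ x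
  rw [Over.comp_left, Scheme.Hom.comp_apply] at h
  rwa [show m.left (IsLocalRing.closedPoint K) = z from Scheme.fromSpecResidueField_apply _ _] at h

include hc₀ in
theorem mem_etaleOpen_of_range {T : Over S} (f : T ⟶ G)
    (hf : Set.range f.left.base ⊆ Set.range (theta π u₀).left.base) {N : ℕ} (p : T.left)
    (hN : (N : S.residueField (T.hom p)) ≠ 0) : f.left p ∈ etaleOpen G N := by
  obtain ⟨z, hz⟩ := hf ⟨p, rfl⟩
  rw [← hz]
  refine mem_etaleOpen_red π u₀ hc₀ z ?_
  have : ((Over.map π).obj (Red.bc π H)).hom z = T.hom p := by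
    rw [← Over.w (theta π u₀), Scheme.Hom.comp_apply, hz, ← Over.w f, Scheme.Hom.comp_apply]
  rwa [this]

include hc₀ in
/-- Morphisms killed by invertible integers which agree on the closed subscheme are equal. -/
theorem eq_of_mod {T : Over S} (f f' : T ⟶ G) (hmod : (Over.pullback π).map f = (Over.pullback π).map f')
    (hf : Set.range f.left.base ⊆ Set.range (theta π u₀).left.base)
    (hloc : ∀ p : T.left, ∃ (V : S.Opens) (N : ℕ), T.hom p ∈ V ∧ (∀ t ∈ V, (N : S.residueField t) ≠ 0) ∧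
      ∀ (X : Over S) (x : X ⟶ T), Set.range X.hom.base ⊆ (V : Set S) → (x ≫ f) ^ N = 1 ∧ (x ≫ f') ^ N = 1) :
    f = f' := by
  choose V N hpV hN hkill using hloc
  let P : T.left → T.left.Opens := fun p => T.hom ⁻¹ᵁ V p
  have hP : IsOpenCover P := eq_top_iff.mpr fun p _ => Opens.mem_iSup.mpr ⟨p, hpV p⟩
  refine Over.OverMorphism.ext ((T.left.openCoverOfIsOpenCover P hP).hom_ext _ _ fun (i : T.left) => ?_)
  let X : Over S := Over.mk ((P i).ι ≫ T.hom)
  let x : X ⟶ T := Over.homMk (P i).ι rfl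
  show (x ≫ f).left = (x ≫ f').left
  have hX : Set.range X.hom.base ⊆ (V i : Set S) := by
    rintro _ ⟨q, rfl⟩
    exact q.2
  obtain ⟨h1, h2⟩ := hkill i X x hX
  let k := pullback.fst x.left (pullback.fst T.hom π)
  haveI : Surjective (pullback.fst T.hom π) := MorphismProperty.pullback_fst _ _ ‹_›
  haveI : Surjective k := MorphismProperty.pullback_fst _ _ inferInstance
  have hk : k ≫ (x ≫ f).left = k ≫ (x ≫ f').left := by
    have h3 := congrArg CommaMorphism.left ((theta_id_comp (g := π) f).trans ((congrArg (theta π) hmod).trans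
      (theta_id_comp (g := π) f').symm))
    simp only [Over.comp_left, theta_left, Over.id_left, Category.id_comp] at h3
    simp only [Over.comp_left, k]
    rw [pullback.condition_assoc, pullback.condition_assoc, h3]
  let W := etaleOpen G (N i)
  have hW : Set.range (x ≫ f).left.base ⊆ Set.range W.ι.base := by
    rintro _ ⟨q, rfl⟩
    rw [Scheme.Opens.range_ι]
    exact mem_etaleOpen_of_range π u₀ hc₀ f hf ((P i).ι q) (hN i _ q.2)
  have hW' : Set.range (x ≫ f').left.base ⊆ Set.range W.ι.base := by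
    rintro _ ⟨q, rfl⟩
    obtain ⟨q, rfl⟩ := k.surjective q
    rw [← Scheme.Hom.comp_apply, ← hk, Scheme.Hom.comp_apply]
    exact hW ⟨_, rfl⟩
  rw [← IsOpenImmersion.lift_fac W.ι _ hW, ← IsOpenImmersion.lift_fac W.ι _ hW']
  congr 1
  refine eq_of_surjective_of_unramified (W.ι ≫ ((𝟙 G : G ⟶ G) ^ N i).left) k ?_ ?_
  · rw [IsOpenImmersion.lift_fac_assoc, IsOpenImmersion.lift_fac_assoc, ← Over.comp_left, ← Over.comp_left,
      MonObj.comp_pow, MonObj.comp_pow, Category.comp_id, Category.comp_id, h1, h2]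
  · rw [← cancel_mono W.ι, Category.assoc, Category.assoc, IsOpenImmersion.lift_fac, IsOpenImmersion.lift_fac, hk]

theorem range_one_subset_red (T : Over S) :
    Set.range (1 : T ⟶ G).left.base ⊆ Set.range (theta π u₀).left.base := by
  rintro _ ⟨q, rfl⟩
  haveI : Surjective (pullback.fst T.hom π) := MorphismProperty.pullback_fst _ _ ‹_›
  obtain ⟨z, rfl⟩ := (pullback.fst T.hom π).surjective q
  refine ⟨((Over.map π).map (1 : Red.bc π T ⟶ Red.bc π H)).left z, ?_⟩
  have h1 : (Over.map π).map (1 : Red.bc π T ⟶ Red.bc π H) ≫ theta π u₀ =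
      theta π (𝟙 (Red.bc π T)) ≫ (1 : T ⟶ G) := by
    rw [← theta_comp, MonObj.one_comp, theta_one', MonObj.comp_one]
  have h2 := congrArg CommaMorphism.left h1
  simp only [Over.comp_left, theta_left, Over.id_left, Category.id_comp] at h2
  rw [← Scheme.Hom.comp_apply, ← Scheme.Hom.comp_apply, theta_left, h2]
  rfl

theorem range_subset_red (u : H ⟶ G) (hu : (Over.pullback π).map u = u₀) :
    Set.range u.left.base ⊆ Set.range (theta π u₀).left.base := by
  rintro _ ⟨q, rfl⟩
  haveI : Surjective (pullback.fst H.hom π) := MorphismProperty.pullback_fst _ _ ‹_›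
  obtain ⟨z, rfl⟩ := (pullback.fst H.hom π).surjective q
  refine ⟨z, ?_⟩
  have h := congrArg CommaMorphism.left ((theta_id_comp (g := π) u).trans (congrArg (theta π) hu))
  simp only [Over.comp_left, theta_left, Over.id_left, Category.id_comp] at h
  rw [← Scheme.Hom.comp_apply, h, theta_left]
  rfl

include hc₀ in
/-- A central homomorphism on the closed subscheme extends to a morphism killed by the same integers. -/
theorem exists_lift_killed (hk : LocKilled H) :
    ∃ u : H ⟶ G, (Over.pullback π).map u = u₀ ∧ ∀ (V : S.Opens) (N : ℕ), (∀ t ∈ V, (N : S.residueField t) ≠ 0) →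
      (∀ (X : Over S) (x : X ⟶ H), Set.range X.hom.base ⊆ (V : Set S) → x ^ N = 1) →
      ∀ (X : Over S) (x : X ⟶ H), Set.range X.hom.base ⊆ (V : Set S) → (x ≫ u) ^ N = 1 := by
  let f₀ := theta π u₀
  let ρ := pullback.fst H.hom π
  haveI : Surjective ρ := MorphismProperty.pullback_fst _ _ ‹_›
  haveI : IsClosedImmersion ρ := MorphismProperty.pullback_fst _ _ ‹_›
  have hρw : ρ ≫ H.hom = ((Over.map π).obj (Red.bc π H)).hom := pullback.condition
  -- lifting on an open
  have key : ∀ (V : S.Opens) (N : ℕ), (∀ t ∈ V, (N : S.residueField t) ≠ 0) →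
      (∀ (X : Over S) (x : X ⟶ H), Set.range X.hom.base ⊆ (V : Set S) → x ^ N = 1) →
      ∃ a : Over.mk ((H.hom ⁻¹ᵁ V).ι ≫ H.hom) ⟶ G, a ^ N = 1 ∧
        pullback.fst (H.hom ⁻¹ᵁ V).ι ρ ≫ a.left = pullback.snd (H.hom ⁻¹ᵁ V).ι ρ ≫ f₀.left := by
    intro V N hN hV
    let P := H.hom ⁻¹ᵁ V
    let k := pullback.fst P.ι ρ
    haveI : Surjective k := MorphismProperty.pullback_fst _ _ inferInstance
    haveI : IsClosedImmersion k := MorphismProperty.pullback_fst _ _ inferInstance
    let W := etaleOpen G N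
    let Y : Over S := Over.mk (k ≫ P.ι ≫ H.hom)
    let m : Y ⟶ (Over.map π).obj (Red.bc π H) := Over.homMk (pullback.snd P.ι ρ) (by
      rw [← hρw, ← pullback.condition_assoc]; rfl)
    have hY : Set.range Y.hom.base ⊆ (V : Set S) := by
      rintro _ ⟨q, rfl⟩
      exact (k q).2
    have hW : Set.range (m ≫ f₀).left.base ⊆ Set.range W.ι.base := by
      rintro _ ⟨q, rfl⟩
      rw [Scheme.Opens.range_ι]
      refine mem_etaleOpen_of_range π u₀ hc₀ (m ≫ f₀) ?_ q (hN _ (hY ⟨q, rfl⟩))
      rintro _ ⟨q', rfl⟩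
      exact ⟨_, (Scheme.Hom.comp_apply _ _ q').symm⟩
    let P' : Over S := Over.mk (P.ι ≫ H.hom)
    let kk : Y ⟶ P' := Over.homMk k rfl
    obtain ⟨l, ⟨hl1, hl2⟩, -⟩ := exists_lift_of_etale (W.ι ≫ ((𝟙 G : G ⟶ G) ^ N).left) k
      (1 : P' ⟶ G).left (IsOpenImmersion.lift W.ι _ hW) (by
        rw [IsOpenImmersion.lift_fac_assoc, ← Over.comp_left, MonObj.comp_pow, Category.comp_id,
          pow_red π u₀ hV Y m hY, ← MonObj.comp_one kk]
        rfl)
    let a : P' ⟶ G := Over.homMk (l ≫ W.ι) (by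
      have h := congrArg (fun q => q ≫ G.hom) hl1
      simp only [Category.assoc, Over.w] at h
      rw [Category.assoc]
      exact h)
    refine ⟨a, ?_, ?_⟩
    · have e : a ^ N = a ≫ ((𝟙 G : G ⟶ G) ^ N) := by rw [MonObj.comp_pow, Category.comp_id]
      rw [e]
      exact Over.OverMorphism.ext ((Category.assoc _ _ _).trans hl1)
    · show k ≫ l ≫ W.ι = _
      rw [← Category.assoc, hl2, IsOpenImmersion.lift_fac]
      rfl
  choose V N hsV hN hV using hk
  let P : S → H.left.Opens := fun p => H.hom ⁻¹ᵁ V p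
  have hP : IsOpenCover P := eq_top_iff.mpr fun p _ => Opens.mem_iSup.mpr ⟨H.hom p, hsV _⟩
  choose a ha1 ha2 using fun p : S => key (V p) (N p) (hN _) (hV _)
  let 𝒰 := H.left.openCoverOfIsOpenCover P hP
  have hov : ∀ i j : S, pullback.fst (P i).ι (P j).ι ≫ (a i).left = pullback.snd (P i).ι (P j).ι ≫ (a j).left := by
    intro i j
    let T : Over S := Over.mk (pullback.fst (P i).ι (P j).ι ≫ (P i).ι ≫ H.hom)
    let ti : T ⟶ Over.mk ((P i).ι ≫ H.hom) := Over.homMk (pullback.fst (P i).ι (P j).ι) rfl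
    let tj : T ⟶ Over.mk ((P j).ι ≫ H.hom) := Over.homMk (pullback.snd (P i).ι (P j).ι) (by
      simp only [Over.mk_hom, T]; rw [pullback.condition_assoc])
    have hrange : ∀ (k : S) (t : T ⟶ Over.mk ((P k).ι ≫ H.hom)),
        Set.range (t ≫ a k).left.base ⊆ Set.range f₀.left.base := by
      rintro k t _ ⟨q, rfl⟩
      haveI : Surjective (pullback.fst (P k).ι ρ) := MorphismProperty.pullback_fst _ _ inferInstance
      obtain ⟨z, hz⟩ := (pullback.fst (P k).ι ρ).surjective (t.left q)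
      refine ⟨pullback.snd (P k).ι ρ z, ?_⟩
      show (pullback.snd (P k).ι ρ ≫ f₀.left) z = _
      rw [← ha2, Scheme.Hom.comp_apply, hz]
      exact (Scheme.Hom.comp_apply _ _ q).symm
    refine congrArg CommaMorphism.left (eq_of_mod π u₀ hc₀ (ti ≫ a i) (tj ≫ a j) ?_ (hrange i ti) fun q =>
      ⟨V i ⊓ V j, N i * N j, ⟨(ti.left q).2, ?_⟩, fun t ht => ?_, fun X x hX => ?_⟩)
    · refine (theta_bijective (g := π) (H := G)).1 ?_
      rw [← theta_id_comp, ← theta_id_comp]
      refine Over.OverMorphism.ext ?_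
      simp only [Over.comp_left, theta_left, Over.id_left, Category.id_comp, ti, tj, Over.homMk_left]
      let e := pullback.fst T.hom π
      have hi : ∃ z, z ≫ pullback.fst (P i).ι ρ = e ≫ pullback.fst (P i).ι (P j).ι ∧
          z ≫ pullback.snd (P i).ι ρ ≫ ρ = e ≫ pullback.fst (P i).ι (P j).ι ≫ (P i).ι ∧
          z ≫ pullback.snd (P i).ι ρ ≫ pullback.snd H.hom π = pullback.snd T.hom π :=
        ⟨pullback.lift (e ≫ pullback.fst _ _) (pullback.lift (e ≫ pullback.fst _ _ ≫ (P i).ι) (pullback.snd T.hom π)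
          (by simp only [Category.assoc]; exact pullback.condition)) (by simp [ρ]),
          pullback.lift_fst _ _ _, by simp [ρ], by simp⟩
      have hj : ∃ z, z ≫ pullback.fst (P j).ι ρ = e ≫ pullback.snd (P i).ι (P j).ι ∧
          z ≫ pullback.snd (P j).ι ρ ≫ ρ = e ≫ pullback.fst (P i).ι (P j).ι ≫ (P i).ι ∧
          z ≫ pullback.snd (P j).ι ρ ≫ pullback.snd H.hom π = pullback.snd T.hom π :=
        ⟨pullback.lift (e ≫ pullback.snd _ _) (pullback.lift (e ≫ pullback.fst _ _ ≫ (P i).ι) (pullback.snd T.hom π)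
          (by simp only [Category.assoc]; exact pullback.condition)) (by simp [ρ, pullback.condition]),
          pullback.lift_fst _ _ _, by simp [ρ], by simp⟩
      obtain ⟨zi, zi1, zi2, zi3⟩ := hi
      obtain ⟨zj, zj1, zj2, zj3⟩ := hj
      have hz : zi ≫ pullback.snd (P i).ι ρ = zj ≫ pullback.snd (P j).ι ρ := by
        apply pullback.hom_ext
        · rw [Category.assoc, Category.assoc, zi2, zj2]
        · rw [Category.assoc, Category.assoc, zi3, zj3]
      rw [← Category.assoc, ← Category.assoc, ← zi1, ← zj1, Category.assoc, Category.assoc, ha2, ha2,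
        reassoc_of% hz]
    · show H.hom ((pullback.fst (P i).ι (P j).ι ≫ (P i).ι) q) ∈ V j
      rw [pullback.condition]
      exact (tj.left q).2
    · rw [Nat.cast_mul]; exact mul_ne_zero (hN _ t ht.1) (hN _ t ht.2)
    · refine ⟨?_, ?_⟩
      · rw [← Category.assoc, pow_mul, ← MonObj.comp_pow, ha1, MonObj.comp_one, _root_.one_pow]
      · rw [← Category.assoc, mul_comm, pow_mul, ← MonObj.comp_pow, ha1, MonObj.comp_one, _root_.one_pow]
  let g : H.left ⟶ G.left := Scheme.Cover.glueMorphisms 𝒰 (fun i => (a i).left) hov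
  have hg : ∀ i, (P i).ι ≫ g = (a i).left := fun i => Scheme.Cover.ι_glueMorphisms 𝒰 (fun i => (a i).left) hov i
  let u : H ⟶ G := Over.homMk g (Scheme.Cover.hom_ext 𝒰 _ _ fun (i : S) => by
    show (P i).ι ≫ g ≫ G.hom = (P i).ι ≫ H.hom
    rw [← Category.assoc, hg]
    exact Over.w (a i))
  have hρg : ρ ≫ g = f₀.left := by
    let 𝒱 := 𝒰.pullback₁ ρ
    refine Scheme.Cover.hom_ext 𝒱 _ _ fun (i : S) => ?_
    show pullback.fst ρ (P i).ι ≫ ρ ≫ g = pullback.fst ρ (P i).ι ≫ f₀.left
    rw [← Category.assoc, pullback.condition, Category.assoc, hg, ← pullbackSymmetry_hom_comp_fst ρ (P i).ι,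
      Category.assoc, ha2, ← Category.assoc, pullbackSymmetry_hom_comp_snd]
  have hkillu : ∀ (s : S) (Y : Over S) (y : Y ⟶ H), Set.range Y.hom.base ⊆ (V s : Set S) → (y ≫ u) ^ N s = 1 := by
    intro s Y y hY
    have hr : Set.range y.left.base ⊆ Set.range (P s).ι.base := by
      rintro _ ⟨p, rfl⟩
      rw [Scheme.Opens.range_ι]
      show H.hom (y.left p) ∈ V s
      rw [← Scheme.Hom.comp_apply, Over.w y]
      exact hY ⟨p, rfl⟩
    let y' : Y ⟶ Over.mk ((P s).ι ≫ H.hom) := Over.homMk (IsOpenImmersion.lift (P s).ι y.left hr) (by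
      show IsOpenImmersion.lift (P s).ι y.left hr ≫ (P s).ι ≫ H.hom = Y.hom
      rw [IsOpenImmersion.lift_fac_assoc, Over.w y])
    have he : y ≫ u = y' ≫ a s := by
      refine Over.OverMorphism.ext ?_
      show y.left ≫ g = IsOpenImmersion.lift (P s).ι y.left hr ≫ (a s).left
      rw [← hg, IsOpenImmersion.lift_fac_assoc]
    rw [he, ← MonObj.comp_pow, ha1, MonObj.comp_one]
  refine ⟨u, (theta_bijective (g := π) (H := G)).1 ?_, fun V' N' hN' hV' X x hX => ?_⟩
  · rw [← theta_id_comp]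
    refine Over.OverMorphism.ext ?_
    simp only [Over.comp_left, theta_left, Over.id_left, Category.id_comp]
    exact hρg
  · have hu₀ : (Over.pullback π).map u = u₀ := (theta_bijective (g := π) (H := G)).1 (by
      rw [← theta_id_comp]
      refine Over.OverMorphism.ext ?_
      simp only [Over.comp_left, theta_left, Over.id_left, Category.id_comp]
      exact hρg)
    refine (eq_of_mod π u₀ hc₀ 1 ((x ≫ u) ^ N') ?_ (range_one_subset_red π u₀ X) fun q => ?_).symm
    · refine (theta_bijective (g := π) (H := G)).1 ?_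
      rw [← theta_id_comp, ← theta_id_comp, MonObj.comp_one, MonObj.comp_pow, ← Category.assoc, theta_id_comp]
      obtain hx1 := hV' _ ((theta π (𝟙 (Red.bc π X))) ≫ x) (by
        rintro _ ⟨p, rfl⟩
        refine hX ⟨(theta π (𝟙 (Red.bc π X))).left p, ?_⟩
        rw [← Scheme.Hom.comp_apply, Over.w])
      rw [theta_id_comp] at hx1
      have h4 : ((Over.pullback π).map x) ^ N' = (1 : Red.bc π X ⟶ Red.bc π H) :=
        (theta_bijective (g := π) (H := H)).1 (by rw [theta_pow', hx1, theta_one'])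
      have h5 : theta π ((Over.pullback π).map x) ≫ u = theta π ((Over.pullback π).map x ≫ u₀) := by
        rw [← hu₀]
        exact ((Over.mapPullbackAdj π).homEquiv_naturality_right_symm _ _).symm
      rw [h5, ← theta_pow', ← MonObj.pow_comp, h4, MonObj.one_comp, theta_one']
    · refine ⟨V' ⊓ V (X.hom q), N' * N (X.hom q), ⟨hX ⟨q, rfl⟩, hsV _⟩, fun t ht => ?_, fun Y y hY => ⟨?_, ?_⟩⟩
      · rw [Nat.cast_mul]; exact mul_ne_zero (hN' t ht.1) (hN _ t ht.2)
      · rw [MonObj.comp_one, _root_.one_pow]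
      ·         rw [MonObj.comp_pow, ← Category.assoc, ← pow_mul, ← _root_.mul_assoc, mul_comm, pow_mul,
          hkillu (X.hom q) Y (y ≫ x) (by rintro _ ⟨p, rfl⟩; exact (hY ⟨p, rfl⟩).2), _root_.one_pow]

include hc₀ in
/-- A central homomorphism on the closed subscheme extends uniquely to a homomorphism, which is central. -/
theorem exists_central_lift (hk : LocKilled H) :
    ∃ u : H ⟶ G, IsMonHom u ∧ (Over.pullback π).map u = u₀ ∧
      (∀ (X : Over S) (x : X ⟶ H) (g : X ⟶ G), (x ≫ u) * g = g * (x ≫ u)) ∧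
      ∀ u' : H ⟶ G, IsMonHom u' → (Over.pullback π).map u' = u₀ → u' = u := by
  obtain ⟨u, hu, hkill⟩ := exists_lift_killed π u₀ hc₀ hk
  have hrange : ∀ {T : Over S} (x : T ⟶ H),
      Set.range (x ≫ u).left.base ⊆ Set.range (theta π u₀).left.base := by
    rintro T x _ ⟨q, rfl⟩
    exact range_subset_red π u₀ u hu ⟨x.left q, (Scheme.Hom.comp_apply _ _ q).symm⟩
  have hmap : ∀ {T : Over S} (x : T ⟶ H),
      (Over.pullback π).map (x ≫ u) = (Over.pullback π).map x ≫ u₀ := fun x => by
    rw [Functor.map_comp, hu]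
  have hcent : ∀ (X : Over S) (x : X ⟶ H) (g : X ⟶ G), (x ≫ u) * g = g * (x ≫ u) := by
    let a : H ⊗ G ⟶ G := fst H G ≫ u
    let c : H ⊗ G ⟶ G := snd H G
    have huniv : a = c * a * c⁻¹ := by
      refine eq_of_mod π u₀ hc₀ a (c * a * c⁻¹) ?_ (hrange _) fun q => ?_
      · symm
        refine mul_right_cancel (b := (Over.pullback π).map c) ?_
        rw [← Functor.map_mul, inv_mul_cancel_right, Functor.map_mul]
        show _ = (Over.pullback π).map (fst H G ≫ u) * _
        rw [hmap]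
        exact ((hc₀ _ _ _).trans (by rw [← hmap])).symm
      · obtain ⟨V, N, hsV, hN, hV⟩ := hk ((H ⊗ G).hom q)
        refine ⟨V, N, hsV, hN, fun X y hX => ?_⟩
        have h1 : (y ≫ a) ^ N = 1 := by
          rw [show y ≫ a = (y ≫ fst H G) ≫ u from (Category.assoc _ _ _).symm]
          exact hkill V N hN hV X _ hX
        refine ⟨h1, ?_⟩
        rw [MonObj.comp_mul, MonObj.comp_mul, GrpObj.comp_inv, conj_pow, h1, _root_.mul_one, mul_inv_cancel]
    intro X x g
    have h := congrArg (fun q => lift x g ≫ q) huniv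
    simp only [a, c, MonObj.comp_mul, GrpObj.comp_inv, lift_fst_assoc, lift_snd] at h
    rw [eq_mul_inv_iff_mul_eq] at h
    exact h
  have hmul : ∀ (X : Over S) (x y : X ⟶ H), (x * y) ≫ u = (x ≫ u) * (y ≫ u) := by
    let a : H ⊗ H ⟶ G := fst H H ≫ u
    let b : H ⊗ H ⟶ G := snd H H ≫ u
    have huniv : (fst H H * snd H H) ≫ u = a * b := by
      refine eq_of_mod π u₀ hc₀ ((fst H H * snd H H) ≫ u) (a * b) ?_ (hrange _) fun q => ?_
      · rw [hmap, Functor.map_mul, Functor.map_mul, hmap, hmap, MonObj.mul_comp]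
      · obtain ⟨V, N, hsV, hN, hV⟩ := hk ((H ⊗ H).hom q)
        refine ⟨V, N, hsV, hN, fun X y hX => ⟨?_, ?_⟩⟩
        · rw [← Category.assoc]
          exact hkill V N hN hV X _ hX
        · have hc : Commute (y ≫ a) (y ≫ b) := by
            rw [show y ≫ a = (y ≫ fst H H) ≫ u from (Category.assoc _ _ _).symm]
            exact hcent X _ _
          rw [MonObj.comp_mul, hc.mul_pow,
            show y ≫ a = (y ≫ fst H H) ≫ u from (Category.assoc _ _ _).symm,
            show y ≫ b = (y ≫ snd H H) ≫ u from (Category.assoc _ _ _).symm,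
            hkill V N hN hV X _ hX, hkill V N hN hV X _ hX, _root_.one_mul]
    intro X x y
    have h := congrArg (fun q => lift x y ≫ q) huniv
    simpa only [a, b, MonObj.comp_mul, ← Category.assoc, lift_fst, lift_snd] using h
  have hu' : IsMonHom u := by
    refine ⟨?_, ?_⟩
    · have h := hmul (𝟙_ (Over S)) 1 1
      rw [_root_.one_mul] at h
      have h' := mul_eq_left.mp h.symm
      simpa [Hom.one_def, toUnit_unique (toUnit (𝟙_ (Over S))) (𝟙 _)] using h'
    · have h := hmul (H ⊗ H) (fst H H) (snd H H)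
      simpa [Hom.mul_def, lift_fst_comp_snd_comp] using h
  refine ⟨u, hu', hu, hcent, fun u' hu'' h' => ?_⟩
  haveI := hu''
  refine (eq_of_mod π u₀ hc₀ u u' (hu.trans h'.symm) (range_subset_red π u₀ u hu) fun q => ?_).symm
  obtain ⟨V, N, hsV, hN, hV⟩ := hk (H.hom q)
  exact ⟨V, N, hsV, hN, fun X x hX => ⟨hkill V N hN hV X x hX, by
    rw [← MonObj.pow_comp, hV X x hX, MonObj.one_comp]⟩⟩

end Lift

end Groth.Agent.Sga3xB
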