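import Groth.Agent.GrpSchLib.FibreIrr
import Groth.Agent.GrpSchLib.Shear
import Groth.Agent.SGAQuot20.AbelianCat

/-!
# Products from an open neighbourhood of the unit section cover a group with connected fibres
-/

universe u

set_option autoImplicit false
set_option linter.style.haveILetI false

open CategoryTheory Limits AlgebraicGeometry MonoidalCategory CartesianMonoidalCategory MonObj GrpObj

namespace Groth.Agent.Sga3xB.OpenMul

variable {S : Scheme.{u}} {G : Over S} [GrpObj G]

/-- An open subscheme as a scheme over the base. -/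
noncomputable abbrev opO (U : G.left.Opens) : Over S := Over.mk (U.ι ≫ G.hom)

/-- Its inclusion. -/
noncomputable abbrev opι (U : G.left.Opens) : opO U ⟶ G := Over.homMk U.ι rfl

theorem surjective_mul (U : G.left.Opens) [LocallyOfFiniteType G.hom]
    (hconn : ∀ s : S, _root_.IsConnected (G.hom.base ⁻¹' {s})) (hU : ∀ s : S, η[G].left s ∈ U) :
    Surjective ((opι U ⊗ₘ opι U) ≫ μ[G]).left := by
  constructor
  intro y
  let s := G.hom y
  let L := G.left.residueField y
  let T : Over S := Over.mk (G.left.fromSpecResidueField y ≫ G.hom)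
  let y' : T ⟶ G := Over.homMk (G.left.fromSpecResidueField y) rfl
  let pr : G ⊗ T ⟶ G := fst G T
  let θ : G ⊗ T ⟶ G ⊗ T := lift ((fst G T)⁻¹ * (snd G T ≫ y')) (snd G T)
  let θ' : G ⊗ T ⟶ G ⊗ T := lift ((snd G T ≫ y') * (fst G T)⁻¹) (snd G T)
  have hθ : θ' ≫ θ = 𝟙 _ := by
    apply CartesianMonoidalCategory.hom_ext
    · simp only [θ, θ', Category.assoc, lift_fst, MonObj.comp_mul, GrpObj.comp_inv, lift_snd_assoc, Category.id_comp]
      group
    · simp [θ, θ']
  haveI : Subsingleton ↥T.left := inferInstanceAs (Subsingleton (PrimeSpectrum L))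
  haveI : IrreducibleSpace ↥(G ⊗ T).left := by
    obtain ⟨hgi, -⟩ := GrpSchLib.FibreIrr.geometricallyIrreducible_fib G s (hconn s)
    haveI := hgi
    let r : Spec (CommRingCat.of L) ⟶ Spec (CommRingCat.of (S.residueField s)) :=
      Spec.map (G.hom.residueFieldMap y)
    have hr : r ≫ S.fromSpecResidueField s = T.hom := Scheme.Hom.SpecMap_residueFieldMap_fromSpecResidueField G.hom y
    haveI : Subsingleton ↥(Spec (CommRingCat.of L)) := inferInstanceAs (Subsingleton (PrimeSpectrum L))
    haveI : Nonempty ↥(Spec (CommRingCat.of L)) := ⟨IsLocalRing.closedPoint L⟩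
    haveI : IrreducibleSpace ↥(pullback (GrpSchLib.FibreIrr.fib G s).hom r) :=
      GeometricallyIrreducible.irreducibleSpace_of_subsingleton (pullback.snd (GrpSchLib.FibreIrr.fib G s).hom r)
    let i : pullback (GrpSchLib.FibreIrr.fib G s).hom r ≅ (G ⊗ T).left :=
      pullbackLeftPullbackSndIso G.hom (S.fromSpecResidueField s) r ≪≫ pullback.congrHom rfl hr
    haveI : Surjective i.hom := inferInstance
    exact i.hom.surjective.irreducibleSpace i.hom.continuous
  have ho : IsOpen (U : Set G.left) := U.2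
  have hne : (pr.left ⁻¹' (U : Set G.left)).Nonempty := by
    have h : η[G].left s ∈ Set.range (pullback.fst G.hom T.hom) := by
      rw [Scheme.Pullback.range_fst]
      show G.hom (η[G].left s) ∈ Set.range T.hom.base
      have hη : η[G].left ≫ G.hom = 𝟙 _ := Over.w η[G]
      rw [← Scheme.Hom.comp_apply, hη]
      exact ⟨IsLocalRing.closedPoint L, congrArg (fun t => G.hom t)
        (G.left.fromSpecResidueField_apply y (IsLocalRing.closedPoint L))⟩
    obtain ⟨p, hp⟩ := h
    exact ⟨p, show pr.left p ∈ (U : Set G.left) from hp ▸ hU s⟩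
  have hne' : ((θ ≫ pr).left ⁻¹' (U : Set G.left)).Nonempty := by
    obtain ⟨p, hp⟩ := hne
    refine ⟨θ'.left p, ?_⟩
    show (θ ≫ pr).left (θ'.left p) ∈ (U : Set G.left)
    rw [← Scheme.Hom.comp_apply, ← Over.comp_left, reassoc_of% hθ]
    exact hp
  obtain ⟨p, hp1, hp2⟩ := nonempty_preirreducible_inter (ho.preimage pr.left.continuous)
    (ho.preimage (θ ≫ pr).left.continuous) hne hne'
  let m : G ⊗ T ⟶ G ⊗ G := lift pr (θ ≫ pr)
  have hm : m ≫ μ[G] = snd G T ≫ y' := by
    show lift pr (θ ≫ pr) ≫ μ[G] = _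
    rw [← Hom.mul_def]
    simp only [θ, pr, lift_fst, mul_inv_cancel_left]
  have hmem : m.left p ∈ Set.range (opι U ⊗ₘ opι U).left.base := by
    have e : (opι U ⊗ₘ opι U).left = pullback.map (opO U).hom (opO U).hom G.hom G.hom U.ι U.ι (𝟙 _)
        (by simp) (by simp) := by
      apply pullback.hom_ext
      · rw [pullback.lift_fst]
        exact congrArg (fun r : _ ⟶ G => r.left) (tensorHom_fst (opι U) (opι U))
      · rw [pullback.lift_snd]
        exact congrArg (fun r : _ ⟶ G => r.left) (tensorHom_snd (opι U) (opι U))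
    rw [e, Scheme.Pullback.range_map]
    constructor
    · rw [Set.mem_preimage, ← Scheme.Hom.comp_apply, show m.left ≫ pullback.fst G.hom G.hom = pr.left from congrArg (fun r : _ ⟶ G => r.left) (lift_fst pr (θ ≫ pr))]
      rw [Scheme.Opens.range_ι]
      exact hp1
    · rw [Set.mem_preimage, ← Scheme.Hom.comp_apply, show m.left ≫ pullback.snd G.hom G.hom = (θ ≫ pr).left from congrArg (fun r : _ ⟶ G => r.left) (lift_snd pr (θ ≫ pr))]
      rw [Scheme.Opens.range_ι]
      exact hp2
  obtain ⟨z, hz⟩ := hmem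
  refine ⟨z, ?_⟩
  rw [Over.comp_left, Scheme.Hom.comp_apply, hz, ← Scheme.Hom.comp_apply, ← Over.comp_left, hm, Over.comp_left,
    Scheme.Hom.comp_apply]
  exact (congrArg (G.left.fromSpecResidueField y) (Subsingleton.elim _ (IsLocalRing.closedPoint L))).trans
    (G.left.fromSpecResidueField_apply y (IsLocalRing.closedPoint L))

/-- Two elements commute with all points once they commute with the points of such an open. -/
theorem commute_of_open (U : G.left.Opens) [Flat G.hom] [LocallyOfFinitePresentation G.hom]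
    (hconn : ∀ s : S, _root_.IsConnected (G.hom.base ⁻¹' {s})) (hU : ∀ s : S, η[G].left s ∈ U)
    {M : Over S} (v : M ⟶ G)
    (h : ∀ (X : Over S) (x : X ⟶ M) (g : X ⟶ G), Set.range g.left.base ⊆ (U : Set G.left) →
      (x ≫ v) * g = g * (x ≫ v))
    (X : Over S) (x : X ⟶ M) (g : X ⟶ G) : (x ≫ v) * g = g * (x ≫ v) := by
  let m : opO U ⊗ opO U ⟶ G := (opι U ⊗ₘ opι U) ≫ μ[G]
  haveI : IsOpenImmersion (opι U).left := inferInstanceAs (IsOpenImmersion U.ι)
  haveI : Flat (opO U).hom := inferInstanceAs (Flat (U.ι ≫ G.hom))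
  haveI : Surjective m.left := surjective_mul U hconn hU
  have hmeq : m = (opι U ▷ opO U) ≫ (G ◁ opι U) ≫ (𝟙 G ▷ G ≫ μ[G]) := by
    simp [m, MonoidalCategory.tensorHom_def]
  haveI : Flat (𝟙 G ▷ G ≫ μ[G]).left := GrpSchLib.flat_whiskerRight_mul (𝟙 G)
  haveI : LocallyOfFinitePresentation (𝟙 G ▷ G ≫ μ[G]).left := by
    rw [← GrpSchLib.shearIso_hom_snd, Over.comp_left]
    haveI : LocallyOfFinitePresentation (snd G G).left :=
      inferInstanceAs (LocallyOfFinitePresentation (pullback.snd G.hom G.hom))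
    infer_instance
  haveI : IsOpenImmersion (opι U ▷ opO U).left := by
    rw [Over.whiskerRight_left]
    infer_instance
  haveI : IsOpenImmersion (G ◁ opι U).left := by
    rw [Over.whiskerLeft_left]
    infer_instance
  haveI : Flat m.left := by rw [hmeq, Over.comp_left, Over.comp_left]; infer_instance
  haveI : LocallyOfFinitePresentation m.left := by rw [hmeq, Over.comp_left, Over.comp_left]; infer_instance
  let X' : Over S := Over.mk (pullback.fst g.left m.left ≫ X.hom)
  let e : X' ⟶ X := Over.homMk (pullback.fst g.left m.left) rfl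
  let q : X' ⟶ opO U ⊗ opO U := Over.homMk (pullback.snd g.left m.left) (by
    show _ = pullback.fst g.left m.left ≫ X.hom
    rw [← Over.w g, ← Over.w m, pullback.condition_assoc])
  haveI : Surjective e.left := inferInstanceAs (Surjective (pullback.fst g.left m.left))
  haveI : Flat e.left := inferInstanceAs (Flat (pullback.fst g.left m.left))
  haveI : LocallyOfFinitePresentation e.left :=
    inferInstanceAs (LocallyOfFinitePresentation (pullback.fst g.left m.left))
  haveI : Epi e.left := (SGAQuot20.covers_of_fppf e.left).epi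
  haveI : Epi e := Over.epi_of_epi_left _
  have heg : e ≫ g = (q ≫ fst _ _ ≫ opι U) * (q ≫ snd _ _ ≫ opι U) := by
    have : e ≫ g = q ≫ m := Over.OverMorphism.ext pullback.condition
    rw [this, ← MonObj.comp_mul, Hom.mul_def, ← tensorHom_fst (opι U) (opι U), ← tensorHom_snd (opι U) (opι U),
      lift_comp_fst_snd]
  have hr : ∀ a : X' ⟶ opO U, Set.range (a ≫ opι U).left.base ⊆ (U : Set G.left) := by
    rintro a _ ⟨p, rfl⟩
    exact (a.left p).2
  have h1 : Commute ((e ≫ x) ≫ v) (q ≫ fst _ _ ≫ opι U) := h X' (e ≫ x) _ (by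
    rw [← Category.assoc]; exact hr _)
  have h2 : Commute ((e ≫ x) ≫ v) (q ≫ snd _ _ ≫ opι U) := h X' (e ≫ x) _ (by
    rw [← Category.assoc]; exact hr _)
  rw [← cancel_epi e, MonObj.comp_mul, MonObj.comp_mul, heg, ← Category.assoc e x v]
  exact h1.mul_right h2

end Groth.Agent.Sga3xB.OpenMul
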