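import Groth.Agent.Sga3xB.HenselSection
import Groth.Agent.Sga3xB.OpenMul
import Groth.Agent.Sga3xB.CentralLift

/-!
# Central homomorphisms from finite groups killed by invertible integers lift over henselian local rings

The lifts are sections of the étale kernel of a power map over a finite scheme.
-/

universe u

set_option autoImplicit false
set_option linter.style.haveILetI false
set_option backward.isDefEq.respectTransparency false
set_option maxHeartbeats 800000
set_option synthInstance.maxHeartbeats 400000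

open CategoryTheory CategoryTheory.Limits AlgebraicGeometry MonoidalCategory CartesianMonoidalCategory MonObj
open TopologicalSpace IsLocalRing

noncomputable section

namespace Groth.Agent.Sga3xB.CompleteLift

open Groth.Agent.DSPtsLib HenselSection

variable {R : Type u} [CommRing R] [HenselianLocalRing R]
  {M G : Over (Spec (CommRingCat.of R))} [GrpObj M] [GrpObj G]

/-- A point of the reduction over the base comes from a point over the closed subscheme. -/
theorem exists_red_pt {S S₀ : Scheme.{u}} (p : S₀ ⟶ S) {X : Over S} {Z : Over S₀} (m : X ⟶ (Over.map p).obj Z) :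
    ∃ (X₀ : Over S₀) (a : X₀ ⟶ Z) (e : (Over.map p).obj X₀ ⟶ X) (e' : X ⟶ (Over.map p).obj X₀),
      e' ≫ e = 𝟙 _ ∧ e ≫ m = (Over.map p).map a := by
  have hw : X.hom = (m.left ≫ Z.hom) ≫ p := by rw [Category.assoc]; exact (Over.w m).symm
  exact ⟨Over.mk (m.left ≫ Z.hom), Over.homMk m.left rfl, Over.homMk (𝟙 _) (by simpa using hw),
    Over.homMk (𝟙 _) (by simpa using hw.symm), Over.OverMorphism.ext (Category.id_comp _),
    Over.OverMorphism.ext (Category.id_comp _)⟩

variable (u₀ : Red.bc (π R) M ⟶ Red.bc (π R) G) [IsMonHom u₀]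
  (hc₀ : ∀ (X : Over (Spec (CommRingCat.of (R ⧸ maximalIdeal R)))) (x : X ⟶ Red.bc (π R) M)
    (g : X ⟶ Red.bc (π R) G), (x ≫ u₀) * g = g * (x ≫ u₀))

include hc₀ in
omit [IsMonHom u₀] [GrpObj M] in
theorem commute_closed (X : Over (Spec (CommRingCat.of R))) (m : X ⟶ (Over.map (π R)).obj (Red.bc (π R) M))
    (x : X ⟶ G) : (m ≫ theta (π R) u₀) * x = x * (m ≫ theta (π R) u₀) := by
  obtain ⟨X₀, a, e, e', hee, hem⟩ := exists_red_pt (π R) m
  obtain ⟨x₀, hx₀⟩ := (theta_bijective (g := π R) (H := G)).2 (e ≫ x)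
  have h := congrArg (theta (π R)) (hc₀ X₀ a x₀)
  rw [theta_mul, theta_mul, theta_comp, hx₀, ← hem, Category.assoc, ← MonObj.comp_mul, ← MonObj.comp_mul] at h
  have h' := congrArg (fun q => e' ≫ q) h
  simpa only [← Category.assoc, hee, Category.id_comp] using h'

variable [Flat G.hom] [LocallyOfFinitePresentation G.hom]

omit [GrpObj M] [Flat G.hom] [LocallyOfFinitePresentation G.hom] in
/-- Two morphisms killed by `N` agreeing on the closed fibre, and landing there in the étale locus of the power,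
agree on a neighbourhood of the closed fibre. -/
theorem exists_open_agree (N : ℕ) {T : Over (Spec (CommRingCat.of R))} (a a' : T ⟶ G) (h : a ^ N = 1)
    (h' : a' ^ N = 1) (hmod : (Over.pullback (π R)).map a = (Over.pullback (π R)).map a')
    (hW : ∀ z, T.hom z = closedPoint R → a.left z ∈ etaleOpen G N) :
    ∃ Ω : T.left.Opens, (∀ z, T.hom z = closedPoint R → z ∈ Ω) ∧ Ω.ι ≫ a.left = Ω.ι ≫ a'.left := by
  let ρ := pullback.fst T.hom (π R)
  have hρ : ρ ≫ a.left = ρ ≫ a'.left := by
    have h3 := congrArg CommaMorphism.left ((theta_id_comp (g := π R) a).trans ((congrArg (theta (π R)) hmod).trans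
      (theta_id_comp (g := π R) a').symm))
    simp only [Over.comp_left, theta_left, Over.id_left, Category.id_comp] at h3
    exact h3
  have hrange : ∀ z, T.hom z = closedPoint R → z ∈ Set.range ρ.base := fun z hz => by
    rw [Scheme.Pullback.range_fst, range_π]
    exact hz
  let W := etaleOpen G N
  let f : (W : Scheme.{u}) ⟶ G.left := W.ι ≫ ((𝟙 G : G ⟶ G) ^ N).left
  let P : T.left.Opens := a.left ⁻¹ᵁ W ⊓ a'.left ⁻¹ᵁ W
  have hP : ∀ z, T.hom z = closedPoint R → z ∈ P := fun z hz => by
    refine ⟨hW z hz, ?_⟩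
    obtain ⟨p, rfl⟩ := hrange z hz
    show a'.left (ρ p) ∈ W
    rw [← Scheme.Hom.comp_apply, ← hρ, Scheme.Hom.comp_apply]
    exact hW _ hz
  have hr : Set.range (P.ι ≫ a.left).base ⊆ Set.range W.ι.base := by
    rintro _ ⟨q, rfl⟩; rw [Scheme.Opens.range_ι]; exact q.2.1
  have hr' : Set.range (P.ι ≫ a'.left).base ⊆ Set.range W.ι.base := by
    rintro _ ⟨q, rfl⟩; rw [Scheme.Opens.range_ι]; exact q.2.2
  let la := IsOpenImmersion.lift W.ι _ hr
  let la' := IsOpenImmersion.lift W.ι _ hr'
  have hla : la ≫ f = la' ≫ f := by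
    simp only [la, la', f, IsOpenImmersion.lift_fac_assoc, Category.assoc]
    rw [← Over.comp_left, ← Over.comp_left, MonObj.comp_pow, MonObj.comp_pow, Category.comp_id, Category.comp_id,
      h, h']
  let τ : (P : Scheme.{u}) ⟶ pullback f f := pullback.lift la la' hla
  let Δ := pullback.diagonal f
  let Ω' : (P : Scheme.{u}).Opens := τ ⁻¹ᵁ Δ.opensRange
  refine ⟨P.ι ''ᵁ Ω', fun z hz => ?_, ?_⟩
  · refine ⟨⟨z, hP z hz⟩, ?_, rfl⟩
    let k := pullback.fst P.ι ρ
    obtain ⟨y, hy⟩ : (⟨z, hP z hz⟩ : (P : Scheme.{u})) ∈ Set.range k.base := by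
      rw [Scheme.Pullback.range_fst]
      exact hrange z hz
    have hk : k ≫ la = k ≫ la' := by
      rw [← cancel_mono W.ι, Category.assoc, Category.assoc, IsOpenImmersion.lift_fac, IsOpenImmersion.lift_fac,
        pullback.condition_assoc, pullback.condition_assoc, hρ]
    have hkτ : k ≫ τ = (k ≫ la) ≫ Δ := by
      apply pullback.hom_ext
      · simp only [τ, Δ, Category.assoc, pullback.lift_fst, pullback.diagonal_fst, Category.comp_id]
      · simp only [τ, Δ, Category.assoc, pullback.lift_snd, pullback.diagonal_snd, Category.comp_id]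
        exact hk.symm
    show τ _ ∈ Set.range Δ.base
    rw [← hy, ← Scheme.Hom.comp_apply, hkτ, Scheme.Hom.comp_apply]
    exact ⟨_, rfl⟩
  · let V := P.ι ''ᵁ Ω'
    have hV : Set.range V.ι.base ⊆ Set.range P.ι.base := by
      rintro _ ⟨q, rfl⟩
      obtain ⟨p, -, hp⟩ := q.2
      exact ⟨p, hp⟩
    let l := IsOpenImmersion.lift P.ι V.ι hV
    have hl : Set.range (l ≫ τ).base ⊆ Set.range Δ.base := by
      rintro _ ⟨q, rfl⟩
      obtain ⟨p, hp, hpq⟩ := q.2
      have : l q = p := P.ι.isOpenEmbedding.injective (by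
        rw [← Scheme.Hom.comp_apply, IsOpenImmersion.lift_fac]; exact hpq.symm)
      rw [Scheme.Hom.comp_apply, this]
      exact hp
    have e1 := congrArg (· ≫ pullback.fst f f) (IsOpenImmersion.lift_fac Δ _ hl)
    have e2 := congrArg (· ≫ pullback.snd f f) (IsOpenImmersion.lift_fac Δ _ hl)
    simp only [τ, Δ, Category.assoc, pullback.diagonal_fst, pullback.diagonal_snd, Category.comp_id,
      pullback.lift_fst, pullback.lift_snd] at e1 e2
    have e3 := congrArg (· ≫ W.ι) (e1.symm.trans e2)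
    simp only [la, la', Category.assoc, IsOpenImmersion.lift_fac] at e3
    simp only [l, IsOpenImmersion.lift_fac_assoc] at e3
    exact e3

omit [GrpObj M] in
/-- Morphisms from a finite scheme killed by `N` and agreeing on the closed fibre are equal. -/
theorem eq_of_closed (N : ℕ) {T : Over (Spec (CommRingCat.of R))} [IsFinite T.hom] (a a' : T ⟶ G) (h : a ^ N = 1)
    (h' : a' ^ N = 1) (hmod : (Over.pullback (π R)).map a = (Over.pullback (π R)).map a')
    (hW : ∀ z, T.hom z = closedPoint R → a.left z ∈ etaleOpen G N) : a = a' := by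
  obtain ⟨Ω, hΩ, e⟩ := exists_open_agree N a a' h h' hmod hW
  have htop : ∀ z, z ∈ Ω := fun z => by
    obtain ⟨m, hm, hmc⟩ := T.hom.isClosedMap.specializingMap (specializes_closedPoint (T.hom z))
    exact hm.mem_open Ω.2 (hΩ m hmc)
  haveI : Surjective Ω.ι := ⟨fun z => ⟨⟨z, htop z⟩, rfl⟩⟩
  haveI : IsIso Ω.ι := (isIso_iff_isOpenImmersion_and_surjective _).mpr ⟨inferInstance, inferInstance⟩
  exact Over.OverMorphism.ext ((cancel_epi Ω.ι).1 e)

variable {N : ℕ} (hN : (N : R ⧸ maximalIdeal R) ≠ 0)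
  (hkill : ∀ (X : Over (Spec (CommRingCat.of R))) (x : X ⟶ M), x ^ N = 1)
variable [IsFinite M.hom]

include hc₀ hN hkill in
/-- The lift, landing in the étale locus of the power. -/
theorem exists_lift_in :
    ∃ u : M ⟶ G, (Over.pullback (π R)).map u = u₀ ∧ u ^ N = 1 ∧ ∀ z, u.left z ∈ etaleOpen G N := by
  let W := etaleOpen G N
  let f : (W : Scheme.{u}) ⟶ G.left := W.ι ≫ ((𝟙 G : G ⟶ G) ^ N).left
  let m₀ := theta (π R) u₀
  have hpow : m₀ ^ N = 1 := by
    have h1 : (𝟙 (Red.bc (π R) M)) ^ N = 1 :=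
      (theta_bijective (g := π R) (H := M)).1 (by rw [theta_pow', hkill, theta_one'])
    rw [← theta_pow', ← Category.id_comp u₀, ← MonObj.pow_comp, h1, MonObj.one_comp, theta_one']
  have hW : Set.range m₀.left.base ⊆ Set.range W.ι.base := by
    rintro _ ⟨z, rfl⟩
    rw [Scheme.Opens.range_ι]
    let Z : Over (Spec (CommRingCat.of R)) := (Over.map (π R)).obj (Red.bc (π R) M)
    let K : Type u := Z.left.residueField z
    let m : Over.mk (Z.left.fromSpecResidueField z ≫ Z.hom) ⟶ Z := Over.homMk (Z.left.fromSpecResidueField z) rfl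
    have hNK : (N : K) ≠ 0 := fun h0 => by
      obtain ⟨φ, hφ⟩ := Spec.map_surjective (Z.left.fromSpecResidueField z ≫ (Red.bc (π R) M).hom)
      letI := Ideal.Quotient.field (maximalIdeal R)
      exact hN (φ.hom.injective (by rw [map_natCast, map_zero]; exact h0))
    have h := mem_etaleOpen_of_central (N := N) hNK (Z.left.fromSpecResidueField z ≫ Z.hom) (m ≫ m₀)
      fun X t x => by rw [← Category.assoc]; exact commute_closed u₀ hc₀ X _ x
    rw [Over.comp_left, Scheme.Hom.comp_apply] at h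
    rwa [show m.left (IsLocalRing.closedPoint K) = z from Scheme.fromSpecResidueField_apply _ _] at h
  let l := IsOpenImmersion.lift W.ι m₀.left hW
  have hl : l ≫ f = ((Over.map (π R)).obj (Red.bc (π R) M)).hom ≫ η[G].left := by
    simp only [l, f, IsOpenImmersion.lift_fac_assoc]
    rw [← Over.comp_left, MonObj.comp_pow, Category.comp_id, hpow]
    rfl
  have hη : η[G].left ≫ G.hom = 𝟙 _ := Over.w η[G]
  haveI : Etale (pullback.snd f η[G].left) := MorphismProperty.pullback_snd _ _ inferInstance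
  haveI : Etale (pullback.snd (pullback.snd f η[G].left) M.hom) := MorphismProperty.pullback_snd _ _ inferInstance
  have hρ : pullback.fst M.hom (π R) ≫ M.hom = ((Over.map (π R)).obj (Red.bc (π R) M)).hom := pullback.condition
  obtain ⟨σ, hσ, hσu⟩ := HenselSection.exists_section R M.hom (pullback.snd (pullback.snd f η[G].left) M.hom)
    (pullback.lift (pullback.lift l ((Over.map (π R)).obj (Red.bc (π R) M)).hom hl) (pullback.fst M.hom (π R))
      (by rw [pullback.lift_snd]; exact hρ.symm)) (pullback.lift_snd _ _ _)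
  let a₁ : M.left ⟶ (W : Scheme.{u}) := σ ≫ pullback.fst _ _ ≫ pullback.fst _ _
  have ha₁ : a₁ ≫ f = M.hom ≫ η[G].left := by
    simp only [a₁, Category.assoc]
    rw [pullback.condition, pullback.condition_assoc, reassoc_of% hσ]
  let u : M ⟶ G := Over.homMk (a₁ ≫ W.ι) (by
    have h := congrArg (· ≫ G.hom) ha₁
    simp only [f, Category.assoc, Over.w, hη] at h
    simpa using h)
  refine ⟨u, (theta_bijective (g := π R) (H := G)).1 ?_, ?_, fun z => (a₁ z).2⟩
  · rw [← theta_id_comp]
    refine Over.OverMorphism.ext ?_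
    simp only [Over.comp_left, theta_left, Over.id_left, Category.id_comp]
    show pullback.fst M.hom (π R) ≫ (σ ≫ pullback.fst _ _ ≫ pullback.fst _ _) ≫ W.ι = _
    rw [Category.assoc, reassoc_of% hσu]
    simp only [Category.assoc, pullback.lift_fst_assoc, l, IsOpenImmersion.lift_fac]
    rfl
  · have e : u ^ N = u ≫ ((𝟙 G : G ⟶ G) ^ N) := by rw [MonObj.comp_pow, Category.comp_id]
    rw [e]
    exact Over.OverMorphism.ext ((Category.assoc _ _ _).trans ha₁)

include hc₀ hN hkill in
/-- The central lift, its uniqueness, and centrality when the fibres are connected. -/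
theorem exists_lift :
    ∃ u : M ⟶ G, IsMonHom u ∧ (Over.pullback (π R)).map u = u₀ ∧
      (∀ u' : M ⟶ G, IsMonHom u' → (Over.pullback (π R)).map u' = u₀ → u' = u) ∧
      ((∀ s : Spec (CommRingCat.of R), _root_.IsConnected (G.hom.base ⁻¹' {s})) →
        ∀ (X : Over (Spec (CommRingCat.of R))) (x : X ⟶ M) (g : X ⟶ G), (x ≫ u) * g = g * (x ≫ u)) := by
  obtain ⟨u, hu, hpow, hW⟩ := exists_lift_in u₀ hc₀ hN hkill
  haveI : IsFinite (M ⊗ M).hom := by
    rw [← Over.w (fst M M)]
    haveI : IsFinite (fst M M).left := inferInstanceAs (IsFinite (pullback.fst M.hom M.hom))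
    infer_instance
  have hmap : ∀ {T : Over (Spec (CommRingCat.of R))} (x : T ⟶ M),
      (Over.pullback (π R)).map (x ≫ u) = (Over.pullback (π R)).map x ≫ u₀ := fun x => by
    rw [Functor.map_comp, hu]
  have hin : ∀ {T : Over (Spec (CommRingCat.of R))} (x : T ⟶ M) (z : T.left), (x ≫ u).left z ∈ etaleOpen G N :=
    fun x z => by rw [Over.comp_left, Scheme.Hom.comp_apply]; exact hW _
  have hxu : ∀ {T : Over (Spec (CommRingCat.of R))} (x : T ⟶ M), (x ≫ u) ^ N = 1 := fun x => by
    rw [← MonObj.comp_pow, hpow, MonObj.comp_one]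
  have hconj : ∀ {T : Over (Spec (CommRingCat.of R))} (x : T ⟶ M) (c : T ⟶ G),
      (c * (x ≫ u) * c⁻¹) ^ N = 1 ∧
      (Over.pullback (π R)).map (x ≫ u) = (Over.pullback (π R)).map (c * (x ≫ u) * c⁻¹) := fun x c => by
    refine ⟨by rw [conj_pow, hxu, _root_.mul_one, mul_inv_cancel], ?_⟩
    symm
    refine mul_right_cancel (b := (Over.pullback (π R)).map c) ?_
    rw [← Functor.map_mul, inv_mul_cancel_right, Functor.map_mul, hmap]
    exact (hc₀ _ _ _).symm
  have hcomm : ∀ (X : Over (Spec (CommRingCat.of R))) (x y : X ⟶ M), Commute (x ≫ u) (y ≫ u) := by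
    have h0 : Commute (fst M M ≫ u) (snd M M ≫ u) := by
      have h := eq_of_closed N (fst M M ≫ u) ((snd M M ≫ u) * (fst M M ≫ u) * (snd M M ≫ u)⁻¹) (hxu _)
        (hconj _ _).1 (hconj _ _).2 (fun z _ => hin _ z)
      exact eq_mul_inv_iff_mul_eq.mp h
    intro X x y
    have h := congrArg (fun q => lift x y ≫ q) h0.eq
    simp only [MonObj.comp_mul, lift_fst_assoc, lift_snd_assoc] at h
    exact h
  have hmul : (fst M M * snd M M) ≫ u = (fst M M ≫ u) * (snd M M ≫ u) := by
    refine eq_of_closed N _ _ (hxu _) ?_ ?_ (fun z _ => hin _ z)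
    · rw [(hcomm _ _ _).mul_pow, hxu, hxu, _root_.one_mul]
    · rw [hmap, Functor.map_mul, Functor.map_mul, hmap, hmap, MonObj.mul_comp]
  have hu' : IsMonHom u := by
    refine ⟨?_, ?_⟩
    · have h := congrArg (fun q => lift (1 : 𝟙_ _ ⟶ M) 1 ≫ q) hmul
      simp only [MonObj.comp_mul, ← Category.assoc, lift_fst, lift_snd, _root_.one_mul] at h
      have h' := mul_eq_left.mp h.symm
      simpa [Hom.one_def, toUnit_unique (toUnit (𝟙_ (Over (Spec (CommRingCat.of R))))) (𝟙 _)] using h'
    · simpa [Hom.mul_def, lift_fst_comp_snd_comp] using hmul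
  refine ⟨u, hu', hu, fun u' hu'' h' => ?_, fun hconn => ?_⟩
  · haveI := hu''
    refine (eq_of_closed N u u' hpow ?_ (hu.trans h'.symm) fun z _ => hW z).symm
    rw [← Category.id_comp u', ← MonObj.pow_comp, hkill, MonObj.one_comp]
  · obtain ⟨Ω, hΩ, e⟩ := exists_open_agree N (fst M G ≫ u) (snd M G * (fst M G ≫ u) * (snd M G)⁻¹)
      (hxu _) (hconj _ _).1 (hconj _ _).2 (fun z _ => hin _ z)
    let q : (M ⊗ G).left ⟶ G.left := (snd M G).left
    haveI : IsFinite q := inferInstanceAs (IsFinite (pullback.snd M.hom G.hom))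
    let U : G.left.Opens := ⟨(q.base '' (Ω : Set (M ⊗ G).left)ᶜ)ᶜ,
      (q.isClosedMap _ Ω.2.isClosed_compl).isOpen_compl⟩
    have hU : ∀ g : G.left, G.hom g = closedPoint R → g ∈ U := by
      rintro g hg ⟨z, hz, hzg⟩
      refine hz (hΩ z ?_)
      rw [← Over.w (snd M G), Scheme.Hom.comp_apply]
      exact (congrArg (fun t => G.hom t) hzg).trans hg
    refine OpenMul.commute_of_open U hconn (fun s => ?_) u fun X x g hg => ?_
    · refine ((IsLocalRing.specializes_closedPoint s).map η[G].left.continuous).mem_open U.2 (hU _ ?_)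
      rw [← Scheme.Hom.comp_apply, show η[G].left ≫ G.hom = 𝟙 _ from Over.w η[G]]
      rfl
    · have hr : Set.range (lift x g).left.base ⊆ Set.range Ω.ι.base := by
        rintro _ ⟨p, rfl⟩
        rw [Scheme.Opens.range_ι]
        by_contra hn
        refine hg ⟨p, rfl⟩ ⟨(lift x g).left p, hn, ?_⟩
        rw [← Scheme.Hom.comp_apply, ← Over.comp_left, lift_snd]
      have h : lift x g ≫ fst M G ≫ u = lift x g ≫ (snd M G * (fst M G ≫ u) * (snd M G)⁻¹) := by
        refine Over.OverMorphism.ext ?_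
        simp only [Over.comp_left] at e ⊢
        rw [← IsOpenImmersion.lift_fac Ω.ι _ hr, Category.assoc, e, Category.assoc]
      simp only [MonObj.comp_mul, GrpObj.comp_inv, lift_fst_assoc, lift_snd] at h
      exact eq_mul_inv_iff_mul_eq.mp h

end Groth.Agent.Sga3xB.CompleteLift
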