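import Groth.Agent.MultTransp18.FixedSmooth
import Groth.Agent.Sga3xB.MultBasic

/-!
# Fixed points of groups of multiplicative type acting on separated smooth schemes

The averaging argument of `MultTransp18.InfFixed` for an object `G` which is not a group: pushing forward along the
mean does not depend on the base point, by gluing over pairs.
-/

universe u

open CategoryTheory CategoryTheory.Limits MonoidalCategory CartesianMonoidalCategory MonObj AlgebraicGeometry
open TensorProduct
open Groth.Agent.GrpSchLib.AffineHopf Groth.Agent.DSPtsLib Groth.Agent.MultTransp18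

set_option backward.isDefEq.respectTransparency false
set_option linter.style.haveILetI false
set_option synthInstance.maxHeartbeats 400000
set_option maxHeartbeats 1000000

namespace Groth.Agent.Sga3xB

variable {R : Type u} [CommRing R] {J : Ideal R} {G : Over (Spec (CommRingCat.of R))}

section Push

variable {A₀ B : Type u} [CommRing A₀] [Algebra R A₀] [CommRing B] [Algebra R B] {hJ : J ^ 2 = ⊥}
  {j : A₀ →ₐ[R] B} {l : B →ₗ[R] A₀} {hl : ∀ x y, l (x * j y) = l x * y} {hl1 : l 1 = 1}

theorem IsPush.map₂' {H : Over (Spec (CommRingCat.of R))} (act : H ⊗ G ⟶ G) {a : sp R B ⟶ H} {wa ya : sp R A₀ ⟶ H}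
    {x : sp R B ⟶ G} {w y : sp R A₀ ⟶ G} (ha : IsPush hJ j l hl hl1 a wa ya) (hx : IsPush hJ j l hl hl1 x w y) :
    IsPush hJ j l hl hl1 (lift a x ≫ act) (lift wa w ≫ act) (lift ya y ≫ act) := by
  obtain ⟨p, p1, p2, p3⟩ := ha
  obtain ⟨q, q1, q2, q3⟩ := hx
  refine ⟨lift p q ≫ act, ?_, ?_, ?_⟩
  · rw [← Category.assoc, comp_lift, p1, q1]
  · rw [← Category.assoc, comp_lift, p2, q2]
  · rw [← Category.assoc, comp_lift, p3, q3]

theorem isPush_self' (w : sp R A₀ ⟶ G) : IsPush hJ j l hl hl1 (spMap j ≫ w) w w := by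
  let d : A₀ →ₐ[R] Pairs J j := pairsLift j (AlgHom.id R A₀) fun z => by simp
  refine ⟨spMap d ≫ w, ?_, ?_, ?_⟩
  all_goals rw [← Category.assoc, spMap_comp]
  · rfl
  · rw [show (pA J j).comp d = AlgHom.id R A₀ from rfl, spMap_id, Category.id_comp]
  · rw [show (hat hJ l hl hl1).comp d = AlgHom.id R A₀ from AlgHom.ext fun z => by
      show l (j z) = z
      rw [← _root_.one_mul (j z), hl, hl1, _root_.one_mul], spMap_id, Category.id_comp]

/-- Triples: a pair and a further point congruent to its second component. -/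
abbrev Triples (J : Ideal R) (j : A₀ →ₐ[R] B) : Type u :=
  QuillenLib.Pinch ((redHom J A₀).comp (pA J j)).toRingHom (redHom J A₀).toRingHom

noncomputable instance instAlgebraTriples (J : Ideal R) (j : A₀ →ₐ[R] B) : Algebra R (Triples J j) :=
  ((RingHom.prod (algebraMap R (Pairs J j)) (algebraMap R A₀)).codRestrict _ (fun r => by
    show ((redHom J A₀).comp (pA J j)) (algebraMap R (Pairs J j) r) = (redHom J A₀) (algebraMap R A₀ r)
    rw [AlgHom.commutes, AlgHom.commutes])).toAlgebra

/-- The pair of a triple. -/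
noncomputable def tP (J : Ideal R) (j : A₀ →ₐ[R] B) : Triples J j →ₐ[R] Pairs J j :=
  { QuillenLib.toB ((redHom J A₀).comp (pA J j)).toRingHom (redHom J A₀).toRingHom with commutes' := fun _ => rfl }

/-- The last component of a triple. -/
noncomputable def tA (J : Ideal R) (j : A₀ →ₐ[R] B) : Triples J j →ₐ[R] A₀ :=
  { QuillenLib.toA ((redHom J A₀).comp (pA J j)).toRingHom (redHom J A₀).toRingHom with commutes' := fun _ => rfl }

/-- A push forward does not depend on the base point in its congruence class. -/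
theorem IsPush.eq_of_congr {x : sp R B ⟶ G} {w w' y y' : sp R A₀ ⟶ G} (h : IsPush hJ j l hl hl1 x w y)
    (h' : IsPush hJ j l hl hl1 x w' y') (hw : spMap (redHom J A₀) ≫ w = spMap (redHom J A₀) ≫ w') : y = y' := by
  obtain ⟨a, a1, a2, a3⟩ := h
  obtain ⟨b, b1, b2, b3⟩ := h'
  have hsurj : Function.Surjective ((redHom J A₀).comp (pA J j)).toRingHom := fun c => by
    obtain ⟨c, rfl⟩ := Ideal.Quotient.mk_surjective c
    exact ⟨pairsLift j (AlgHom.id R A₀) (fun z => by simp) c, rfl⟩
  obtain ⟨H, hB, hA⟩ := QuillenLib.exists_hom_pinch ((redHom J A₀).comp (pA J j)).toRingHom (redHom J A₀).toRingHom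
    G.left hsurj a.left w'.left (by
      have e : spMap ((redHom J A₀).comp (pA J j)) ≫ a = spMap (redHom J A₀) ≫ w' := by
        rw [← spMap_comp, Category.assoc, a2, hw]
      exact congrArg CommaMorphism.left e)
  have hH : H ≫ G.hom = (sp R (Triples J j)).hom := by
    refine QuillenLib.hom_ext_pair (tP J j).toRingHom (tA J j).toRingHom
      (fun z p q => Subtype.ext (Prod.ext p q)) (QuillenLib.pinch_surjective _ _ hsurj) _ _ ?_ ?_
    · rw [← Category.assoc, show Spec.map (CommRingCat.ofHom (tP J j).toRingHom) ≫ H = a.left from hB, Over.w a]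
      exact (Over.w (spMap (tP J j))).symm
    · rw [← Category.assoc, show Spec.map (CommRingCat.ofHom (tA J j).toRingHom) ≫ H = w'.left from hA, Over.w w']
      exact (Over.w (spMap (tA J j))).symm
  let K : sp R (Triples J j) ⟶ G := Over.homMk H hH
  have ha : spMap (tP J j) ≫ K = a := Over.OverMorphism.ext hB
  let t2 : Triples J j →ₐ[R] Pairs J j := pairsLift ((pB J j).comp (tP J j)) (tA J j) fun z => by
    have h1 := pairs_sub_mem (tP J j z)
    have h2 : pA J j (tP J j z) - tA J j z ∈ (J • ⊤ : Submodule R A₀) := by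
      rw [Ideal.smul_top_eq_map]; exact Ideal.Quotient.eq.mp z.2
    have h3 := MultTypeLib.map_smul_top j.toLinearMap h2
    rw [Ideal.smul_top_eq_map] at h3
    have h4 := Ideal.add_mem _ h1 h3
    simpa [map_sub] using h4
  have hb : spMap t2 ≫ K = b := by
    refine pairs_hom_ext _ _ ?_ ?_
    · rw [b1, ← Category.assoc, spMap_comp, show (pB J j).comp t2 = (pB J j).comp (tP J j) from rfl, ← spMap_comp,
        Category.assoc, ha, a1]
    · rw [b2, ← Category.assoc, spMap_comp, show (pA J j).comp t2 = tA J j from rfl]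
      exact Over.OverMorphism.ext hA
  rw [← a3, ← b3, ← ha, ← hb, ← Category.assoc, ← Category.assoc, spMap_comp, spMap_comp]
  rfl

theorem IsPush.red_eq' {x : sp R B ⟶ G} {w y : sp R A₀ ⟶ G} (h : IsPush hJ j l hl hl1 x w y) :
    spMap (redHom J A₀) ≫ y = spMap (redHom J A₀) ≫ w := by
  obtain ⟨a, a1, a2, a3⟩ := h
  rw [← a2, ← a3, ← Category.assoc, ← Category.assoc, spMap_comp, spMap_comp]
  congr 2
  refine AlgHom.ext fun z => Ideal.Quotient.eq.mpr ?_
  show l (pB J j z) - pA J j z ∈ _
  have h1 : pB J j z - j (pA J j z) ∈ (J • ⊤ : Submodule R B) := by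
    rw [Ideal.smul_top_eq_map]; exact pairs_sub_mem z
  have h2 := MultTypeLib.map_smul_top l h1
  rw [Ideal.smul_top_eq_map, map_sub, show l (j (pA J j z)) = pA J j z by
    rw [← _root_.one_mul (j _), hl, hl1, _root_.one_mul]] at h2
  exact h2

theorem IsPush.mapPair' {A₀' B' : Type u} [CommRing A₀']
    [Algebra R A₀'] [CommRing B'] [Algebra R B'] {j' : A₀' →ₐ[R] B'} {l' : B' →ₗ[R] A₀'}
    {hl' : ∀ x y, l' (x * j' y) = l' x * y} {hl1' : l' 1 = 1} (f : B →ₐ[R] B') (g : A₀ →ₐ[R] A₀')
    (hfj : ∀ y, f (j y) = j' (g y)) (hlf : ∀ z, l' (f z) = g (l z)) {x : sp R B ⟶ G} {w y : sp R A₀ ⟶ G}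
    (h : IsPush hJ j l hl hl1 x w y) :
    IsPush hJ j' l' hl' hl1' (spMap f ≫ x) (spMap g ≫ w) (spMap g ≫ y) := by
  obtain ⟨q, q1, q2, q3⟩ := h
  let s : Pairs J j →ₐ[R] Pairs J j' := pairsLift (f.comp (pB J j)) (g.comp (pA J j)) fun z => by
    have h1 : pB J j z - j (pA J j z) ∈ (J • ⊤ : Submodule R B) := by
      rw [Ideal.smul_top_eq_map]; exact pairs_sub_mem z
    have h2 := MultTypeLib.map_smul_top f.toLinearMap h1
    rw [Ideal.smul_top_eq_map] at h2
    simpa [map_sub, hfj] using h2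
  refine ⟨spMap s ≫ q, ?_, ?_, ?_⟩
  all_goals rw [← Category.assoc, spMap_comp]
  · rw [show (pB J j').comp s = f.comp (pB J j) from rfl, ← spMap_comp, Category.assoc, q1]
  · rw [show (pA J j').comp s = g.comp (pA J j) from rfl, ← spMap_comp, Category.assoc, q2]
  · rw [show (hat hJ l' hl' hl1').comp s = g.comp (hat hJ l hl hl1) from AlgHom.ext fun z => hlf _,
      ← spMap_comp, Category.assoc, q3]

end Push

set_option maxHeartbeats 400000 in
/-- A point fixed modulo a square zero ideal is congruent to a fixed point. -/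
theorem exists_fixed_sq_hopf_obj {A : Type u} [CommRing A] [HopfAlgebra R A] (hA : SGA3b.IsMultType R A) (hJ : J ^ 2 = ⊥)
    (act : sp R A ⊗ G ⟶ G)
    (hact : ∀ (T : Over (Spec (CommRingCat.of R))) (a b : T ⟶ sp R A) (g : T ⟶ G),
      lift (a * b) g ≫ act = lift a (lift b g ≫ act) ≫ act)
    (x0 : sp R R ⟶ G)
    (h0 : spMap (redHom J A) ≫ lift (𝟙 _) (spMap (Algebra.ofId R A) ≫ x0) ≫ act =
      spMap (redHom J A) ≫ spMap (Algebra.ofId R A) ≫ x0) :
    ∃ c : sp R R ⟶ G, spMap (redHom J R) ≫ c = spMap (redHom J R) ≫ x0 ∧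
      lift (𝟙 _) (spMap (Algebra.ofId R A) ≫ c) ≫ act = spMap (Algebra.ofId R A) ≫ c := by
  obtain ⟨mu⟩ := MultTypeLib.exists_mean hA
  let iL : A →ₐ[R] A ⊗[R] A := Algebra.TensorProduct.includeLeft
  let iR : A →ₐ[R] A ⊗[R] A := Algebra.TensorProduct.includeRight
  let co : A →ₐ[R] A ⊗[R] A := Bialgebra.comulAlgHom R A
  let w0 : sp R A ⟶ G := spMap (Algebra.ofId R A) ≫ x0
  let x : sp R A ⟶ G := lift (𝟙 _) w0 ≫ act
  have hm : ∀ z y, mu.μ (z * Algebra.ofId R A y) = mu.μ z * y := fun z y => by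
    rw [Algebra.ofId_apply, mul_comm, ← Algebra.smul_def, map_smul, smul_eq_mul, mul_comm]
  obtain ⟨q, q1, q2⟩ := exists_pairs_hom (j := Algebra.ofId R A) x x0 h0
  let c : sp R R ⟶ G := spMap (hat hJ mu.μ hm mu.map_one') ≫ q
  have hc : IsPush hJ (Algebra.ofId R A) mu.μ hm mu.map_one' x x0 c := ⟨q, q1, q2, rfl⟩
  refine ⟨c, IsPush.red_eq' hc, ?_⟩
  have hLj : ∀ z, mu.L (iL z) = z := fun z => by
    rw [← _root_.one_mul (iL z), mu.L_mul, mu.L_one, _root_.one_mul]
  have Pa : IsPush hJ iL mu.L mu.L_mul mu.L_one (spMap co ≫ x) w0 (spMap (Algebra.ofId R A) ≫ c) :=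
    IsPush.mapPair' co (Algebra.ofId R A) (fun y => by simp [co, iL, Algebra.ofId_apply]) (fun z => by
      show mu.L (co z) = _
      rw [show mu.L (co z) = mu.μ z • (1 : A) from mu.inv z, Algebra.ofId_apply, Algebra.algebraMap_eq_smul_one]) hc
  have Pb : IsPush hJ iL mu.L mu.L_mul mu.L_one (spMap iR ≫ x) w0 (spMap (Algebra.ofId R A) ≫ c) :=
    IsPush.mapPair' iR (Algebra.ofId R A) (fun y => by simp [iR, iL, Algebra.ofId_apply]) (fun z => by
      show mu.L ((1 : A) ⊗ₜ z) = _
      rw [MultTypeLib.Mean.L_tmul, Algebra.ofId_apply, Algebra.algebraMap_eq_smul_one]) hc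
  have Ph := isPush_self' (hJ := hJ) (j := iL) (hl := mu.L_mul) (hl1 := mu.L_one) (𝟙 (sp R A))
  have P2 := IsPush.map₂' act Ph Pb
  rw [Category.comp_id] at P2
  have e : spMap co ≫ x = lift (spMap iL) (spMap iR ≫ x) ≫ act := by
    simp only [x, ← Category.assoc, comp_lift, Category.comp_id]
    rw [show spMap co = spMap iL * spMap iR from spMap_co, hact]
    congr 2
    simp only [w0, spMap_ofId]
    rw [show spMap iL * spMap iR = spMap co from spMap_co.symm, spMap_ofId]
  rw [← e] at P2
  exact IsPush.eq_of_congr P2 Pa h0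

/-- The point over the base change corresponding to a point over the base. -/
noncomputable def thetaInv' {S U : Scheme.{u}} {X : Over S} (b : U ⟶ S) {Y : Over U} (a : (Over.map b).obj Y ⟶ X) :
    Y ⟶ Red.bc b X :=
  (Equiv.ofBijective _ (theta_bijective (g := b) (Y := Y) (H := X))).symm a

theorem theta_thetaInv' {S U : Scheme.{u}} {X : Over S} (b : U ⟶ S) {Y : Over U} (a : (Over.map b).obj Y ⟶ X) :
    theta b (thetaInv' b a) = a :=
  (Equiv.ofBijective _ (theta_bijective (g := b) (Y := Y) (H := X))).apply_symm_apply a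

set_option maxHeartbeats 400000 in
/-- The fixed locus has the infinitesimal lifting property. -/
theorem fixed_lift_obj {S : Scheme.{u}} {H G : Over S} [GrpObj H] [Smooth G.hom] (hH : LocDiag H)
    (a : AlgGrp.Action H G) (R : Type u) [CommRing R] (J : Ideal R) (hJ : J ^ 2 = ⊥)
    (b : Spec (CommRingCat.of R) ⟶ S) (g₀ : pushObj b (red J) ⟶ G) (h0 : Fixed a g₀) :
    ∃ g : pushObj b (𝟙_ (Over (Spec (CommRingCat.of R)))) ⟶ G, Fixed a g ∧
      (Over.map b).map (toUnit (red J)) ≫ g = g₀ := by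
  obtain ⟨A, _, _, hA, ⟨eH⟩⟩ := mtHopf_of_locDiag (locDiag_bc' b hH)
  haveI : IsMonHom eH.hom.hom.hom := eH.hom.hom.isMonHom_hom
  have eH1 : eH.inv.hom.hom ≫ eH.hom.hom.hom = 𝟙 _ := congrArg (fun m => m.hom.hom) eH.inv_hom_id
  let HR := Red.bc b H
  let GR := Red.bc b G
  have hGs : Smooth GR.hom := MorphismProperty.pullback_snd _ _ ‹_›
  let actR : HR ⊗ GR ⟶ GR := thetaInv' b (lift (theta b (fst HR GR)) (theta b (snd HR GR)) ≫ a.act)
  have hactR : ∀ {T : Over (Spec (CommRingCat.of R))} (h : T ⟶ HR) (g : T ⟶ GR),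
      theta b (lift h g ≫ actR) = lift (theta b h) (theta b g) ≫ a.act := fun h g => by
    rw [theta_comp, theta_thetaInv', ← Category.assoc, comp_lift, ← theta_comp, ← theta_comp, lift_fst, lift_snd]
  let actA : sp R A ⊗ GR ⟶ GR := lift (fst _ _ ≫ eH.hom.hom.hom) (snd _ _) ≫ actR
  have hactA : ∀ {T : Over (Spec (CommRingCat.of R))} (h : T ⟶ sp R A) (g : T ⟶ GR),
      lift h g ≫ actA = lift (h ≫ eH.hom.hom.hom) g ≫ actR := fun h g => by
    rw [← Category.assoc, comp_lift, ← Category.assoc, lift_fst, lift_snd]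
  obtain ⟨g1, hg1⟩ := exists_point_lift (J := J) ⟨2, hJ⟩ hGs (thetaInv' b g₀)
  obtain ⟨c, hc0, hc⟩ := exists_fixed_sq_hopf_obj hA hJ actA
    (fun T p q g => (theta_bijective b).injective (by
      rw [hactA, hactA, hactA, hactR, hactR, hactR, MonObj.mul_comp, theta_mul, action_mul]))
    (toUnit _ ≫ g1) ((theta_bijective b).injective (by
      let p := toRedAlg J A
      have e1 : spMap (redHom J A) ≫ spMap (Algebra.ofId R A) ≫ toUnit (sp R R) ≫ g1 = p ≫ thetaInv' b g₀ := by
        rw [← hg1]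
        simp only [← Category.assoc]
        congr 1
        exact toUnit_unique _ _
      rw [e1, ← Category.assoc, comp_lift, Category.comp_id, e1, hactA, hactR]
      simp only [theta_comp, theta_thetaInv']
      exact h0 _ ((Over.map b).map p) _))
  let g : 𝟙_ (Over (Spec (CommRingCat.of R))) ⟶ GR := secOf (AlgHom.id R R) ≫ c
  have hle : J.map (algebraMap R R) ≤ J := by rw [Algebra.algebraMap_self, Ideal.map_id]
  let e : red J ⟶ sp R (Ared J R) := Over.homMk
    (Spec.map (CommRingCat.ofHom (Ideal.Quotient.factor hle))) (by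
      show Spec.map _ ≫ Spec.map (CommRingCat.ofHom (algebraMap R (Ared J R))) = Spec.map _
      rw [← Spec.map_comp, ← CommRingCat.ofHom_comp]
      rfl)
  have he : toUnit (red J) ≫ secOf (AlgHom.id R R) = e ≫ spMap (redHom J R) := by
    refine Over.OverMorphism.ext ?_
    show Spec.map (CommRingCat.ofHom (Ideal.Quotient.mk J)) ≫ Spec.map _ = Spec.map _ ≫ Spec.map _
    rw [← Spec.map_comp, ← Spec.map_comp]
    rfl
  have hg0 : toUnit (red J) ≫ g = thetaInv' b g₀ := by
    rw [← Category.assoc, he, Category.assoc, hc0, ← Category.assoc, ← he, Category.assoc,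
      ← hg1, comp_toUnit_assoc, comp_toUnit_assoc]
  refine ⟨theta b g, fun X' x h => ?_, by rw [← theta_comp, hg0, theta_thetaInv']⟩
  let Y : Over (Spec (CommRingCat.of R)) := Over.mk x.left
  have hb : x.left ≫ b = X'.hom := by
    have h1 := Over.w x
    simpa using h1
  let e1 : (Over.map b).obj Y ⟶ X' := Over.homMk (𝟙 _) (by simpa [Y] using hb.symm)
  let e2 : X' ⟶ (Over.map b).obj Y := Over.homMk (𝟙 _) (by simpa [Y] using hb)
  have hee : e2 ≫ e1 = 𝟙 _ := Over.OverMorphism.ext (Category.id_comp _)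
  have hx : e1 ≫ x = (Over.map b).map (toUnit Y) := Over.OverMorphism.ext (Category.id_comp _)
  let k : Y ⟶ sp R A := thetaInv' b (e1 ≫ h) ≫ eH.inv.hom.hom
  have hu : k ≫ spMap (Algebra.ofId R A) ≫ c = toUnit Y ≫ g := by
    rw [← comp_toUnit_assoc k g, show toUnit (sp R A) ≫ g = (toUnit (sp R A) ≫ secOf (AlgHom.id R R)) ≫ c from
      (Category.assoc _ _ _).symm, toUnit_secOf]
    rfl
  have := congrArg (fun m => theta b (k ≫ m)) hc
  rw [← Category.assoc, comp_lift, Category.comp_id, hu, hactA, hactR, show k ≫ eH.hom.hom.hom = thetaInv' b (e1 ≫ h)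
    from by simp only [k, Category.assoc, eH1, Category.comp_id], theta_thetaInv', theta_comp, ← hx, Category.assoc] at this
  have := congrArg (fun m => e2 ≫ m) this
  simp only [← Category.assoc, comp_lift, hee, Category.id_comp] at this
  simpa only [Category.assoc, reassoc_of% hee] using this

set_option maxHeartbeats 400000 in
/-- A closed subscheme representing the fixed points of a group of multiplicative type is smooth. -/
theorem smooth_fixed {S : Scheme.{u}} {H X : Over S} [GrpObj H] (hH : SGA3x.IsMultTypeFT H) [Smooth X.hom]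
    [IsSeparated X.hom] (a : AlgGrp.Action H X) {F : Over S} (j : F ⟶ X) [IsClosedImmersion j.left]
    (hF : ∀ (T : Over S) (x : T ⟶ X), (∃ y : T ⟶ F, y ≫ j = x) ↔ Fixed a x) : Smooth F.hom := by
  have hHe := (TransLib.multTypeFT_essFree hH).2
  haveI := (TransLib.multTypeFT_essFree hH).1
  have ed : (lift (𝟙 X) (𝟙 X)).left = pullback.diagonal X.hom := by
    apply pullback.hom_ext
    · exact (congrArg CommaMorphism.left (lift_fst (𝟙 X) (𝟙 X))).trans (pullback.diagonal_fst X.hom).symm
    · exact (congrArg CommaMorphism.left (lift_snd (𝟙 X) (𝟙 X))).trans (pullback.diagonal_snd X.hom).symm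
  haveI : IsClosedImmersion (lift (𝟙 X) (𝟙 X)).left := by rw [ed]; infer_instance
  haveI : LocallyOfFinitePresentation (lift (𝟙 X) (𝟙 X)).left := by
    rw [ed]
    haveI : LocallyOfFinitePresentation (pullback.diagonal X.hom ≫ pullback.fst X.hom X.hom) := by
      rw [pullback.diagonal_fst]; infer_instance
    exact S12442.locallyOfFinitePresentation_of_comp _ (pullback.fst X.hom X.hom)
  obtain ⟨T, i, hi, hfp, hT⟩ := TransLib.exists_closed_universal_essFree (X := X) hHe
    (lift a.act (snd H X)) (lift (𝟙 X) (𝟙 X))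
  haveI : LocallyOfFinitePresentation i.left := hfp inferInstance inferInstance
  have hT' : ∀ (P : Over S) (g : P ⟶ X), (∃ t : P ⟶ T, t ≫ i = g) ↔ Fixed a g := fun P g =>
    (hT g).trans ⟨fun ⟨l, hl⟩ X' f h => by
      have h1 := congrArg (fun m => lift h f ≫ m ≫ fst X X) hl
      have h2 := congrArg (fun m => lift h f ≫ m ≫ snd X X) hl
      simp [lift_whiskerLeft_assoc] at h1 h2
      rw [← h1, ← h2], fun hg => by
      refine ⟨(H ◁ g) ≫ snd H X, ?_⟩
      have h' := hg (H ⊗ P) (snd H P) (fst H P)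
      apply CartesianMonoidalCategory.hom_ext
      · simp only [Category.assoc, lift_fst, Category.comp_id]
        rw [show H ◁ g = lift (fst H P) (snd H P ≫ g) from by apply CartesianMonoidalCategory.hom_ext <;> simp, h',
          lift_snd]
      · simp⟩
  haveI : Mono i := Over.mono_of_mono_left i
  haveI : Mono j := Over.mono_of_mono_left j
  haveI : Smooth T.hom := by
    haveI : LocallyOfFinitePresentation T.hom := by rw [← Over.w i]; infer_instance
    refine (S1488.result T.hom).mpr ⟨inferInstance, fun R _ J hJ c b hcb => ?_⟩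
    let c' : pushObj b (red J) ⟶ T := Over.homMk c hcb.symm
    obtain ⟨g, hg, hg0⟩ := fixed_lift_obj (locDiag_of_multTypeFT hH) a R J hJ b (c' ≫ i) ((hT' _ _).mp ⟨c', rfl⟩)
    obtain ⟨t, ht⟩ := (hT' _ g).mpr hg
    have e : (Over.map b).map (toUnit (red J)) ≫ t = c' := by
      rw [← cancel_mono i, Category.assoc, ht, hg0]
    exact ⟨t.left, congrArg CommaMorphism.left e, (Over.w t).trans (Category.id_comp b)⟩
  obtain ⟨β, hβ⟩ := (hT' F j).mpr ((hF F j).mp ⟨𝟙 F, Category.id_comp j⟩)
  obtain ⟨α, hα⟩ := (hF T i).mpr ((hT' T i).mp ⟨𝟙 T, Category.id_comp i⟩)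
  haveI : IsIso β := ⟨α, by rw [← cancel_mono j, Category.assoc, hα, hβ, Category.id_comp],
    by rw [← cancel_mono i, Category.assoc, hβ, hα, Category.id_comp]⟩
  haveI : IsIso β.left := inferInstanceAs (IsIso ((Over.forget S).map β))
  rw [← Over.w β]
  infer_instance

end Groth.Agent.Sga3xB
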