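import Groth.Agent.GrpSchLib.SubgroupDescent
import Groth.Agent.DescLib.SigmaLocal

/-!
# Descent of a reductive centre along an fpqc covering

The universal property of the centre after base change gives a descent datum on it; the datum is affine,
hence effective, and the descended scheme is again a subgroup with the universal property.
-/

set_option autoImplicit false
set_option linter.style.haveILetI false

universe u

open CategoryTheory CategoryTheory.Limits MonoidalCategory CartesianMonoidalCategory MonObj GrpObj AlgebraicGeometry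

namespace Groth.Agent.Sga3xB.CentreDescent

open Desc DSPtsLib

set_option backward.isDefEq.respectTransparency false in
/-- Affine descent data are effective along any fpqc covering. -/
theorem effective_of_isCovering {X S : Scheme.{u}} (p : X ⟶ S) (hp : FpqcDescLib.IsCovering p)
    (D : SchDD p) [h : IsAffineHom D.obj.hom] : ∃ U : Over S, Nonempty ((toDD p).obj U ≅ D) :=
  (DescLib.isEffective_ofSchDD_iff p D).1 (DescLib.effective_of_affine_case @IsAffineHom
    (DescLib.prop_sigmaMap' @IsAffineHom) (fun X S p _ _ _ _ D (hD : IsAffineHom D.obj.hom) =>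
      haveI : IsAffine D.obj.left := isAffine_of_isAffineHom D.obj.hom
      DescLib.effective_affine p D) (fun _ : PUnit.{u + 1} => p)
    (by rw [Presieve.ofArrows_pUnit]; exact hp) _ fun _ => h)

/-- A morphism of group objects which respects the product of points is a homomorphism. -/
theorem isMonHom_of_mul {E : Type*} [Category E] [CartesianMonoidalCategory E] {A B : E} [GrpObj A] [GrpObj B]
    (v : A ⟶ B) (h : ∀ {T : E} (a b : T ⟶ A), (a * b) ≫ v = (a ≫ v) * (b ≫ v)) : IsMonHom v := by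
  constructor
  · have h1 := h (1 : 𝟙_ E ⟶ A) 1
    rw [_root_.one_mul, left_eq_mul] at h1
    simpa [Hom.one_def, toUnit_unique (toUnit (𝟙_ E)) (𝟙 _)] using h1
  · have h2 := h (fst A A) (snd A A)
    rw [Hom.mul_def, Hom.mul_def, lift_fst_snd, Category.id_comp] at h2
    rw [h2]
    congr 1
    ext <;> simp

variable {S S' : Scheme.{u}} {G : Over S} [GrpObj G] {f : S' ⟶ S} {Z' : Over S'} [GrpObj Z']
  (z' : Z' ⟶ Red.bc f G) [IsMonHom z']
  (huniv : ∀ (S'' : Scheme.{u}) (f' : S'' ⟶ S') (H : Over S'') [GrpObj H] (v : H ⟶ Red.bc f' (Red.bc f G)) [IsMonHom v],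
        SGA3x.IsMultTypeFT H →
        (∀ (X : Over S'') (x : X ⟶ H) (g : X ⟶ Red.bc f' (Red.bc f G)), (x ≫ v) * g = g * (x ≫ v)) →
        ∃ w : H ⟶ Red.bc f' Z', w ≫ (Over.pullback f').map z' = v)

include huniv in
omit [IsMonHom z'] [GrpObj Z'] in
/-- Points of a central subgroup of multiplicative type of a base change lift to the centre. -/
theorem lift_pt {T₀ : Scheme.{u}} (h₀ : T₀ ⟶ S) (H : Over T₀) [GrpObj H] (v₀ : H ⟶ Red.bc h₀ G) [IsMonHom v₀]
    (hH : SGA3x.IsMultTypeFT H)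
    (hc : ∀ (X : Over T₀) (x : X ⟶ H) (g : X ⟶ Red.bc h₀ G), (x ≫ v₀) * g = g * (x ≫ v₀))
    {T : Scheme.{u}} (a : T ⟶ H.left) (r : T ⟶ S') (e : a ≫ H.hom ≫ h₀ = r ≫ f) :
    ∃ b : T ⟶ Z'.left, b ≫ Z'.hom = r ∧
      b ≫ z'.left ≫ pullback.fst G.hom f = a ≫ v₀.left ≫ pullback.fst G.hom h₀ := by
  let q : T ⟶ T₀ := a ≫ H.hom
  have e' : q ≫ h₀ = r ≫ f := by simpa [q] using e
  let m : pullback H.hom q ⟶ G.left := pullback.fst H.hom q ≫ v₀.left ≫ pullback.fst G.hom h₀
  have hw : v₀.left ≫ pullback.snd G.hom h₀ = H.hom := Over.w v₀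
  have hm : m ≫ G.hom = (pullback.snd H.hom q ≫ r) ≫ f := by
    simp only [m, Category.assoc, pullback.condition, reassoc_of% hw]
    rw [pullback.condition_assoc, ← e']
  let v : Red.bc q H ⟶ Red.bc r (Red.bc f G) :=
    Over.homMk (pullback.lift (pullback.lift m (pullback.snd H.hom q ≫ r) hm) (pullback.snd H.hom q)
      (pullback.lift_snd _ _ _)) (pullback.lift_snd _ _ _)
  let c : ∀ Y : Over T, (Over.map f).obj ((Over.map r).obj Y) ⟶ (Over.map h₀).obj ((Over.map q).obj Y) :=
    fun Y => Over.homMk (𝟙 Y.left) (by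
      show 𝟙 Y.left ≫ (Y.hom ≫ q) ≫ h₀ = (Y.hom ≫ r) ≫ f
      simp only [Category.id_comp, Category.assoc]
      rw [← e'])
  have hv : ∀ {Y : Over T} (x : Y ⟶ Red.bc q H),
      theta f (theta r (x ≫ v)) = c Y ≫ theta h₀ (theta q x ≫ v₀) := fun {Y} x => by
    refine Over.OverMorphism.ext ?_
    show ((x.left ≫ v.left) ≫ pullback.fst _ _) ≫ pullback.fst _ _ =
      𝟙 Y.left ≫ (((x.left ≫ pullback.fst _ _) ≫ v₀.left) ≫ pullback.fst _ _)
    rw [Category.id_comp, Category.assoc, Category.assoc, Category.assoc, Category.assoc]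
    refine congrArg (x.left ≫ ·) ?_
    show pullback.lift _ _ _ ≫ pullback.fst _ _ ≫ pullback.fst _ _ = _
    rw [pullback.lift_fst_assoc, pullback.lift_fst]
  have hinj : ∀ {Y : Over T}, Function.Injective fun x : Y ⟶ Red.bc r (Red.bc f G) => theta f (theta r x) :=
    fun {Y} _ _ h => (theta_bijective r).1 ((theta_bijective f).1 h)
  haveI : IsMonHom v := isMonHom_of_mul v fun {Y} x y => hinj (by
    show theta f (theta r _) = theta f (theta r _)
    rw [theta_mul, theta_mul, hv, hv, hv, theta_mul, MonObj.mul_comp, theta_mul, MonObj.comp_mul])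
  have hcv : ∀ (X : Over T) (x : X ⟶ Red.bc q H) (g : X ⟶ Red.bc r (Red.bc f G)), (x ≫ v) * g = g * (x ≫ v) := by
    intro X x g
    let ci : (Over.map h₀).obj ((Over.map q).obj X) ⟶ (Over.map f).obj ((Over.map r).obj X) :=
      Over.homMk (𝟙 X.left) (by
        show 𝟙 X.left ≫ (X.hom ≫ r) ≫ f = (X.hom ≫ q) ≫ h₀
        rw [Category.id_comp, Category.assoc, Category.assoc, e'])
    obtain ⟨g', hg'⟩ := (theta_bijective h₀).2 (ci ≫ theta f (theta r g))
    have hg : theta f (theta r g) = c X ≫ theta h₀ g' := by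
      rw [hg']
      refine Over.OverMorphism.ext ?_
      show _ = 𝟙 X.left ≫ 𝟙 X.left ≫ _
      rw [Category.id_comp, Category.id_comp]
    refine hinj ?_
    show theta f (theta r _) = theta f (theta r _)
    rw [theta_mul, theta_mul, theta_mul, theta_mul, hv, hg, ← MonObj.comp_mul, ← MonObj.comp_mul, ← theta_mul,
      ← theta_mul, hc]
  obtain ⟨w, hw'⟩ := huniv T r (Red.bc q H) v (GrpSchLib.MultTypeBC.isMultTypeFT_bc q hH) hcv
  let l : T ⟶ pullback H.hom q := pullback.lift a (𝟙 T) (Category.id_comp q).symm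
  refine ⟨l ≫ w.left ≫ pullback.fst Z'.hom r, ?_, ?_⟩
  · have h1 : w.left ≫ pullback.snd Z'.hom r = pullback.snd H.hom q := Over.w w
    rw [Category.assoc, Category.assoc, pullback.condition, reassoc_of% h1]
    exact (Category.assoc _ _ _).symm.trans
      ((congrArg (· ≫ r) (pullback.lift_snd _ _ _)).trans (Category.id_comp r))
  · have h2 : ((Over.pullback r).map z').left ≫ pullback.fst _ r = pullback.fst Z'.hom r ≫ z'.left :=
      pullback.lift_fst _ _ _
    have h3 : w.left ≫ ((Over.pullback r).map z').left = v.left := congrArg CommaMorphism.left hw'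
    simp only [Category.assoc]
    rw [← reassoc_of% h2, reassoc_of% h3]
    show l ≫ pullback.lift _ _ _ ≫ pullback.fst _ _ ≫ pullback.fst _ _ = _
    rw [pullback.lift_fst_assoc, pullback.lift_fst]
    exact pullback.lift_fst_assoc _ _ _ _

omit [IsMonHom z'] [GrpObj Z'] [GrpObj G] in
/-- A point of the centre is determined by its structure point and its image in `G`. -/
theorem pt_ext [Mono z'] {T : Scheme.{u}} {a b : T ⟶ Z'.left} (h : a ≫ Z'.hom = b ≫ Z'.hom)
    (h' : a ≫ z'.left ≫ pullback.fst G.hom f = b ≫ z'.left ≫ pullback.fst G.hom f) : a = b := by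
  rw [← cancel_mono z'.left]
  refine pullback.hom_ext (by simpa only [Category.assoc] using h') ?_
  rw [Category.assoc, Category.assoc]
  have hw : z'.left ≫ pullback.snd G.hom f = Z'.hom := Over.w z'
  exact (congrArg (a ≫ ·) hw).trans (h.trans (congrArg (b ≫ ·) hw).symm)

include huniv in
set_option maxHeartbeats 800000 in
/-- A reductive centre after an fpqc covering gives one on the base. -/
theorem exists_centre_of_covering [Flat f] [Surjective f]
    (hcov : ∀ V : S.Opens, IsAffineOpen V → ∃ W : S'.Opens, IsCompact (W : Set ↥S') ∧ f.base '' (W : Set ↥S') = (V : Set ↥S))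
    [Mono z'] (hZ : SGA3x.IsMultTypeFT Z')
    (hc' : ∀ (X : Over S') (x : X ⟶ Z') (g : X ⟶ Red.bc f G), (x ≫ z') * g = g * (x ≫ z')) :
    ∃ (Z : Over S) (_ : GrpObj Z) (z : Z ⟶ G), (IsMonHom z ∧ Mono z ∧ SGA3x.IsMultTypeFT Z ∧
      (∀ (X : Over S) (x : X ⟶ Z) (g : X ⟶ G), (x ≫ z) * g = g * (x ≫ z)) ∧
      ∀ (S' : Scheme.{u}) (f : S' ⟶ S) (H : Over S') [GrpObj H] (v : H ⟶ Red.bc f G) [IsMonHom v],
        SGA3x.IsMultTypeFT H →
        (∀ (X : Over S') (x : X ⟶ H) (g : X ⟶ Red.bc f G), (x ≫ v) * g = g * (x ≫ v)) →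
        ∃ w : H ⟶ Red.bc f Z, w ≫ (Over.pullback f).map z = v) := by
  have hπ : FpqcDescLib.IsCovering f := FpqcDescLib.isCovering_of_flat f hcov
  have hcs := FpqcDescLib.covers_of_isCovering hπ
  haveI : IsAffineHom Z'.hom := (TransLib.multTypeFT_essFree hZ).1
  let ζ : Z'.left ⟶ G.left := z'.left ≫ pullback.fst G.hom f
  -- the descent datum
  have tr : ∀ {T : Scheme.{u}} (x₀ x₁ : T ⟶ S') (_ : x₀ ≫ f = x₁ ≫ f) (a : Lifts Z' x₀),
      ∃ b : Lifts Z' x₁, b.1 ≫ ζ = a.1 ≫ ζ := by
    intro T x₀ x₁ h a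
    obtain ⟨b, hb, hb'⟩ := lift_pt z' huniv f Z' z' hZ hc' a.1 x₁ (by
      rw [← Category.assoc]; exact (congrArg (· ≫ f) a.2).trans h)
    exact ⟨⟨b, hb⟩, hb'⟩
  choose τ hτ using @tr
  have hext : ∀ {T : Scheme.{u}} {x : T ⟶ S'} (a b : Lifts Z' x), a.1 ≫ ζ = b.1 ≫ ζ → a = b := fun a b h =>
    Subtype.ext (pt_ext z' (a.2.trans b.2.symm) h)
  let D : SchDD f :=
    { obj := Z'
      φ := fun T x₀ x₁ h =>
        { toFun := τ x₀ x₁ h
          invFun := τ x₁ x₀ h.symm
          left_inv := fun a => hext _ _ (by rw [hτ, hτ])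
          right_inv := fun a => hext _ _ (by rw [hτ, hτ]) }
      φ_natural := fun T T' g x₀ x₁ h h' v v' hv => by
        refine congrArg Subtype.val (hext (τ (g ≫ x₀) (g ≫ x₁) h' v')
          ⟨g ≫ (τ x₀ x₁ h v).1, by rw [Category.assoc, (τ x₀ x₁ h v).2]⟩ ?_)
        show _ = (g ≫ (τ x₀ x₁ h v).1) ≫ ζ
        rw [hτ, hv, Category.assoc, Category.assoc, hτ]
      φ_self := fun T x v => hext _ _ (hτ _ _ _ _)
      φ_comp := fun T x₀ x₁ x₂ h₀₁ h₁₂ v => hext _ _ (by
        show (τ x₁ x₂ h₁₂ (τ x₀ x₁ h₀₁ v)).1 ≫ ζ = (τ x₀ x₂ _ v).1 ≫ ζ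
        rw [hτ, hτ, hτ]) }
  haveI : IsAffineHom D.obj.hom := ‹IsAffineHom Z'.hom›
  obtain ⟨U, ⟨e⟩⟩ := effective_of_isCovering f hπ D
  let ei : pullback f U.hom ⟶ Z'.left := e.hom.hom.left
  let ej : Z'.left ⟶ pullback f U.hom := e.inv.hom.left
  have hij : ei ≫ ej = 𝟙 _ := congrArg CommaMorphism.left (congrArg SchDD.Hom.hom e.hom_inv_id)
  have hji : ej ≫ ei = 𝟙 _ := congrArg CommaMorphism.left (congrArg SchDD.Hom.hom e.inv_hom_id)
  have hei : ei ≫ Z'.hom = pullback.fst f U.hom := Over.w e.hom.hom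
  have hej : ej ≫ pullback.fst f U.hom = Z'.hom := by rw [← hei, reassoc_of% hji]
  -- the map to `G`
  obtain ⟨zl, hzl, -⟩ := (hcs.pullback U.hom (pullback.snd f U.hom) (pullback.fst f U.hom)
      (IsPullback.of_hasPullback f U.hom).flip).desc (ei ≫ ζ) fun T a b hab => by
    have h : (a ≫ pullback.fst f U.hom) ≫ f = (b ≫ pullback.fst f U.hom) ≫ f := by
      simp only [Category.assoc, pullback.condition, reassoc_of% hab]
    let v : Lifts ((toDD f).obj U).obj (a ≫ pullback.fst f U.hom) := ⟨a, rfl⟩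
    have h1 := e.hom.comm (a ≫ pullback.fst f U.hom) (b ≫ pullback.fst f U.hom) h v
      ⟨a ≫ ei, by rw [Category.assoc]; exact congrArg (a ≫ ·) hei⟩ rfl
    have h2 : (((toDD f).obj U).φ _ _ h v).1 = b :=
      pullback.hom_ext (pullback.lift_fst _ _ _) ((pullback.lift_snd _ _ _).trans hab)
    rw [h2] at h1
    have h3 := hτ _ _ h (⟨a ≫ ei, by rw [Category.assoc]; exact congrArg (a ≫ ·) hei⟩ : Lifts Z' _)
    rw [show (τ _ _ h _).1 = b ≫ ei from h1] at h3
    simpa only [Category.assoc] using h3.symm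
  have hzw : zl ≫ G.hom = U.hom := by
    haveI := (hcs.pullback U.hom (pullback.snd f U.hom) (pullback.fst f U.hom)
      (IsPullback.of_hasPullback f U.hom).flip).epi
    rw [← cancel_epi (pullback.snd f U.hom), reassoc_of% hzl]
    show ei ≫ (z'.left ≫ pullback.fst G.hom f) ≫ G.hom = _
    have hw : z'.left ≫ pullback.snd G.hom f = Z'.hom := Over.w z'
    rw [Category.assoc, pullback.condition, reassoc_of% hw, reassoc_of% hei, pullback.condition]
  haveI : Mono zl := ⟨fun {T} a b hab => by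
    have hab' : a ≫ U.hom = b ≫ U.hom := by rw [← hzw, reassoc_of% hab]
    haveI := (hcs.pullback (a ≫ U.hom) (pullback.fst (a ≫ U.hom) f) (pullback.snd (a ≫ U.hom) f)
      (IsPullback.of_hasPullback _ f)).epi
    let la : pullback (a ≫ U.hom) f ⟶ pullback f U.hom :=
      pullback.lift (pullback.snd _ _) (pullback.fst _ _ ≫ a) (by rw [Category.assoc, pullback.condition])
    let lb : pullback (a ≫ U.hom) f ⟶ pullback f U.hom :=
      pullback.lift (pullback.snd _ _) (pullback.fst _ _ ≫ b) (by rw [Category.assoc, ← hab', pullback.condition])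
    have h1 : la ≫ ei = lb ≫ ei := by
      refine pt_ext z' ?_ ?_
      · rw [Category.assoc, Category.assoc, hei, pullback.lift_fst, pullback.lift_fst]
      · rw [Category.assoc, Category.assoc]
        show la ≫ ei ≫ ζ = lb ≫ ei ≫ ζ
        rw [← hzl, pullback.lift_snd_assoc, pullback.lift_snd_assoc, Category.assoc, Category.assoc, hab]
    have h2 : la = lb := by
      have h3 := congrArg (· ≫ ej) h1
      simp only [Category.assoc, hij] at h3
      exact (Category.comp_id la).symm.trans (h3.trans (Category.comp_id lb))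
    have h4 := congrArg (· ≫ pullback.snd f U.hom) h2
    simp only [la, lb, pullback.lift_snd] at h4
    exact (cancel_epi _).1 h4⟩
  let z : U ⟶ G := Over.homMk zl hzw
  haveI : Mono z.left := ‹Mono zl›
  haveI : Mono z := Over.mono_of_mono_left _
  -- membership
  let k : ∀ Y : Over S, (Over.map f).obj (Red.bc f Y) ⟶ Y := fun Y => theta f (𝟙 _)
  have hkl : ∀ Y : Over S, (k Y).left = pullback.fst Y.hom f := fun Y => Category.id_comp _
  let Θ : ∀ Y : Over S, (Red.bc f Y ⟶ Z') →* ((Over.map f).obj (Red.bc f Y) ⟶ G) := fun Y =>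
    MonoidHom.mk' (fun a => theta f (a ≫ z')) fun a b => by rw [MonObj.mul_comp, theta_mul]
  have hin : ∀ {Y : Over S} (x : Y ⟶ G), (∃ a, Θ Y a = k Y ≫ x) → ∃ y, y ≫ z = x := by
    intro Y x ⟨a, ha⟩
    have hC := hcs.pullback Y.hom (pullback.fst Y.hom f) (pullback.snd Y.hom f) (IsPullback.of_hasPullback Y.hom f)
    haveI := hC.epi
    have hb : a.left ≫ ζ = pullback.fst Y.hom f ≫ x.left := by
      have h1 : (a.left ≫ z'.left) ≫ pullback.fst G.hom f = (k Y).left ≫ x.left := congrArg CommaMorphism.left ha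
      rw [hkl, Category.assoc] at h1
      exact h1
    have hl : (a.left ≫ ej ≫ pullback.snd f U.hom) ≫ zl = pullback.fst Y.hom f ≫ x.left := by
      rw [← hb, Category.assoc, Category.assoc, hzl, reassoc_of% hji]
    obtain ⟨y, hy, -⟩ := hC.desc (a.left ≫ ej ≫ pullback.snd f U.hom) fun T p q hpq => by
      rw [← cancel_mono zl, Category.assoc p, Category.assoc q, hl, reassoc_of% hpq]
    have hyz : y ≫ zl = x.left := by rw [← cancel_epi (pullback.fst Y.hom f), reassoc_of% hy]; simpa using hl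
    exact ⟨Over.homMk y (by rw [← hzw, reassoc_of% hyz, Over.w x]), Over.OverMorphism.ext hyz⟩
  have hout : ∀ {Y : Over S} (y : Y ⟶ U), ∃ a, Θ Y a = k Y ≫ y ≫ z := by
    intro Y y
    let l : pullback Y.hom f ⟶ pullback f U.hom :=
      pullback.lift (pullback.snd _ _) (pullback.fst _ _ ≫ y.left) (by
        rw [Category.assoc, Over.w y, pullback.condition])
    refine ⟨Over.homMk (l ≫ ei) (by rw [Category.assoc, hei]; exact pullback.lift_fst _ _ _), ?_⟩
    refine Over.OverMorphism.ext ?_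
    show ((l ≫ ei) ≫ z'.left) ≫ pullback.fst G.hom f = (k Y).left ≫ y.left ≫ zl
    rw [hkl, Category.assoc, Category.assoc]
    show l ≫ ei ≫ ζ = _
    rw [← hzl, pullback.lift_snd_assoc, Category.assoc]
  obtain ⟨η', he⟩ := hin η[G] ⟨1, by
    rw [map_one, show η[G] = (1 : 𝟙_ _ ⟶ G) by rw [Hom.one_def, toUnit_unique (toUnit _) (𝟙 _), Category.id_comp],
      MonObj.comp_one]⟩
  obtain ⟨μ', hm⟩ := hin ((fst U U ≫ z) * (snd U U ≫ z)) (by
    obtain ⟨a, ha⟩ := hout (fst U U)
    obtain ⟨b, hb⟩ := hout (snd U U)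
    exact ⟨a * b, by rw [map_mul, ha, hb, MonObj.comp_mul]⟩)
  obtain ⟨ι', hv⟩ := hin z⁻¹ (by
    obtain ⟨a, ha⟩ := hout (𝟙 U)
    rw [Category.id_comp] at ha
    exact ⟨a⁻¹, by rw [map_inv, ha, GrpObj.comp_inv]⟩)
  obtain ⟨str, hzm⟩ := GrpSchLib.exists_grpObj_of_mono z η' he μ' hm ι' hv
  letI := str
  haveI := hzm
  -- the comparison
  let φh : Red.bc f U ⟶ Z' := Over.homMk ((pullbackSymmetry U.hom f).hom ≫ ei) (by
    rw [Category.assoc, hei]; exact pullbackSymmetry_hom_comp_fst _ _)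
  haveI : IsIso ei := ⟨ej, hij, hji⟩
  haveI : IsIso φh.left := inferInstanceAs (IsIso ((pullbackSymmetry U.hom f).hom ≫ ei))
  haveI : IsIso φh := by
    haveI : IsIso ((Over.forget S').map φh) := ‹IsIso φh.left›
    exact isIso_of_reflects_iso φh (Over.forget S')
  have hφh : φh ≫ z' = (Over.pullback f).map z := by
    refine (theta_bijective f).1 ?_
    refine Over.OverMorphism.ext ?_
    show ((((pullbackSymmetry U.hom f).hom ≫ ei) ≫ z'.left) ≫ pullback.fst G.hom f) =
      pullback.lift _ _ _ ≫ pullback.fst G.hom f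
    rw [pullback.lift_fst, Category.assoc, Category.assoc]
    show _ ≫ ei ≫ ζ = _
    rw [← hzl, pullbackSymmetry_hom_comp_snd_assoc]
    rfl
  let φ : Red.bc f U ≅ Z' := asIso φh
  haveI : IsMonHom φ.hom := by
    constructor
    · rw [← cancel_mono z', Category.assoc]
      show η[Red.bc f U] ≫ φh ≫ z' = η[Z'] ≫ z'
      rw [hφh, IsMonHom.one_hom z', IsMonHom.one_hom ((Over.pullback f).map z)]
    · rw [← cancel_mono z', Category.assoc, Category.assoc]
      show μ[Red.bc f U] ≫ φh ≫ z' = (φh ⊗ₘ φh) ≫ μ[Z'] ≫ z'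
      rw [hφh, IsMonHom.mul_hom z', IsMonHom.mul_hom ((Over.pullback f).map z), ← Category.assoc,
        MonoidalCategory.tensorHom_comp_tensorHom, hφh]
  refine ⟨U, str, z, hzm, inferInstance, ?_, ?_, ?_⟩
  · obtain ⟨S'', g, hff, hfs, hfq, hfl⟩ := hZ
    haveI := hff; haveI := hfs
    obtain ⟨hfl', hcov'⟩ := GrpSchLib.SubgroupEqLocus.flat_hcov_of_isCovering
      ((FpqcDescLib.isCovering_of_flat g hfq).comp hπ)
    refine ⟨S'', g ≫ f, hfl', inferInstance, hcov', fun s => ?_⟩
    obtain ⟨V, hsV, M, iM, hfg, ⟨d⟩⟩ := hfl s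
    obtain ⟨e₁⟩ := GrpSchLib.MultTypeBC.bc_bc (V.ι ≫ g) f U
    obtain ⟨e₂⟩ := GrpSchLib.MultTypeBC.bc_congr (Category.assoc V.ι g f) U
    obtain ⟨e₃⟩ := GrpSchLib.MultTypeBC.bc_iso (V.ι ≫ g) (Grp.mkIso' φ)
    exact ⟨V, hsV, M, iM, hfg, ⟨e₂.symm ≪≫ e₁.symm ≪≫ e₃ ≪≫ d⟩⟩
  · intro X x g
    obtain ⟨a, ha⟩ := hout x
    obtain ⟨g', hg'⟩ := (theta_bijective f).2 (k X ≫ g)
    haveI : Epi (k X) := by
      haveI : Epi (k X).left := by
        rw [hkl]
        exact (hcs.pullback X.hom (pullback.fst X.hom f) (pullback.snd X.hom f)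
          (IsPullback.of_hasPullback X.hom f)).epi
      exact Over.epi_of_epi_left _
    rw [← cancel_epi (k X), MonObj.comp_mul, MonObj.comp_mul, ← ha, ← hg']
    show theta f (a ≫ z') * theta f g' = theta f g' * theta f (a ≫ z')
    rw [← theta_mul, ← theta_mul, hc']
  · intro T g H _ v _ hH hcH
    have hvw : v.left ≫ pullback.snd G.hom g = H.hom := Over.w v
    let Y : Over S := Over.mk (H.hom ≫ g)
    let x : Y ⟶ G := Over.homMk (v.left ≫ pullback.fst G.hom g) (by
      show _ = H.hom ≫ g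
      rw [Category.assoc, pullback.condition, reassoc_of% hvw])
    obtain ⟨b, hb, hb'⟩ := lift_pt z' huniv g H v hH hcH (pullback.fst Y.hom f) (pullback.snd Y.hom f)
      pullback.condition
    obtain ⟨y, hy⟩ := hin x ⟨Over.homMk b hb, Over.OverMorphism.ext (by
      show (b ≫ z'.left) ≫ pullback.fst G.hom f = (k Y).left ≫ v.left ≫ pullback.fst G.hom g
      rw [hkl, Category.assoc]
      exact hb')⟩
    refine ⟨Over.homMk (pullback.lift y.left H.hom (Over.w y)) (pullback.lift_snd _ _ _),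
      Over.OverMorphism.ext (pullback.hom_ext ?_ ?_)⟩
    · show (pullback.lift _ _ _ ≫ pullback.lift _ _ _) ≫ pullback.fst _ _ = v.left ≫ _
      rw [Category.assoc, pullback.lift_fst, pullback.lift_fst_assoc]
      exact congrArg CommaMorphism.left hy
    · show (pullback.lift _ _ _ ≫ pullback.lift _ _ _) ≫ pullback.snd _ _ = v.left ≫ _
      rw [Category.assoc, pullback.lift_snd, hvw]
      exact pullback.lift_snd _ _ _

end Groth.Agent.Sga3xB.CentreDescent
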