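import Groth.Agent.Sga3xB.DenseKey
import Mathlib.AlgebraicGeometry.Pullbacks
import Mathlib.AlgebraicGeometry.PullbackCarrier
import Mathlib.AlgebraicGeometry.Fiber
import Mathlib.AlgebraicGeometry.Morphisms.Flat
import Mathlib.AlgebraicGeometry.Morphisms.FiniteType

/-!
# Tensor charts of fibre products
-/

universe u

open CategoryTheory CategoryTheory.Limits AlgebraicGeometry TensorProduct

namespace Groth.Agent.Sga3xB

variable {S H W T : Scheme.{u}}

/-- The chart `Spec (C ⊗[R] A) ⟶ H ×_S T`. -/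
noncomputable def chart (f : H ⟶ S) (g : T ⟶ S) {R C A : Type u} [CommRing R] [CommRing C] [CommRing A]
    [Algebra R C] [Algebra R A] (v : Spec (CommRingCat.of R) ⟶ S) (jA : Spec (CommRingCat.of A) ⟶ H)
    (a : Spec (CommRingCat.of C) ⟶ T)
    (hA : Spec.map (CommRingCat.ofHom (algebraMap R A)) ≫ v = jA ≫ f)
    (hC : Spec.map (CommRingCat.ofHom (algebraMap R C)) ≫ v = a ≫ g) :
    Spec (CommRingCat.of (C ⊗[R] A)) ⟶ pullback f g :=
  ((pullbackSpecIso R C A).inv ≫ (pullbackSymmetry _ _).hom) ≫ pullback.map _ _ f g jA a v hA hC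

section

variable (f : H ⟶ S) (g : T ⟶ S) {R C A : Type u} [CommRing R] [CommRing C] [CommRing A]
    [Algebra R C] [Algebra R A] (v : Spec (CommRingCat.of R) ⟶ S) (jA : Spec (CommRingCat.of A) ⟶ H)
    (a : Spec (CommRingCat.of C) ⟶ T)
    (hA : Spec.map (CommRingCat.ofHom (algebraMap R A)) ≫ v = jA ≫ f)
    (hC : Spec.map (CommRingCat.ofHom (algebraMap R C)) ≫ v = a ≫ g)

theorem chart_fst : chart f g v jA a hA hC ≫ pullback.fst f g =
    Spec.map (CommRingCat.ofHom (Algebra.TensorProduct.includeRight (R := R) (A := C) (B := A)).toRingHom) ≫ jA := by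
  simp only [chart, pullback.map, Category.assoc, pullback.lift_fst, pullbackSymmetry_hom_comp_fst_assoc]
  rw [pullbackSpecIso_inv_snd_assoc]
  rfl

theorem chart_snd : chart f g v jA a hA hC ≫ pullback.snd f g =
    Spec.map (CommRingCat.ofHom (algebraMap C (C ⊗[R] A))) ≫ a := by
  simp only [chart, pullback.map, Category.assoc, pullback.lift_snd, pullbackSymmetry_hom_comp_snd_assoc]
  rw [pullbackSpecIso_inv_fst'_assoc]

theorem isOpenImmersion_chart [IsOpenImmersion jA] [IsOpenImmersion a] [Mono v] :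
    IsOpenImmersion (chart f g v jA a hA hC) := by
  have : IsOpenImmersion (pullback.map _ _ f g jA a v hA hC) := inferInstance
  unfold chart
  infer_instance

theorem range_chart [Mono v] : Set.range (chart f g v jA a hA hC) =
    pullback.fst f g ⁻¹' Set.range jA ∩ pullback.snd f g ⁻¹' Set.range a := by
  rw [← Scheme.Pullback.range_map _ _ f g jA a v hA hC, chart]
  exact Function.Surjective.range_comp ((pullbackSpecIso R C A).inv ≫ (pullbackSymmetry _ _).hom).surjective _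

/-- Charts are functorial in the first factor. -/
theorem chart_comp {B : Type u} [CommRing B] [Algebra R B] (fW : W ⟶ S) (jB : Spec (CommRingCat.of B) ⟶ W)
    (hB : Spec.map (CommRingCat.ofHom (algebraMap R B)) ≫ v = jB ≫ fW) (φ : A →ₐ[R] B) (ν : W ⟶ H)
    (hφ : Spec.map (CommRingCat.ofHom φ.toRingHom) ≫ jA = jB ≫ ν) (P : pullback fW g ⟶ pullback f g)
    (hP₁ : P ≫ pullback.fst f g = pullback.fst fW g ≫ ν) (hP₂ : P ≫ pullback.snd f g = pullback.snd fW g) :
    chart fW g v jB a hB hC ≫ P =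
      Spec.map (CommRingCat.ofHom (Algebra.TensorProduct.map (AlgHom.id C C) φ).toRingHom) ≫
        chart f g v jA a hA hC := by
  apply pullback.hom_ext
  · rw [Category.assoc, hP₁, ← Category.assoc, chart_fst, Category.assoc, ← hφ, Category.assoc, chart_fst,
      ← Category.assoc, ← Category.assoc, ← Spec.map_comp, ← Spec.map_comp]
    congr 2
  · rw [Category.assoc, hP₂, chart_snd, Category.assoc, chart_snd, ← Category.assoc, ← Spec.map_comp]
    congr 2
    ext x
    simp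

end

section

variable {X Y : Scheme.{u}} (c : X ⟶ Y) [IsOpenImmersion c]

theorem appLE_opensRange_bijective (h : (⊤ : X.Opens) ≤ c ⁻¹ᵁ c.opensRange) :
    Function.Bijective (c.appLE c.opensRange ⊤ h) := by
  have h1 : IsIso (c.app c.opensRange) := c.isIso_app _ le_rfl
  have h2 : IsIso (homOfLE h) := ⟨homOfLE le_top, Subsingleton.elim _ _, Subsingleton.elim _ _⟩
  have h3 : IsIso (c.appLE c.opensRange ⊤ h) := by rw [Scheme.Hom.appLE]; infer_instance
  exact ConcreteCategory.bijective_of_isIso _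

theorem res_opensRange_eq_zero {O : Y.Opens} (t : Γ(Y, O)) (hle : c.opensRange ≤ O)
    (hO : (⊤ : X.Opens) ≤ c ⁻¹ᵁ O) (h : c.appLE O ⊤ hO t = 0) : Y.presheaf.map (homOfLE hle).op t = 0 := by
  have hc : (⊤ : X.Opens) ≤ c ⁻¹ᵁ c.opensRange := fun x _ => ⟨x, rfl⟩
  apply (appLE_opensRange_bijective c hc).1
  rw [map_zero, ← h, ← CommRingCat.comp_apply, Scheme.Hom.map_appLE]

theorem Spec_appLE_top {A B : CommRingCat.{u}} (m : A ⟶ B) (a : A)
    (h : (⊤ : (Spec B).Opens) ≤ Spec.map m ⁻¹ᵁ ⊤) :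
    (Spec.map m).appLE ⊤ ⊤ h ((Scheme.ΓSpecIso A).inv a) = (Scheme.ΓSpecIso B).inv (m a) := by
  have h3 := congrArg (fun q => q a) (Scheme.ΓSpecIso_inv_naturality m)
  simp only [CommRingCat.comp_apply] at h3
  rw [h3]
  congr 2

omit [IsOpenImmersion c] in
theorem appLE_congr_hom {c' : X ⟶ Y} (h : c = c') {O : Y.Opens} {V : X.Opens} (e : V ≤ c ⁻¹ᵁ O) :
    c.appLE O V e = c'.appLE O V (h ▸ e) := by
  subst h; rfl

end

section

variable {ι : Type*} {Wi : ι → Scheme.{u}} (f : H ⟶ S) (fW : ∀ i, Wi i ⟶ S) (ν : ∀ i, Wi i ⟶ H)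

/-- Fibrewise schematic density of a family of `S`-morphisms. -/
def FibreDense : Prop :=
  ∀ (s : S) (V : (f.fiber s).Opens) (t : Γ(f.fiber s, V)),
    (∀ (i : ι) (P : (fW i).fiber s ⟶ f.fiber s), P ≫ f.fiberι s = (fW i).fiberι s ≫ ν i →
      P ≫ f.fiberToSpecResidueField s = (fW i).fiberToSpecResidueField s → P.app V t = 0) → t = 0

variable {f fW ν} {U : H.Opens} {V : S.Opens}

variable (ν U) in
/-- The affine opens of the `W i` lying above `U`. -/
abbrev Idx : Type _ := Σ i, {W' : (Wi i).Opens // IsAffineOpen W' ∧ W' ≤ ν i ⁻¹ᵁ U}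

/-- Joint injectivity over a point of the base with values in a field. -/
theorem inj_of_dense (hν : ∀ i, ν i ≫ f = fW i)
    (hU : IsAffineOpen U) (hV : IsAffineOpen V) (hUV : U ≤ f ⁻¹ᵁ V)
    [Algebra Γ(S, V) Γ(H, U)] (hAlg : algebraMap Γ(S, V) Γ(H, U) = (f.appLE V U hUV).hom)
    [instB : ∀ j : Idx ν U, Algebra Γ(S, V) Γ(Wi j.1, j.2.1)]
    (φ : ∀ j : Idx ν U, Γ(H, U) →ₐ[Γ(S, V)] Γ(Wi j.1, j.2.1))
    (hφ : ∀ j, (φ j).toRingHom = ((ν j.1).appLE U j.2.1 j.2.2.2).hom)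
    (K : Type u) [Field K] [Algebra Γ(S, V) K] (σ : Spec (CommRingCat.of K) ⟶ S)
    (hσ : Spec.map (CommRingCat.ofHom (algebraMap Γ(S, V) K)) ≫ hV.fromSpec = σ)
    (hd : ∀ (O : (pullback f σ).Opens) (t : Γ(pullback f σ, O)),
      (∀ (i : ι) (P : pullback (fW i) σ ⟶ pullback f σ), P ≫ pullback.fst f σ = pullback.fst (fW i) σ ≫ ν i →
        P ≫ pullback.snd f σ = pullback.snd (fW i) σ → P.app O t = 0) → t = 0)
    (a : K ⊗[Γ(S, V)] Γ(H, U)) (ha : ∀ j, LinearMap.lTensor K (φ j).toLinearMap a = 0) : a = 0 := by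
  have hψ' : Spec.map (CommRingCat.ofHom (algebraMap Γ(S, V) K)) ≫ hV.fromSpec = 𝟙 _ ≫ σ := by
    rw [Category.id_comp, hσ]
  have hA : Spec.map (CommRingCat.ofHom (algebraMap Γ(S, V) Γ(H, U))) ≫ hV.fromSpec = hU.fromSpec ≫ f := by
    rw [hAlg, CommRingCat.ofHom_hom, IsAffineOpen.SpecMap_appLE_fromSpec]
  let c := chart f σ hV.fromSpec hU.fromSpec (𝟙 _) hA hψ'
  have : IsOpenImmersion c := isOpenImmersion_chart _ _ _ _ _ hA hψ'
  obtain ⟨t, ht⟩ := (appLE_opensRange_bijective c fun x _ => ⟨x, rfl⟩).2 ((Scheme.ΓSpecIso _).inv a)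
  have ht0 : t = 0 := by
    refine hd c.opensRange t fun i P hP₁ hP₂ => ?_
    refine (pullback (fW i) σ).IsSheaf.section_ext fun z hz => ?_
    have hzU : pullback.fst (fW i) σ z ∈ ν i ⁻¹ᵁ U := by
      have h1 : P z ∈ Set.range c := hz
      rw [range_chart, IsAffineOpen.range_fromSpec] at h1
      have h2 : pullback.fst f σ (P z) ∈ U := h1.1
      rwa [← Scheme.Hom.comp_apply, hP₁, Scheme.Hom.comp_apply] at h2
    obtain ⟨W', hW', hzW', hW'U⟩ := exists_isAffineOpen_mem_and_subset hzU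
    let j : Idx ν U := ⟨i, W', hW', hW'U⟩
    let : Algebra Γ(S, V) Γ(Wi i, W') := instB j
    have hB : Spec.map (CommRingCat.ofHom (algebraMap Γ(S, V) Γ(Wi i, W'))) ≫ hV.fromSpec =
        hW'.fromSpec ≫ fW i := by
      have h1 : algebraMap Γ(S, V) Γ(Wi i, W') =
          ((ν i).appLE U W' hW'U).hom.comp (f.appLE V U hUV).hom := by
        rw [← hAlg, ← hφ j]
        exact (φ j).comp_algebraMap.symm
      rw [h1, CommRingCat.ofHom_comp, CommRingCat.ofHom_hom, CommRingCat.ofHom_hom, Spec.map_comp, Category.assoc,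
        IsAffineOpen.SpecMap_appLE_fromSpec f hV hU hUV, ← Category.assoc,
        IsAffineOpen.SpecMap_appLE_fromSpec (ν i) hU hW' hW'U, Category.assoc, hν]
    let c' := chart (fW i) σ hV.fromSpec hW'.fromSpec (𝟙 _) hB hψ'
    have : IsOpenImmersion c' := isOpenImmersion_chart _ _ _ _ _ hB hψ'
    have hzc : z ∈ c'.opensRange := by
      show z ∈ Set.range c'
      rw [range_chart, IsAffineOpen.range_fromSpec]
      exact ⟨hzW', ⟨_, rfl⟩⟩
    have hcomp : c' ≫ P = Spec.map (CommRingCat.ofHom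
        (Algebra.TensorProduct.map (AlgHom.id K K) (φ j)).toRingHom) ≫ c :=
      chart_comp _ _ _ _ _ hA hψ' (fW i) hW'.fromSpec hB (φ j) (ν i) (by
        rw [show (φ j).toRingHom = _ from hφ j, CommRingCat.ofHom_hom, IsAffineOpen.SpecMap_appLE_fromSpec]) P hP₁ hP₂
    have hOle : c'.opensRange ≤ P ⁻¹ᵁ c.opensRange := by
      rintro _ ⟨y, rfl⟩
      show P (c' y) ∈ c.opensRange
      rw [← Scheme.Hom.comp_apply, hcomp, Scheme.Hom.comp_apply]
      exact ⟨_, rfl⟩
    refine ⟨c'.opensRange, hOle, hzc, ?_⟩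
    rw [map_zero]
    have hO : (⊤ : (Spec (CommRingCat.of (K ⊗[Γ(S, V)] Γ(Wi i, W')))).Opens) ≤ c' ⁻¹ᵁ (P ⁻¹ᵁ c.opensRange) :=
      fun y _ => hOle ⟨y, rfl⟩
    refine res_opensRange_eq_zero c' (P.app c.opensRange t) hOle hO ?_
    rw [← CommRingCat.comp_apply, ← Scheme.Hom.comp_appLE c' P c.opensRange ⊤ hO]
    let m := CommRingCat.ofHom (Algebra.TensorProduct.map (AlgHom.id K K) (φ j)).toRingHom
    have hm : (⊤ : (Spec (CommRingCat.of (K ⊗[Γ(S, V)] Γ(Wi i, W')))).Opens) ≤ Spec.map m ⁻¹ᵁ ⊤ :=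
      fun _ _ => trivial
    have hct : (⊤ : (Spec (CommRingCat.of (K ⊗[Γ(S, V)] Γ(H, U)))).Opens) ≤ c ⁻¹ᵁ c.opensRange :=
      fun x _ => ⟨x, rfl⟩
    rw [show ((c' ≫ P).appLE c.opensRange ⊤ hO) = c.appLE c.opensRange ⊤ hct ≫ (Spec.map m).appLE ⊤ ⊤ hm by
      rw [Scheme.Hom.appLE_comp_appLE]; exact appLE_congr_hom _ hcomp _,
      CommRingCat.comp_apply, ht, Spec_appLE_top]
    refine (congrArg _ ?_).trans (map_zero _)
    refine Eq.trans ?_ (ha j)
    clear ha ht
    induction a using TensorProduct.induction_on with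
    | zero => simp
    | tmul x w => rfl
    | add w w' hw hw' => simp only [map_add] at hw hw' ⊢; simp [hw, hw']
  rw [ht0, map_zero] at ht
  exact (Scheme.ΓSpecIso _).symm.commRingCatIsoToRingEquiv.injective (ht.symm.trans (map_zero _).symm)

/-- A fibrewise dense family is jointly injective on the fibres, in affine charts. -/
theorem fibreInj_of_fibreDense (hd : FibreDense f fW ν) (hν : ∀ i, ν i ≫ f = fW i)
    (hU : IsAffineOpen U) (hV : IsAffineOpen V) (hUV : U ≤ f ⁻¹ᵁ V)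
    [Algebra Γ(S, V) Γ(H, U)] (hAlg : algebraMap Γ(S, V) Γ(H, U) = (f.appLE V U hUV).hom)
    [∀ j : Idx ν U, Algebra Γ(S, V) Γ(Wi j.1, j.2.1)]
    (φ : ∀ j : Idx ν U, Γ(H, U) →ₐ[Γ(S, V)] Γ(Wi j.1, j.2.1))
    (hφ : ∀ j, (φ j).toRingHom = ((ν j.1).appLE U j.2.1 j.2.2.2).hom)
    (p : Ideal Γ(S, V)) [p.IsPrime] : FibreInj φ p := by
  let q : PrimeSpectrum Γ(S, V) := ⟨p, ‹_›⟩
  let s : S := hV.fromSpec q
  have hsV : Set.range (S.fromSpecResidueField s) ⊆ Set.range hV.fromSpec := by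
    rw [Scheme.range_fromSpecResidueField]
    rintro _ rfl
    exact ⟨q, rfl⟩
  obtain ⟨ψ, hψ⟩ := Spec.map_surjective (IsOpenImmersion.lift hV.fromSpec (S.fromSpecResidueField s) hsV)
  have hfac : Spec.map ψ ≫ hV.fromSpec = S.fromSpecResidueField s := by
    rw [hψ, IsOpenImmersion.lift_fac]
  let pt : Spec (S.residueField s) := IsLocalRing.closedPoint (S.residueField s)
  have h1 : Spec.map ψ pt = q := by
    apply hV.fromSpec.isOpenEmbedding.injective
    rw [← Scheme.Hom.comp_apply, hfac]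
    exact Scheme.fromSpecResidueField_apply s pt
  have h2 : Ideal.comap ψ.hom pt.asIdeal = p := congrArg PrimeSpectrum.asIdeal h1
  rw [show pt.asIdeal = (⊥ : Ideal (S.residueField s)) from IsLocalRing.maximalIdeal_eq_bot] at h2
  let algK : Algebra Γ(S, V) (S.residueField s) := ψ.hom.toAlgebra
  exact fibreInj_of_field φ p (S.residueField s) h2 fun a ha =>
    inj_of_dense hν hU hV hUV hAlg φ hφ (S.residueField s)
      (S.fromSpecResidueField s) hfac (fun O t ht => hd s O t fun i P => ht i P) a ha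

end

end Groth.Agent.Sga3xB
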