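import Groth.Agent.Sga3xB.Subtori
import Groth.Agent.S2102
import Mathlib.RingTheory.Valuation.LocalSubring
import Mathlib.RingTheory.Ideal.MinimalPrime.Localization

/-!
# Homomorphisms from diagonalisable groups to groups of multiplicative type extend over normal bases

On an integral normal scheme a homomorphism `D(M) ⟶ G` defined at the generic point extends uniquely: over each
valuation ring of the function field `G` splits over a dominating domain, where the homomorphism is `D(φ)`.
-/

set_option autoImplicit false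
set_option linter.style.haveILetI false
set_option linter.unusedSectionVars false

universe u

open CategoryTheory CategoryTheory.Limits AlgebraicGeometry MonoidalCategory CartesianMonoidalCategory MonObj GrpObj

noncomputable section

namespace Groth.Agent.Sga3xB

open Groth.Agent.GrpSchLib
open DSPtsLib (CoordM)
open DiagActionRigid (sp spm univPt univPt_single coord_ext)
open HomKernelIdeal (str)

variable {S : Scheme.{u}}

theorem flat_DS (M : Type) [AddCommGroup M] : Flat (Red.DS S M).hom := by
  have h : Flat (Red.diag.{u} (ULift.{u} ℤ) M).hom := by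
    show Flat (Spec.map (CommRingCat.ofHom (algebraMap (ULift.{u} ℤ) (MonoidAlgebra (ULift.{u} ℤ) (Multiplicative M)))))
    rw [HasRingHomProperty.Spec_iff (P := @Flat)]
    exact RingHom.flat_algebraMap_iff.mpr inferInstance
  exact MorphismProperty.of_isPullback (P := @Flat)
    (IsPullback.of_hasPullback (Red.diag (ULift.{u} ℤ) M).hom (IsTerminal.from specULiftZIsTerminal S)) h

/-- Near the closed point of a valuation ring a group of multiplicative type splits over a dominating domain. -/
theorem exists_split_dominating {G : Over S} [GrpObj G] (hG : SGA3x.IsMultTypeFT G) {V : Type u} [CommRing V]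
    [IsDomain V] [IsLocalRing V] (β : Spec (CommRingCat.of V) ⟶ S) :
    ∃ (W : Type u) (_ : CommRing W) (_ : IsDomain W) (gam : V →+* W), Function.Injective gam ∧
      (∀ v, ¬ IsUnit v → ¬ IsUnit (gam v)) ∧
      ∃ (U : Scheme.{u}) (gU : U ⟶ S) (N : Type) (_ : AddCommGroup N) (_ : AddGroup.FG N)
        (jR : Spec (CommRingCat.of W) ⟶ U), jR ≫ gU = Spec.map (CommRingCat.ofHom gam) ≫ β ∧
          Nonempty (Grp.mk (Red.bc gU G) ≅ Grp.mk (Red.DS U N)) := by
  obtain ⟨S', f, hflat, hsurj, -, hloc⟩ := hG
  obtain ⟨s', hs'⟩ := hsurj.surj (β (IsLocalRing.closedPoint V))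
  obtain ⟨U, hU, N, iN, hN, he⟩ := hloc s'
  haveI := hflat
  let q : pullback β (U.ι ≫ f) ⟶ Spec (CommRingCat.of V) := pullback.fst _ _
  haveI : Flat q :=
    MorphismProperty.of_isPullback (P := @Flat) (IsPullback.of_hasPullback β (U.ι ≫ f)).flip inferInstance
  obtain ⟨z, hz, -⟩ := Scheme.Pullback.exists_preimage_pullback (f := β) (g := U.ι ≫ f)
    (IsLocalRing.closedPoint V) ⟨s', hU⟩ (by erw [Scheme.Hom.comp_apply]; exact hs'.symm)
  obtain ⟨P, hP, hzP, -⟩ := exists_isAffineOpen_mem_and_subset (show z ∈ (⊤ : (pullback β (U.ι ≫ f)).Opens) from trivial)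
  let B := Γ(pullback β (U.ι ≫ f), P)
  obtain ⟨gam₀, hgam₀⟩ : ∃ gam₀ : CommRingCat.of V ⟶ B, Spec.map gam₀ = hP.fromSpec ≫ q := ⟨_, Spec.map_preimage _⟩
  have hγflat : gam₀.hom.Flat := by
    rw [← HasRingHomProperty.Spec_iff (P := @Flat), hgam₀]
    infer_instance
  let pz := (hP.primeIdealOf ⟨z, hzP⟩).asIdeal
  obtain ⟨𝔮, h𝔮, h𝔮z⟩ := Ideal.exists_minimalPrimes_le (J := pz) (I := (⊥ : Ideal B)) bot_le
  haveI : 𝔮.IsPrime := h𝔮.1.1
  let gam : V →+* (B ⧸ 𝔮) := (Ideal.Quotient.mk 𝔮).comp gam₀.hom
  have hclosed : pz.comap gam₀.hom = IsLocalRing.maximalIdeal V := by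
    have h1 : Spec.map gam₀ (hP.primeIdealOf ⟨z, hzP⟩) = IsLocalRing.closedPoint V := by
      rw [hgam₀]
      erw [Scheme.Hom.comp_apply, hP.fromSpec_primeIdealOf]
      exact hz
    exact congrArg PrimeSpectrum.asIdeal h1
  refine ⟨B ⧸ 𝔮, inferInstance, inferInstance, gam, ?_, fun v hv hu => ?_, (U : Scheme.{u}), U.ι ≫ f, N, iN, hN,
    Spec.map (CommRingCat.ofHom (Ideal.Quotient.mk 𝔮)) ≫ hP.fromSpec ≫ pullback.snd _ _, ?_, he⟩
  · rw [injective_iff_map_eq_zero]
    intro v hv
    by_contra hv0
    letI := gam₀.hom.toAlgebra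
    haveI : Module.Flat V B := hγflat
    have hreg : gam₀.hom v ∈ nonZeroDivisors B := by
      rw [mem_nonZeroDivisors_iff_right]
      intro x hx
      have : IsSMulRegular B v := ((IsSMulRegular.of_ne_zero hv0 : IsSMulRegular V v)).of_flat
      exact this (show v • x = v • 0 by rw [smul_zero, Algebra.smul_def, mul_comm]; exact hx)
    exact notMem_nonZeroDivisors_of_mem_mem_minimalPrimes
      (Ideal.Quotient.eq_zero_iff_mem.mp hv) h𝔮 hreg
  · have hm : gam₀.hom v ∈ pz := by
      show v ∈ pz.comap gam₀.hom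
      rw [hclosed]
      exact hv
    have : gam v ∈ pz.map (Ideal.Quotient.mk 𝔮) := Ideal.mem_map_of_mem _ hm
    have htop := Ideal.eq_top_of_isUnit_mem _ this hu
    have h2 := congrArg (Ideal.comap (Ideal.Quotient.mk 𝔮)) htop
    rw [Ideal.comap_map_of_surjective _ Ideal.Quotient.mk_surjective, Ideal.comap_top, ← RingHom.ker_eq_comap_bot,
      Ideal.mk_ker, sup_eq_left.mpr h𝔮z] at h2
    exact (hP.primeIdealOf ⟨z, hzP⟩).2.ne_top h2
  · rw [Category.assoc, Category.assoc, ← pullback.condition]
    show _ = Spec.map (CommRingCat.ofHom ((Ideal.Quotient.mk 𝔮).comp gam₀.hom)) ≫ β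
    rw [CommRingCat.ofHom_comp, CommRingCat.ofHom_hom, Spec.map_comp, hgam₀]
    simp only [Category.assoc]
    rfl

section Universal

variable {M : Type} [AddCommGroup M] {R : Type u} [CommRing R] (β : Spec (CommRingCat.of R) ⟶ S)

variable (M) in
/-- The universal point over the algebra `T`. -/
def upt (T : Type u) [CommRing T] [Algebra R T] :
    sp β (MonoidAlgebra T (Multiplicative M)) ⟶ Red.DS S M :=
  DSPtsLib.pt (str β (MonoidAlgebra T (Multiplicative M))) (univPt T (AddMonoidHom.id M))

/-- The map of monoid algebras induced by an algebra map. -/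
def mapA {T T' : Type u} [CommRing T] [Algebra R T] [CommRing T'] [Algebra R T'] (ψ : T →ₐ[R] T') :
    MonoidAlgebra T (Multiplicative M) →ₐ[R] MonoidAlgebra T' (Multiplicative M) :=
  { MonoidAlgebra.mapRingHom (Multiplicative M) ψ.toRingHom with
    commutes' := fun r => by simp [MonoidAlgebra.coe_algebraMap, ψ.commutes] }

theorem mapA_apply {T T' : Type u} [CommRing T] [Algebra R T] [CommRing T'] [Algebra R T'] (ψ : T →ₐ[R] T')
    (x : MonoidAlgebra T (Multiplicative M)) :
    mapA ψ x = MonoidAlgebra.mapRingHom (Multiplicative M) ψ.toRingHom x := rfl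

theorem spm_upt {T T' : Type u} [CommRing T] [Algebra R T] [CommRing T'] [Algebra R T'] (ψ : T →ₐ[R] T') :
    spm β (mapA ψ) ≫ upt M β T = upt M β T' := by
  have hj : Spec.map (CommRingCat.ofHom (mapA (M := M) ψ).toRingHom) ≫ str β (MonoidAlgebra T (Multiplicative M)) =
      str β (MonoidAlgebra T' (Multiplicative M)) := by
    rw [← Spec.map_comp_assoc, ← CommRingCat.ofHom_comp]
    congr 3
    exact (mapA ψ).comp_algebraMap
  refine (DSPtsLib.pt_comp (str β (MonoidAlgebra T (Multiplicative M))) _ (mapA (M := M) ψ).toRingHom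
    (str β (MonoidAlgebra T' (Multiplicative M))) hj).trans ?_
  · congr 1
    refine coord_ext fun m => ?_
    rw [RingHom.comp_apply, univPt_single, univPt_single]
    show MonoidAlgebra.mapRingHom (Multiplicative M) ψ.toRingHom _ = _
    rw [MonoidAlgebra.mapRingHom_single, map_one]

end Universal

/-- Coefficients in the image of a ring map. -/
theorem mem_range_mapRingHom {T T' : Type u} [CommRing T] [CommRing T'] (g : T →+* T') {C : Type*} [CommMonoid C]
    (x : MonoidAlgebra T' C) (h : ∀ c, x.coeff c ∈ g.range) : x ∈ (MonoidAlgebra.mapRingHom C g).range := by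
  classical
  rw [← MonoidAlgebra.sum_single x]
  refine Subring.sum_mem _ fun c _ => ?_
  obtain ⟨t, ht⟩ := h c
  exact ⟨MonoidAlgebra.single c t, by rw [MonoidAlgebra.mapRingHom_single, ht]⟩

section Generic

variable {M : Type} [AddCommGroup M] {G : Over S} [GrpObj G] {R K : Type u} [CommRing R] [Field K] [Algebra R K]
  (β : Spec (CommRingCat.of R) ⟶ S)
  (lam : Red.bc (Spec.map (CommRingCat.ofHom (algebraMap R K)) ≫ β) (Red.DS S M) ⟶
    Red.bc (Spec.map (CommRingCat.ofHom (algebraMap R K)) ≫ β) G)

/-- The action of a homomorphism at a point on points of `D(M)` over that point. -/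
def act {T : Scheme.{u}} {g : T ⟶ S} (l : Red.bc g (Red.DS S M) ⟶ Red.bc g G) {Y : Over T}
    (y : (Over.map g).obj Y ⟶ Red.DS S M) : (Over.map g).obj Y ⟶ G :=
  DSPtsLib.theta g (((Over.mapPullbackAdj g).homEquiv Y (Red.DS S M)) y ≫ l)

theorem act_comp {T : Scheme.{u}} {g : T ⟶ S} (l : Red.bc g (Red.DS S M) ⟶ Red.bc g G) {Y Y' : Over T} (h : Y' ⟶ Y)
    (y : (Over.map g).obj Y ⟶ Red.DS S M) : act l ((Over.map g).map h ≫ y) = (Over.map g).map h ≫ act l y := by
  rw [act, act, Adjunction.homEquiv_naturality_left, Category.assoc, DSPtsLib.theta_comp]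

theorem act_mul {T : Scheme.{u}} {g : T ⟶ S} (l : Red.bc g (Red.DS S M) ⟶ Red.bc g G) [IsMonHom l] {Y : Over T}
    (y y' : (Over.map g).obj Y ⟶ Red.DS S M) : act l (y * y') = act l y * act l y' := by
  rw [act, act, act, ← DSPtsLib.theta_mul, ← MonObj.mul_comp _ _ l]
  congr 2
  apply (DSPtsLib.theta_bijective g).1
  rw [DSPtsLib.theta_mul]
  simp only [DSPtsLib.theta, Equiv.symm_apply_apply]

/-- A point over `K` as a point over the base. -/
def toK (T : Type u) [CommRing T] [Algebra R T] [Algebra K T] [IsScalarTower R K T] :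
    sp β T ≅ (Over.map (Spec.map (CommRingCat.ofHom (algebraMap R K)) ≫ β)).obj
      (Over.mk (Spec.map (CommRingCat.ofHom (algebraMap K T)))) :=
  Over.isoMk (Iso.refl _) (by
    show 𝟙 _ ≫ Spec.map _ ≫ _ ≫ β = _
    rw [Category.id_comp, ← Spec.map_comp_assoc, ← CommRingCat.ofHom_comp, ← IsScalarTower.algebraMap_eq]
    rfl)

/-- The effect of `lam` on points over `K`. -/
def actK {T : Type u} [CommRing T] [Algebra R T] [Algebra K T] [IsScalarTower R K T]
    (y : sp β T ⟶ Red.DS S M) : sp β T ⟶ G :=
  (toK β T).hom ≫ act lam ((toK β T).inv ≫ y)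

theorem actK_comp {T T' : Type u} [CommRing T] [Algebra R T] [Algebra K T] [IsScalarTower R K T] [CommRing T']
    [Algebra R T'] [Algebra K T'] [IsScalarTower R K T'] (ψ : T →ₐ[R] T')
    (hψ : ∀ k, ψ (algebraMap K T k) = algebraMap K T' k) (y : sp β T ⟶ Red.DS S M) :
    actK β lam (spm β ψ ≫ y) = spm β ψ ≫ actK β lam y := by
  let h : Over.mk (Spec.map (CommRingCat.ofHom (algebraMap K T'))) ⟶ Over.mk (Spec.map (CommRingCat.ofHom (algebraMap K T))) :=
    Over.homMk (Spec.map (CommRingCat.ofHom ψ.toRingHom)) (by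
      show Spec.map _ ≫ Spec.map _ = Spec.map _
      rw [← Spec.map_comp, ← CommRingCat.ofHom_comp]
      congr 2
      exact RingHom.ext hψ)
  have e1 : spm β ψ ≫ (toK β T).hom = (toK β T').hom ≫ (Over.map _).map h :=
    Over.OverMorphism.ext ((Category.comp_id _).trans (Category.id_comp _).symm)
  have e2 : (toK β T').inv ≫ spm β ψ = (Over.map _).map h ≫ (toK β T).inv :=
    Over.OverMorphism.ext ((Category.id_comp _).trans (Category.comp_id _).symm)
  unfold actK
  rw [← Category.assoc (toK β T').inv, e2, Category.assoc, act_comp, ← Category.assoc, ← e1, Category.assoc]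

theorem actK_mul [IsMonHom lam] {T : Type u} [CommRing T] [Algebra R T] [Algebra K T] [IsScalarTower R K T]
    (y y' : sp β T ⟶ Red.DS S M) : actK β lam (y * y') = actK β lam y * actK β lam y' := by
  unfold actK
  rw [MonObj.comp_mul, act_mul, MonObj.comp_mul]

/-- Where the group splits over a domain with fraction field `L ⊇ K`, the value at the universal point is defined over
the domain. -/
theorem exists_point_dominating [IsMonHom lam] {W : Type u} [CommRing W] [IsDomain W] [Algebra R W]
    {L : Type u} [Field L] [Algebra W L] [Algebra R L] [Algebra K L] [IsScalarTower R W L] [IsScalarTower R K L]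
    {U : Scheme.{u}} (gU : U ⟶ S) {N : Type} [AddCommGroup N] [AddGroup.FG N]
    (e : Grp.mk (Red.bc gU G) ≅ Grp.mk (Red.DS U N)) (jR : Spec (CommRingCat.of W) ⟶ U)
    (hjR : jR ≫ gU = Spec.map (CommRingCat.ofHom (algebraMap R W)) ≫ β) :
    ∃ xW : sp β (MonoidAlgebra W (Multiplicative M)) ⟶ G,
      spm β (mapA (M := M) (IsScalarTower.toAlgHom R W L)) ≫ xW = actK β lam (upt M β L) := by
  classical
  let βW := Spec.map (CommRingCat.ofHom (algebraMap R W)) ≫ β
  obtain ⟨χ, hnat, hmul, hbij⟩ := SubgroupFactor.exists_char gU e jR hjR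
  -- points over `W` as points over `R`
  let cst : ∀ (T : Type u) [CommRing T] [Algebra W T] [Algebra R T] [IsScalarTower R W T], sp β T ≅ sp βW T :=
    fun T _ _ _ _ => Over.isoMk (Iso.refl _) (by
      show 𝟙 _ ≫ Spec.map _ ≫ Spec.map _ ≫ β = Spec.map _ ≫ β
      rw [Category.id_comp, ← Spec.map_comp_assoc, ← CommRingCat.ofHom_comp, ← IsScalarTower.algebraMap_eq])
  have hcst : ∀ {T T' : Type u} [CommRing T] [Algebra W T] [Algebra R T] [IsScalarTower R W T] [CommRing T']
      [Algebra W T'] [Algebra R T'] [IsScalarTower R W T'] (ψ : T →ₐ[R] T') (ψ' : T →ₐ[W] T'),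
      (∀ x, ψ x = ψ' x) → spm β ψ ≫ (cst T).hom = (cst T').hom ≫ spm βW ψ' := by
    intro T T' _ _ _ _ _ _ _ _ ψ ψ' h
    refine Over.OverMorphism.ext ((Category.comp_id _).trans (Eq.trans ?_ (Category.id_comp _).symm))
    show Spec.map _ = Spec.map _
    congr 2
    exact RingHom.ext h
  let A1 := MonoidAlgebra L (Multiplicative M)
  let A2 := MonoidAlgebra L (Multiplicative M × Multiplicative M)
  obtain ⟨c, hc⟩ := (hbij A1).2 ((cst A1).inv ≫ actK β lam (upt M β L))
  let v : Multiplicative N →* A1 := (c : CoordM.{u} N →* A1).comp (MonoidAlgebra.of _ _)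
  -- the three maps to `A2`
  let dom : (Multiplicative M →* Multiplicative M × Multiplicative M) → (A1 →ₐ[L] A2) := fun g =>
    MonoidAlgebra.mapDomainAlgHom L L g
  have hkey : ∀ g, (cst A2).hom ≫ χ A2 ((dom g).toRingHom.comp c) =
      actK β lam (spm β ((dom g).restrictScalars R) ≫ upt M β L) := by
    intro g
    have hn : χ A2 ((dom g).toRingHom.comp c) = spm βW ((dom g).restrictScalars W) ≫ χ A1 c :=
      (hnat ((dom g).restrictScalars W) c).symm
    rw [actK_comp β lam ((dom g).restrictScalars R) (fun k => by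
        rw [IsScalarTower.algebraMap_apply K L A1, IsScalarTower.algebraMap_apply K L A2]
        exact (dom g).commutes _),
      hn, hc, ← Category.assoc,
      ← hcst ((dom g).restrictScalars R) ((dom g).restrictScalars W) (fun _ => rfl), Category.assoc,
      Iso.hom_inv_id_assoc]
  have hgl : ∀ n, MonoidAlgebra.mapDomainRingHom L (MonoidHom.inl (Multiplicative M) (Multiplicative M)) (v n) *
        MonoidAlgebra.mapDomainRingHom L (MonoidHom.inr (Multiplicative M) (Multiplicative M)) (v n) =
      MonoidAlgebra.mapDomainRingHom L ((MonoidHom.id (Multiplicative M)).prod (MonoidHom.id _)) (v n) := by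
    intro n
    let g1 := MonoidHom.inl (Multiplicative M) (Multiplicative M)
    let g2 := MonoidHom.inr (Multiplicative M) (Multiplicative M)
    let g3 := (MonoidHom.id (Multiplicative M)).prod (MonoidHom.id (Multiplicative M))
    let d : CoordM.{u} N →+* A2 := HomMonoLocus.charOf (R := L)
      ((((dom g1).toRingHom.comp c : CoordM.{u} N →* A2).comp (MonoidAlgebra.of _ _)) *
        (((dom g2).toRingHom.comp c : CoordM.{u} N →* A2).comp (MonoidAlgebra.of _ _)))
    have hd : ∀ m, d (MonoidAlgebra.single m 1) =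
        (dom g1).toRingHom.comp c (MonoidAlgebra.single m 1) * (dom g2).toRingHom.comp c (MonoidAlgebra.single m 1) :=
      fun m => HomMonoLocus.charOf_single (R := L) _ m
    have hu : upt M β L = DSPtsLib.pt (str β A1) (univPt L (AddMonoidHom.id M)) := rfl
    have hsum : spm β ((dom g1).restrictScalars R) ≫ upt M β L * spm β ((dom g2).restrictScalars R) ≫ upt M β L =
        spm β ((dom g3).restrictScalars R) ≫ upt M β L := by
      have hj : ∀ g, Spec.map (CommRingCat.ofHom ((dom g).restrictScalars R).toRingHom) ≫ str β A1 = str β A2 :=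
        fun g => by
        rw [← Spec.map_comp_assoc, ← CommRingCat.ofHom_comp]
        congr 3
        exact ((dom g).restrictScalars R).comp_algebraMap
      have hp : ∀ g, spm β ((dom g).restrictScalars R) ≫ upt M β L =
          DSPtsLib.pt (str β A2) (((dom g).restrictScalars R).toRingHom.comp (univPt L (AddMonoidHom.id M))) :=
        fun g => DSPtsLib.pt_comp _ _ _ _ (hj g)
      rw [hp, hp, hp]
      refine DSPtsLib.pt_mul _ _ _ _ fun m => ?_
      show dom g3 (univPt L (AddMonoidHom.id M) (MonoidAlgebra.single m 1)) =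
        dom g1 (univPt L (AddMonoidHom.id M) (MonoidAlgebra.single m 1)) *
          dom g2 (univPt L (AddMonoidHom.id M) (MonoidAlgebra.single m 1))
      rw [univPt_single]
      show MonoidAlgebra.mapDomain g3 (MonoidAlgebra.single m (1 : L)) =
        MonoidAlgebra.mapDomain g1 (MonoidAlgebra.single m (1 : L)) * MonoidAlgebra.mapDomain g2 (MonoidAlgebra.single m (1 : L))
      rw [MonoidAlgebra.mapDomain_single, MonoidAlgebra.mapDomain_single, MonoidAlgebra.mapDomain_single,
        MonoidAlgebra.single_mul_single, _root_.mul_one]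
      simp [g1, g2, g3]
    have h1 : χ A2 d = χ A2 ((dom g3).toRingHom.comp c) := by
      rw [← hmul _ _ _ hd, ← cancel_epi (cst A2).hom, MonObj.comp_mul, hkey, hkey, hkey, ← actK_mul, hsum]
    have h2 := congrArg (fun z : CoordM.{u} N →+* A2 => z (MonoidAlgebra.single n 1)) ((hbij A2).1 h1)
    rw [hd] at h2
    exact h2
  obtain ⟨φ, hφ⟩ := SubgroupFactor.exists_monomial v hgl
  let cW : CoordM.{u} N →+* MonoidAlgebra W (Multiplicative M) := univPt W φ
  refine ⟨(cst _).hom ≫ χ _ cW, ?_⟩
  let ψ : MonoidAlgebra W (Multiplicative M) →ₐ[W] A1 :=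
    { MonoidAlgebra.mapRingHom (Multiplicative M) (algebraMap W L) with
      commutes' := fun w => by simp [MonoidAlgebra.coe_algebraMap, A1] }
  have hψ : ∀ x, mapA (IsScalarTower.toAlgHom R W L) x = ψ x := fun x => rfl
  have hcW : ψ.toRingHom.comp cW = c := coord_ext fun m => by
    rw [RingHom.comp_apply, univPt_single]
    show MonoidAlgebra.mapRingHom (Multiplicative M) (algebraMap W L) _ = v m
    rw [MonoidAlgebra.mapRingHom_single, map_one, hφ]
  rw [← Category.assoc, hcst _ ψ hψ, Category.assoc, hnat ψ cW, hcW, hc, Iso.hom_inv_id_assoc]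

/-- The value at the universal point is defined over the integrally closed ring. -/
theorem exists_point_normal [IsMonHom lam] [IsDomain R] [IsIntegrallyClosed R] [IsFractionRing R K]
    (hG : SGA3x.IsMultTypeFT G) :
    ∃ x : sp β (MonoidAlgebra R (Multiplicative M)) ⟶ G,
      spm β (mapA (M := M) (Algebra.ofId R K)) ≫ x = actK β lam (upt M β K) := by
  classical
  haveI := isAffineHom_of_isMultTypeFT hG
  haveI : IsAffine (pullback G.hom β) := by
    haveI : IsAffineHom (pullback.snd G.hom β) :=
      MorphismProperty.of_isPullback (P := @IsAffineHom) (IsPullback.of_hasPullback G.hom β) ‹_›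
    exact isAffine_of_isAffineHom (pullback.snd G.hom β)
  let Gb := pullback G.hom β
  let A := Γ(Gb, ⊤)
  let pb : ∀ (T : Type u) [CommRing T] [Algebra R T], (sp β T ⟶ G) → (Spec (CommRingCat.of T) ⟶ Gb) :=
    fun T _ _ z => pullback.lift z.left (Spec.map (CommRingCat.ofHom (algebraMap R T))) (Over.w z)
  let hom : ∀ (T : Type u) [CommRing T] [Algebra R T], (sp β T ⟶ G) → (A ⟶ CommRingCat.of T) :=
    fun T _ _ z => Spec.preimage (pb T z ≫ Gb.isoSpec.hom)
  have hhom : ∀ {T T' : Type u} [CommRing T] [Algebra R T] [CommRing T'] [Algebra R T'] (ψ : T →ₐ[R] T')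
      (z : sp β T ⟶ G), hom T' (spm β ψ ≫ z) = hom T z ≫ CommRingCat.ofHom ψ.toRingHom := by
    intro T T' _ _ _ _ ψ z
    apply Spec.map_injective
    have e : pb T' (spm β ψ ≫ z) = Spec.map (CommRingCat.ofHom ψ.toRingHom) ≫ pb T z := by
      refine pullback.hom_ext ?_ ?_
      · rw [Category.assoc, pullback.lift_fst, pullback.lift_fst]
        rfl
      · rw [Category.assoc, pullback.lift_snd, pullback.lift_snd, ← Spec.map_comp, ← CommRingCat.ofHom_comp]
        congr 2
        exact ψ.comp_algebraMap.symm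
    rw [Spec.map_comp, Spec.map_preimage, Spec.map_preimage, e, Category.assoc]
  let AK := MonoidAlgebra K (Multiplicative M)
  let z := actK β lam (upt M β K)
  let φ : A ⟶ CommRingCat.of AK := hom AK z
  let AR := MonoidAlgebra R (Multiplicative M)
  let inc : AR →+* AK := MonoidAlgebra.mapRingHom (Multiplicative M) (algebraMap R K)
  have hinc : Function.Injective inc := fun a b h => MonoidAlgebra.ext (Finsupp.ext fun c =>
    IsFractionRing.injective R K (by
      have h' := congrArg (fun y : AK => y.coeff c) h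
      exact ((MonoidAlgebra.coeff_mapRingHom (algebraMap R K) a c).symm.trans h').trans
        (MonoidAlgebra.coeff_mapRingHom (algebraMap R K) b c)))
  -- coefficients lie in every valuation ring above `R`
  have hval : ∀ (a : A) (c : Multiplicative M), (φ a).coeff c ∈ (algebraMap R K).range := by
    intro a c
    haveI : IsIntegrallyClosedIn (algebraMap R K).range K := by
      rw [isIntegrallyClosedIn_iff]
      refine ⟨Subtype.val_injective, fun {x} hx => ?_⟩
      obtain ⟨p, hp, hpx⟩ := hx
      have hl : p.map (algebraMap (algebraMap R K).range K) ∈ Polynomial.lifts (algebraMap R K) :=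
        (Polynomial.lifts_iff_coeff_lifts _).mpr fun n => by
          rw [Polynomial.coeff_map]
          exact (p.coeff n).2
      obtain ⟨q, hq, -, hqm⟩ := Polynomial.lifts_and_natDegree_eq_and_monic hl (hp.map _)
      have hxR : IsIntegral R x := ⟨q, hqm, by
        rw [Polynomial.eval₂_eq_eval_map, hq, ← Polynomial.eval₂_eq_eval_map]
        exact hpx⟩
      obtain ⟨y, hy⟩ := IsIntegrallyClosed.isIntegral_iff.mp hxR
      exact ⟨⟨x, y, hy⟩, rfl⟩
    rw [Subring.eq_iInf_of_isIntegrallyClosedIn (R := (algebraMap R K).range), Subring.mem_iInf]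
    rintro ⟨V, hRV⟩
    by_contra hV
    have hinv : ((φ a).coeff c)⁻¹ ∈ V := (V.mem_or_inv_mem _).resolve_left hV
    letI : Algebra R V := ((algebraMap R K).codRestrict V.toSubring (fun r => hRV ⟨r, rfl⟩)).toAlgebra
    haveI : IsScalarTower R V K := IsScalarTower.of_algebraMap_eq fun r => rfl
    obtain ⟨W, _, _, gam, hgam, hnu, U, gU, N, iN, hN, jR, hjR, ⟨e⟩⟩ :=
      exists_split_dominating hG (Spec.map (CommRingCat.ofHom (algebraMap R V)) ≫ β)
    letI := hN
    letI : Algebra R W := (gam.comp (algebraMap R V)).toAlgebra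
    let L := FractionRing W
    let gamL : V →+* L := (algebraMap W L).comp gam
    have hgamL : Function.Injective gamL := (IsFractionRing.injective W L).comp hgam
    letI : Algebra K L := (IsFractionRing.lift hgamL : K →+* L).toAlgebra
    have hKL : ∀ v : V, algebraMap K L (v : K) = algebraMap W L (gam v) := fun v =>
      IsFractionRing.lift_algebraMap hgamL v
    haveI : IsScalarTower R K L := IsScalarTower.of_algebraMap_eq fun r => by
      rw [IsScalarTower.algebraMap_apply R W L]
      exact (hKL (algebraMap R V r)).symm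
    obtain ⟨xW, hxW⟩ := exists_point_dominating β lam (L := L) gU e jR (by
      rw [hjR, ← Spec.map_comp_assoc, ← CommRingCat.ofHom_comp])
    let toL : K →ₐ[R] L := IsScalarTower.toAlgHom R K L
    have e1 : spm β (mapA (M := M) toL) ≫ z = spm β (mapA (M := M) (IsScalarTower.toAlgHom R W L)) ≫ xW := by
      rw [hxW, ← spm_upt β toL, ← actK_comp β lam _ (fun k => by
        rw [mapA_apply]
        simp [MonoidAlgebra.coe_algebraMap, toL])]
    have e2 := congrArg (fun y => ((hom _ y : A ⟶ CommRingCat.of (MonoidAlgebra L (Multiplicative M))) a).coeff c) e1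
    simp only [hhom] at e2
    have e3 : algebraMap K L ((φ a).coeff c) = algebraMap W L (((hom _ xW) a).coeff c) := by
      simpa [mapA_apply, toL] using e2
    set w := ((hom _ xW) a).coeff c
    have hnu' : ¬ IsUnit (⟨_, hinv⟩ : V) := fun h => hV (by
      obtain ⟨v, hv⟩ := h
      have := congrArg (fun t : V => (t : K)) v.inv_mul
      rw [Subring.coe_mul, hv, Subring.coe_one] at this
      have h2 : ((v⁻¹ : Vˣ) : K) = (φ a).coeff c := eq_of_div_eq_one (by rw [div_eq_mul_inv]; exact this)
      exact h2 ▸ SetLike.coe_mem _)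
    refine hnu _ hnu' (IsUnit.of_mul_eq_one w (IsFractionRing.injective W L ?_))
    have hne : (φ a).coeff c ≠ 0 := fun h => hV (show (φ a).coeff c ∈ V.toSubring by rw [h]; exact V.zero_mem)
    rw [map_mul, map_one, ← e3, ← hKL, ← map_mul, inv_mul_cancel₀ hne, map_one]
  have hφ : ∀ a, φ a ∈ inc.range := fun a => mem_range_mapRingHom _ _ (hval a)
  have hb : Function.Bijective inc.rangeRestrict :=
    ⟨fun x y h => hinc (congrArg Subtype.val h), inc.rangeRestrict_surjective⟩
  let φ₀ : A ⟶ CommRingCat.of AR := CommRingCat.ofHom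
    ((RingEquiv.ofBijective inc.rangeRestrict hb).symm.toRingHom.comp (φ.hom.codRestrict inc.range hφ))
  have hφ₀ : φ₀ ≫ CommRingCat.ofHom inc = φ := by
    refine CommRingCat.hom_ext (RingHom.ext fun a => ?_)
    show (inc.rangeRestrict ((RingEquiv.ofBijective inc.rangeRestrict hb).symm ⟨φ a, hφ a⟩) : AK) = φ a
    exact congrArg Subtype.val (RingEquiv.apply_symm_apply (RingEquiv.ofBijective inc.rangeRestrict hb) _)
  let q : Spec (CommRingCat.of AR) ⟶ Gb := Spec.map φ₀ ≫ Gb.isoSpec.inv
  have hq : Spec.map (CommRingCat.ofHom (mapA (M := M) (Algebra.ofId R K)).toRingHom) ≫ q = pb AK z := by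
    show Spec.map (CommRingCat.ofHom inc) ≫ Spec.map φ₀ ≫ _ = _
    rw [← Spec.map_comp_assoc, hφ₀, Spec.map_preimage, Category.assoc, Iso.hom_inv_id, Category.comp_id]
  have hsnd : q ≫ pullback.snd G.hom β = Spec.map (CommRingCat.ofHom (algebraMap R AR)) := by
    obtain ⟨τ, hτ⟩ : ∃ τ, Spec.map τ = q ≫ pullback.snd G.hom β := ⟨_, Spec.map_preimage _⟩
    rw [← hτ]
    congr 1
    have h2 := congrArg (· ≫ pullback.snd G.hom β) hq
    simp only [Category.assoc, ← hτ, pb, pullback.lift_snd, ← Spec.map_comp] at h2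
    refine CommRingCat.hom_ext (RingHom.ext fun r => hinc ?_)
    exact (congr($(Spec.map_injective h2) r)).trans ((mapA (M := M) (Algebra.ofId R K)).commutes r).symm
  refine ⟨Over.homMk (q ≫ pullback.fst G.hom β) ?_, Over.OverMorphism.ext ?_⟩
  · show (q ≫ _) ≫ G.hom = Spec.map _ ≫ β
    rw [Category.assoc, pullback.condition, ← Category.assoc, hsnd]
  · show Spec.map _ ≫ q ≫ pullback.fst G.hom β = _
    rw [← Category.assoc, hq]
    exact pullback.lift_fst _ _ _

end Generic

end Groth.Agent.Sga3xB

end
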