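import Groth.Agent.Sga3xB.DS
import Groth.Agent.Sga3xB.MultBasic
import Groth.Agent.GrpSchLib.DiagSubgroupTrivial
import Groth.Agent.GrpSchLib.HomKernelIdeal

/-!
# Images of homomorphisms out of diagonalisable groups

`kerAnn u g`: the characters of `D(M)` which are trivial on the kernel of `u` over `g`. Over a field the kernel is
`D(M/kerAnn)`, and near each point `u` is the projection to `D(kerAnn)` followed by a monomorphism.
-/

set_option autoImplicit false
set_option linter.style.haveILetI false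

universe u

open CategoryTheory CategoryTheory.Limits AlgebraicGeometry MonoidalCategory CartesianMonoidalCategory MonObj GrpObj

noncomputable section

namespace Groth.Agent.Sga3xB

open Groth.Agent.Red23Lib.Pinned Groth.Agent.GrpSchLib Groth.Agent.GrpSchLib.RankOne
open HomUnitLocus (Triv)
open HomMonoLocus (Inj)
open HomKernelIdeal (evalChar str)
open DiagSubgroupTrivial (IsSubgroup chg)

variable {S : Scheme.{u}} {M : Type} [AddCommGroup M] {G : Over S} [GrpObj G]

/-- The characters which are trivial on the kernel of `u` over `g`. -/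
def kerAnn (u : Red.DS S M ⟶ G) {T : Scheme.{u}} (g : T ⟶ S) : AddSubgroup M where
  carrier := {m | ∀ (Y : Over S) (_ : Y ⟶ Over.mk g) (y : Y ⟶ Red.DS S M), y ≫ u = 1 → dsCh y m = 1}
  add_mem' := fun {a b} ha hb Y q y hy => by rw [dsCh_add, ha Y q y hy, hb Y q y hy, _root_.one_mul]
  zero_mem' := fun Y q y _ => dsCh_zero y
  neg_mem' := fun {a} ha Y q y hy => by rw [dsCh_neg, ha Y q y hy, inv_one]

theorem kerAnn_comp_le (u : Red.DS S M ⟶ G) {T T' : Scheme.{u}} (g : T ⟶ S) (l : T' ⟶ T) :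
    kerAnn u g ≤ kerAnn u (l ≫ g) :=
  fun _ hm Y q y hy => hm Y (q ≫ Over.homMk l rfl) y hy

theorem kerAnn_iso (u : Red.DS S M ⟶ G) {T T' : Scheme.{u}} (g : T ⟶ S) (l : T' ⟶ T) [IsIso l] :
    kerAnn u (l ≫ g) = kerAnn u g :=
  le_antisymm (by simpa using kerAnn_comp_le u (l ≫ g) (inv l)) (kerAnn_comp_le u g l)

variable {K : Type u} [Field K] (β : Spec (CommRingCat.of K) ⟶ S)

theorem exists_alg {A : CommRingCat.{u}} (b : Spec A ⟶ S) (l : Over.mk b ⟶ Over.mk β) :
    ∃ _ : Algebra K A, b = str β A := by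
  refine ⟨(Spec.preimage l.left).hom.toAlgebra, ?_⟩
  show b = Spec.map (CommRingCat.ofHom (Spec.preimage l.left).hom) ≫ β
  rw [CommRingCat.ofHom_hom, Spec.map_preimage]
  exact (Over.w l).symm

open TensorProduct in
/-- An injective homomorphism of a group into the group-like elements has linearly independent values. -/
theorem linearIndependent_groupLike {F B C : Type*} [Field F] [CommRing B] [Algebra F B] [Nontrivial B] [Group C]
    (Δ : B →ₗ[F] B ⊗[F] B) (g : C →* B) (hg : Function.Injective g) (hΔ : ∀ c, Δ (g c) = g c ⊗ₜ[F] g c) :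
    LinearIndependent F (fun c => g c) := by
  classical
  rw [linearIndependent_iff_finset_linearIndependent]
  intro t
  have h : LinearIndepOn F id ((t.image g : Finset B) : Set B) :=
    DiagSubgroupTrivial.linearIndepOn_of_comul Δ (t.image g)
      (fun x hx => by
        obtain ⟨c, -, rfl⟩ := Finset.mem_image.mp hx
        exact hΔ c)
      (fun x hx => by
        obtain ⟨c, -, rfl⟩ := Finset.mem_image.mp hx
        exact (Group.isUnit c).map g)
      inferInstance
  rw [Finset.coe_image] at h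
  exact h.comp (fun c : t => ⟨g c, Set.mem_image_of_mem g c.2⟩)
    fun a b e => Subtype.ext (hg (congrArg Subtype.val e))

/-- Over a field `u` is trivial on the points with trivial characters in `kerAnn`. -/
theorem triv_kerAnn (u : Red.DS S M ⟶ G) [IsMonHom u] [IsSeparated G.hom] :
    Triv (Red.DSmap S (QuotientAddGroup.mk' (kerAnn u β)) ≫ u) β := by
  classical
  obtain ⟨Kk, k, hk, -, hkp⟩ := HomKernelIdeal.exists_kernel u
  obtain ⟨I, -, hI⟩ := HomKernelIdeal.exists_ideal β u k hkp
  have hI' : ∀ (T : Type u) [CommRing T] [Algebra K T] (f : Multiplicative M →* T),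
      I ≤ RingHom.ker (MonoidAlgebra.lift K T (Multiplicative M) f) ↔
        DSPtsLib.pt (str β T) (HomMonoLocus.charOf (R := K) f) ≫ u = 1 := by
    intro T _ _ f
    rw [hI, HomMonoLocus.evalChar_charOf]
  have hsub : IsSubgroup I := by
    refine ⟨(hI' K 1).mpr ?_, fun T _ _ f g h hh hf hg => (hI' T h).mpr ?_⟩
    · rw [HomMonoLocus.pt_one _ _ (fun m => by rw [HomMonoLocus.charOf_single]; rfl)]
      exact MonObj.one_comp u
    · rw [← DSPtsLib.pt_mul (str β T) (HomMonoLocus.charOf (R := K) f) (HomMonoLocus.charOf (R := K) g)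
          (HomMonoLocus.charOf (R := K) h) (fun m => by
            rw [HomMonoLocus.charOf_single, HomMonoLocus.charOf_single, HomMonoLocus.charOf_single, hh]),
        MonObj.mul_comp _ _ u, (hI' T f).mp hf, (hI' T g).mp hg, _root_.mul_one]
  obtain ⟨B, _, aR, aT, hst, g, hg, hgm, ⟨ε, hε⟩, Δ, hΔ⟩ := DiagSubgroupTrivial.exists_generic hsub K
  obtain rfl : aR = aT :=
    Algebra.algebra_ext _ _ fun r => @IsScalarTower.algebraMap_apply K K B _ _ _ _ aT aR hst r
  haveI : Nontrivial B :=
    ⟨⟨1, 0, fun h => one_ne_zero (α := K) (by simpa using congrArg ε h)⟩⟩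
  -- the characters trivial on the kernel
  have hkerg : g.ker ≤ AddSubgroup.toSubgroup (kerAnn u β) := by
    intro m hm Y q y hy
    refine Units.ext (NatFn.eq_of_val_eq fun A b j => (sval b).injective ?_)
    obtain ⟨f, hf⟩ := DSPtsLib.exists_eq_pt b (j ≫ y)
    refine (sval_dsCh y b j f hf m.toAdd).trans ?_
    rw [Units.val_one, map_one, map_one]
    obtain ⟨ia, rfl⟩ := exists_alg β b (j ≫ q)
    have h0 : DSPtsLib.pt (str β A) f ≫ u = 1 := by
      rw [← hf, Category.assoc, hy, MonObj.comp_one]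
    have h1 : I ≤ RingHom.ker (evalChar (R := K) f) := (hI A f).mp h0
    have h2 : I.map (chg K) ≤ RingHom.ker (evalChar (R := K) f) := by
      rw [Ideal.map_le_iff_le_comap]
      intro a ha
      rw [Ideal.mem_comap, RingHom.mem_ker]
      unfold evalChar
      rw [DiagSubgroupTrivial.lift_chg]
      exact h1 ha
    have h3 := h2 (hgm m hm)
    rw [RingHom.mem_ker, map_sub, map_one, sub_eq_zero, HomKernelIdeal.evalChar_single] at h3
    exact h3
  -- distinct characters stay independent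
  let C := Multiplicative M ⧸ g.ker
  let gbar : C →* B := (Units.coeHom B).comp (QuotientGroup.lift g.ker g.toHomUnits fun m hm => Units.ext hm)
  have hinj : Function.Injective gbar := by
    intro a b
    obtain ⟨a, rfl⟩ := QuotientGroup.mk_surjective a
    obtain ⟨b, rfl⟩ := QuotientGroup.mk_surjective b
    intro (e : g a = g b)
    refine QuotientGroup.eq.mpr ?_
    show g (a⁻¹ * b) = 1
    rw [map_mul, ← e, ← map_mul, inv_mul_cancel, map_one]
  have hind : LinearIndependent K (fun c : C => gbar c) :=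
    linearIndependent_groupLike Δ.toLinearMap gbar hinj (fun c => by
      obtain ⟨m, rfl⟩ := QuotientGroup.mk_surjective c
      exact hΔ m)
  intro Y q y
  refine ext_spec fun A b j => ?_
  obtain ⟨f, hf⟩ := DSPtsLib.exists_eq_pt b (j ≫ y ≫ Red.DSmap S (QuotientAddGroup.mk' (kerAnn u β)))
  rw [MonObj.comp_one, ← Category.assoc y, ← Category.assoc j, hf]
  obtain ⟨ia, rfl⟩ := exists_alg β b (j ≫ q)
  rw [hI A f]
  let χ : Multiplicative M →* A := (f : DSPtsLib.CoordM.{u} M →* A).comp (MonoidAlgebra.of _ _)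
  have hχ : g.ker ≤ χ.ker := by
    intro m hm
    have h := sval_dsCh _ (str β A) j f hf m.toAdd
    rw [dsCh_DSmap, show QuotientAddGroup.mk' (kerAnn u β) m.toAdd = 0 from
      (QuotientAddGroup.eq_zero_iff _).mpr (hkerg hm), dsCh_zero, Units.val_one, map_one, map_one] at h
    exact h.symm
  intro x hx
  rw [RingHom.mem_ker]
  let π := MonoidAlgebra.mapDomainAlgHom K K (QuotientGroup.mk' g.ker)
  have e1 : (MonoidAlgebra.lift K B C gbar).comp π = MonoidAlgebra.lift K B (Multiplicative M) g :=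
    MonoidAlgebra.algHom_ext (fun m => by simp [π, gbar]; rfl) (Subsingleton.elim _ _)
  have e2 : (MonoidAlgebra.lift K A C (QuotientGroup.lift g.ker χ hχ)).comp π = evalChar (R := K) f :=
    MonoidAlgebra.algHom_ext (fun m => by simp [π, χ, evalChar]; rfl) (Subsingleton.elim _ _)
  have h0 : MonoidAlgebra.lift K B C gbar (π x) = 0 := by
    rw [← AlgHom.comp_apply, e1]
    exact RingHom.mem_ker.mp (hg hx)
  have h1 : π x = 0 := by
    rw [MonoidAlgebra.lift_apply] at h0
    refine MonoidAlgebra.ext ?_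
    rw [linearIndependent_iff.mp hind (π x).coeff h0]
    rfl
  rw [← e2, AlgHom.comp_apply, h1, map_zero]

omit [GrpObj G] in
theorem le_kerAnn_of_desc [GrpObj G] {T : Scheme.{u}} {g : T ⟶ S} (L : AddSubgroup M) (h : Red.DS S L ⟶ G)
    (u : Red.DS S M ⟶ G) (hu : Red.DSmap S L.subtype ≫ h = u) (hh : Inj h g) : L ≤ kerAnn u g := by
  intro m hm Y q y hy
  have h1 : (y ≫ Red.DSmap S L.subtype) ≫ h = 1 := by rw [Category.assoc, hu, hy]
  exact (comp_DSmap_eq_one_iff _ _).mp (hh Y q _ h1) ⟨m, hm⟩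

theorem inj_of_le_kerAnn {T : Scheme.{u}} {g : T ⟶ S} (L : AddSubgroup M) (h : Red.DS S L ⟶ G)
    (u : Red.DS S M ⟶ G) (hu : Red.DSmap S L.subtype ≫ h = u) (hL : L ≤ kerAnn u g) : Inj h g := by
  intro Y q y hy
  let p := Red.DSmap S L.subtype
  let Z : Over S := Over.mk (pullback.fst y.left p.left ≫ Y.hom)
  let c₁ : Z ⟶ Y := Over.homMk (pullback.fst y.left p.left) rfl
  let c₂ : Z ⟶ Red.DS S M := Over.homMk (pullback.snd y.left p.left) (by
    show pullback.snd y.left p.left ≫ (Red.DS S M).hom = pullback.fst y.left p.left ≫ Y.hom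
    rw [← Over.w p, ← Over.w y, ← Category.assoc, ← Category.assoc, pullback.condition])
  have hc : c₁ ≫ y = c₂ ≫ p := Over.OverMorphism.ext pullback.condition
  haveI : Epi c₁ := ((covers_DSmap (S := S) _ L.subtype_injective).pullback y.left c₁.left (pullback.snd y.left p.left)
    (IsPullback.of_hasPullback y.left p.left)).over_epi
  have h2 : c₂ ≫ u = 1 := by
    rw [← hu, ← Category.assoc, ← hc, Category.assoc, hy, MonObj.comp_one]
  rw [← cancel_epi c₁, hc, MonObj.comp_one]
  exact (comp_DSmap_eq_one_iff _ _).mpr fun m => hL m.2 Z (c₁ ≫ q) c₂ h2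

/-- If `u` factors through `D(L)`, over a field only characters in `L` are trivial on the kernel. -/
theorem kerAnn_le_of_desc (L : AddSubgroup M) (h : Red.DS S L ⟶ G) [IsMonHom h]
    (u : Red.DS S M ⟶ G) (hu : Red.DSmap S L.subtype ≫ h = u) {F : Type u} [Field F]
    (b : Spec (CommRingCat.of F) ⟶ S) : kerAnn u b ≤ L := by
  intro m hm
  let C := Multiplicative (M ⧸ L)
  let A := MonoidAlgebra F C
  let bA : Spec (CommRingCat.of A) ⟶ S := Spec.map (CommRingCat.ofHom (algebraMap F A)) ≫ b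
  let χ : Multiplicative (M ⧸ L) →* (Γ((Over.mk bA).left, ⊤))ˣ :=
    (Units.map (sval bA).symm.toMonoidHom).comp (MonoidAlgebra.of F C).toHomUnits
  let y : Over.mk bA ⟶ Red.DS S M := ofCh χ ≫ Red.DSmap S (QuotientAddGroup.mk' L)
  have h1 : y ≫ u = 1 := by
    rw [← hu, ← Category.assoc]
    have : y ≫ Red.DSmap S L.subtype = 1 := (comp_DSmap_eq_one_iff _ _).mpr fun l => by
      rw [dsCh_DSmap, show QuotientAddGroup.mk' L (L.subtype l) = 0 from (QuotientAddGroup.eq_zero_iff _).mpr l.2,
        dsCh_zero]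
    rw [this]
    exact MonObj.one_comp h
  have h2 := congrArg Units.val (hm (Over.mk bA) (Over.homMk (Spec.map (CommRingCat.ofHom (algebraMap F A))) rfl) y h1)
  rw [dsCh_DSmap, dsCh_ofCh] at h2
  have h3 : (MonoidAlgebra.single (Multiplicative.ofAdd (QuotientAddGroup.mk' L m)) 1 : A) =
      MonoidAlgebra.single (1 : C) 1 := (sval bA).symm.injective (h2.trans (map_one (sval bA).symm).symm)
  exact (QuotientAddGroup.eq_zero_iff m).mp (congrArg Multiplicative.toAdd (MonoidAlgebra.single_left_injective one_ne_zero h3))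

/-- The restriction of `u` to `U`. -/
def restrict (u : Red.DS S M ⟶ G) {U : Scheme.{u}} (t : U ⟶ S) : Red.DS U M ⟶ Red.bc t G :=
  bcInv t M ≫ (Over.pullback t).map u

theorem isMonHom_restrict (u : Red.DS S M ⟶ G) [IsMonHom u] {U : Scheme.{u}} (t : U ⟶ S) :
    IsMonHom (restrict u t) := by
  haveI := isMonHom_bcInv (S := S) (M := M) t
  unfold restrict
  infer_instance

theorem DSmap_restrict {N : Type} [AddCommGroup N] (φ : M →+ N) (u : Red.DS S M ⟶ G) {U : Scheme.{u}} (t : U ⟶ S) :
    Red.DSmap U φ ≫ restrict u t = restrict (Red.DSmap S φ ≫ u) t := by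
  unfold restrict
  have key : bcInv t N ≫ (Over.pullback t).map (Red.DSmap S φ) = Red.DSmap U φ ≫ bcInv t M := by
    rw [← Category.comp_id ((Over.pullback t).map (Red.DSmap S φ)), ← bcHom_bcInv t (M := M),
      ← Category.assoc ((Over.pullback t).map (Red.DSmap S φ)), map_DSmap_bcHom, Category.assoc,
      bcInv_bcHom_assoc]
  rw [Functor.map_comp, ← Category.assoc (bcInv t N), key, Category.assoc]

theorem kerAnn_restrict (u : Red.DS S M ⟶ G) {U : Scheme.{u}} (t : U ⟶ S) {T : Scheme.{u}} (g : T ⟶ U) :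
    kerAnn (restrict u t) g = kerAnn u (g ≫ t) := by
  ext m
  constructor
  · intro hm Y q y hy
    let Y' : Over U := Over.mk (q.left ≫ g)
    have hY : Y.hom = Y'.hom ≫ t := by
      rw [show Y'.hom ≫ t = (q.left ≫ g) ≫ t from rfl, Category.assoc]
      exact (Over.w q).symm
    let e : Y ⟶ (Over.map t).obj Y' := Over.homMk (𝟙 _) (by
      show 𝟙 _ ≫ Y'.hom ≫ t = Y.hom
      rw [Category.id_comp, hY])
    let e' : (Over.map t).obj Y' ⟶ Y := Over.homMk (𝟙 _) (by
      show 𝟙 _ ≫ Y.hom = Y'.hom ≫ t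
      rw [Category.id_comp, hY])
    obtain ⟨a, ha⟩ := (DSPtsLib.theta_bijective t).2 (e' ≫ y)
    have h1 : (a ≫ bcHom t M) ≫ restrict u t = 1 := by
      rw [restrict, Category.assoc, bcHom_bcInv_assoc]
      apply (DSPtsLib.theta_bijective t).1
      rw [HomUnitLocus.theta_comp_map, ha, Category.assoc, hy, MonObj.comp_one, HomUnitLocus.theta_one]
    have h2 := hm Y' (Over.homMk q.left rfl) _ h1
    rw [dsCh_bcHom, ha] at h2
    have h3 : e ≫ e' = 𝟙 Y := Over.OverMorphism.ext (Category.comp_id _)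
    have h4 := dsCh_comp' e (e' ≫ y) m
    rw [← Category.assoc, h3, Category.id_comp] at h4
    rw [h4]
    exact (congrArg _ h2).trans (map_one _)
  · intro hm Y q y hy
    have h1 : DSPtsLib.theta t (y ≫ bcInv t M) ≫ u = 1 := by
      rw [← HomUnitLocus.theta_comp_map, Category.assoc]
      show DSPtsLib.theta t (y ≫ restrict u t) = 1
      rw [hy, HomUnitLocus.theta_one]
    have h2 := hm ((Over.map t).obj Y) ((Over.map t).map q ≫ Over.homMk (𝟙 _) (Category.id_comp _)) _ h1
    rw [← dsCh_bcHom, Category.assoc, bcInv_bcHom, Category.comp_id] at h2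
    exact h2

omit [GrpObj G] in
theorem inj_congr {H : Over S} [GrpObj H] [GrpObj G] {h : H ⟶ G} {T : Scheme.{u}} {g g' : T ⟶ S} (e : g = g')
    (hh : Inj h g) : Inj h g' := e ▸ hh

theorem kerAnn_congr (u : Red.DS S M ⟶ G) {T : Scheme.{u}} {g g' : T ⟶ S} (e : g = g') : kerAnn u g = kerAnn u g' :=
  e ▸ rfl

theorem kerAnn_residue (u : Red.DS S M ⟶ G) {U : Scheme.{u}} (t : U ⟶ S) [IsOpenImmersion t] (x : U) :
    kerAnn (restrict u t) (U.fromSpecResidueField x) = kerAnn u (S.fromSpecResidueField (t x)) := by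
  rw [kerAnn_restrict, kerAnn_congr u (Scheme.Hom.SpecMap_residueFieldMap_fromSpecResidueField t x).symm,
    kerAnn_iso]

theorem mono_of_inj {H : Over S} [GrpObj H] (h : H ⟶ G) [IsMonHom h] (hh : Inj h (𝟙 S)) : Mono h := by
  refine ⟨fun {Y} a b hab => ?_⟩
  refine inv_mul_eq_one.mp (hh Y (Over.homMk Y.hom (Category.comp_id _)) (a⁻¹ * b) ?_)
  rw [MonObj.mul_comp _ _ h, GrpObj.inv_comp _ h, hab, inv_mul_cancel]

theorem inj_id_of_top {H : Over S} [GrpObj H] {h : H ⟶ G} {W : S.Opens} (hh : Inj h W.ι) (hW : W = ⊤) :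
    Inj h (𝟙 S) := by
  subst hW
  refine inj_congr ?_ (hh.comp S.topIso.inv)
  rw [← Scheme.topIso_hom, Iso.inv_hom_id]

theorem isMultTypeFT_DS (S : Scheme.{u}) (M : Type) [AddCommGroup M] [AddGroup.FG M] :
    SGA3x.IsMultTypeFT (Red.DS S M) :=
  ⟨S, 𝟙 S, inferInstance, inferInstance,
    fun V hV => ⟨V, hV.isCompact, by simp⟩,
    fun _ => ⟨⊤, trivial, M, inferInstance, inferInstance, ⟨bcGrpIso ((⊤ : S.Opens).ι ≫ 𝟙 S) M⟩⟩⟩

omit [GrpObj G] in
theorem isSeparated_bc (G : Over S) [IsSeparated G.hom] {U : Scheme.{u}} (t : U ⟶ S) : IsSeparated (Red.bc t G).hom :=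
  MorphismProperty.of_isPullback (P := @IsSeparated) (IsPullback.of_hasPullback G.hom t) ‹_›

theorem addGroupFG_quotient [AddGroup.FG M] (L : AddSubgroup M) : AddGroup.FG (M ⧸ L) :=
  AddGroup.fg_of_surjective (f := QuotientAddGroup.mk' L) (QuotientAddGroup.mk'_surjective L)

theorem addGroupFG_subgroup [AddGroup.FG M] (L : AddSubgroup M) : AddGroup.FG L := by
  haveI : Module.Finite ℤ M := Module.Finite.iff_addGroup_fg.mpr inferInstance
  haveI : Module.Finite ℤ L :=
    inferInstanceAs (Module.Finite ℤ (AddSubgroup.toIntSubmodule L))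
  exact Module.Finite.iff_addGroup_fg.mp inferInstance

/-- Near each point, a homomorphism out of a diagonalisable group is the projection to a smaller one followed by a
monomorphism, on an open and closed set. -/
theorem exists_clopen_image [AddGroup.FG M] [IsSeparated G.hom] [LocallyOfFiniteType G.hom]
    (u : Red.DS S M ⟶ G) [IsMonHom u] (s : S) :
    ∃ V : S.Opens, s ∈ V ∧ IsClosed (V : Set S) ∧ ∃ (L : AddSubgroup M) (h : Red.DS V L ⟶ Red.bc V.ι G),
      IsMonHom h ∧ Mono h ∧ Red.DSmap V L.subtype ≫ h = restrict u V.ι := by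
  let ann : S → AddSubgroup M := fun s => kerAnn u (S.fromSpecResidueField s)
  have hclop : ∀ L : AddSubgroup M, ∃ U : S.Opens, IsClosed (U : Set S) ∧ (∀ s, ann s = L → s ∈ U) ∧
      ∃ h : Red.DS U L ⟶ Red.bc U.ι G, IsMonHom h ∧ Red.DSmap U L.subtype ≫ h = restrict u U.ι := by
    intro L
    haveI := isMonHom_DSmap (S := S) (QuotientAddGroup.mk' L)
    haveI := addGroupFG_quotient L
    obtain ⟨U, hUc, hUm, hUt⟩ := HomUnitLocus.main (u := Red.DSmap S (QuotientAddGroup.mk' L) ≫ u)
      (isMultTypeFT_DS S (M ⧸ L)) (Or.inr inferInstance)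
    refine ⟨U, hUc, fun s hs => (hUm s).mpr ?_, ?_⟩
    · subst hs
      exact triv_kerAnn _ u
    · haveI := isMonHom_restrict u U.ι
      refine exists_desc (restrict u U.ι) L ?_
      rw [DSmap_restrict, restrict, HomUnitLocus.map_eq_one_of_triv hUt]
      exact MonObj.comp_one _
  -- the places with a given `kerAnn` are open
  have hopen : ∀ L : AddSubgroup M, IsOpen {s | ann s = L} := by
    intro L
    rw [isOpen_iff_forall_mem_open]
    intro s hs
    obtain ⟨U, hUc, hU, h, hh, hfac⟩ := hclop L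
    haveI := hh
    haveI := addGroupFG_subgroup L
    haveI := isSeparated_bc G U.ι
    obtain ⟨W, hW, -⟩ := HomMonoLocus.main (u := h) (isMultTypeFT_DS U L)
    refine ⟨U.ι '' W, ?_, U.ι.isOpenEmbedding.isOpenMap _ W.isOpen, ?_⟩
    · rintro _ ⟨x, hx, rfl⟩
      haveI := isMonHom_restrict u U.ι
      show ann (U.ι x) = L
      show kerAnn u _ = L
      rw [← kerAnn_residue u U.ι x]
      refine le_antisymm ?_ (le_kerAnn_of_desc L h _ hfac ((hW x).mp hx))
      exact kerAnn_le_of_desc L h _ hfac _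
    · refine ⟨⟨s, hU s hs⟩, (hW _).mpr (inj_of_le_kerAnn L h _ hfac ?_), rfl⟩
      erw [kerAnn_residue]
      exact le_of_eq hs.symm
  let V : S.Opens := ⟨{t | ann t = ann s}, hopen _⟩
  have hVc : IsClosed (V : Set S) := by
    rw [← isOpen_compl_iff]
    have : (V : Set S)ᶜ = ⋃ L ∈ {L | L ≠ ann s}, {t | ann t = L} := by
      ext t
      simp [V, TopologicalSpace.Opens.coe_mk]
    rw [this]
    exact isOpen_biUnion fun L _ => hopen L
  haveI := isMonHom_DSmap (S := S) (QuotientAddGroup.mk' (ann s))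
  haveI := addGroupFG_quotient (ann s)
  obtain ⟨U, hUc, hUm, hUt⟩ := HomUnitLocus.main (u := Red.DSmap S (QuotientAddGroup.mk' (ann s)) ≫ u)
    (isMultTypeFT_DS S (M ⧸ ann s)) (Or.inr inferInstance)
  have hVU : V ≤ U := fun t ht => (hUm t).mpr (by
    have ht' : ann t = ann s := ht
    rw [← ht']
    exact triv_kerAnn _ u)
  have hVt : Triv (Red.DSmap S (QuotientAddGroup.mk' (ann s)) ≫ u) V.ι := by
    rw [← S.homOfLE_ι hVU]
    exact hUt.comp _
  haveI := isMonHom_restrict u V.ι
  obtain ⟨h, hh, hfac⟩ := exists_desc (restrict u V.ι) (ann s) (by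
    rw [DSmap_restrict, restrict, HomUnitLocus.map_eq_one_of_triv hVt]
    exact MonObj.comp_one _)
  haveI := addGroupFG_subgroup (ann s)
  haveI := isSeparated_bc G V.ι
  obtain ⟨W, hW, hWi⟩ := HomMonoLocus.main (u := h) (isMultTypeFT_DS V (ann s))
  refine ⟨V, rfl, hVc, ann s, h, hh, mono_of_inj h (inj_id_of_top hWi ?_), hfac⟩
  refine top_le_iff.mp fun x _ => (hW x).mpr (inj_of_le_kerAnn _ h _ hfac ?_)
  rw [kerAnn_residue]
  exact le_of_eq (show ann s = ann (V.ι x) from x.2.symm)

end Groth.Agent.Sga3xB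

end
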