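import Groth.Agent.FlatMisc.Fibrewise
import Groth.Agent.MorLib.UnramLocus
import Groth.Agent.MorLib.BddFib
import Groth.Agent.S5223

/-!
# Étaleness at a point, checked on a fibre over an arbitrary field

A morphism over a base between schemes locally of finite presentation, with flat source, is étale near a point
as soon as its base change to a field-valued point of the base is étale near a point above it.
-/

universe u

set_option autoImplicit false
set_option backward.isDefEq.respectTransparency false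
set_option linter.style.haveILetI false

open CategoryTheory CategoryTheory.Limits AlgebraicGeometry

namespace Groth.Agent.Sga3xB

theorem exists_etale_nhd_of_fibre {X Y S : Scheme.{u}} (f : X ⟶ Y) (g : Y ⟶ S) [LocallyOfFinitePresentation g]
    [LocallyOfFinitePresentation (f ≫ g)] [Flat (f ≫ g)] {K : Type u} [Field K]
    (b : Spec (CommRingCat.of K) ⟶ S) {P Q : Scheme.{u}} {p₁ : P ⟶ X} {p₂ : P ⟶ Spec (CommRingCat.of K)}
    (hP : IsPullback p₁ p₂ (f ≫ g) b) {q₁ : Q ⟶ Y} {q₂ : Q ⟶ Spec (CommRingCat.of K)} (hQ : IsPullback q₁ q₂ g b)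
    (fK : P ⟶ Q) (h1 : fK ≫ q₁ = p₁ ≫ f) (h2 : fK ≫ q₂ = p₂) (p : P) (U : P.Opens) (hpU : p ∈ U)
    [Etale (U.ι ≫ fK)] :
    ∃ W : X.Opens, p₁ p ∈ W ∧ Etale (W.ι ≫ f) := by
  haveI : LocallyOfFinitePresentation f := Groth.Agent.AlgSpPts.locallyOfFinitePresentation_of_comp f g
  have hsq : IsPullback p₁ fK f q₁ := IsPullback.of_bot (by rw [h2]; exact hP) h1.symm hQ
  -- unramified
  have hu : MorLib.UnrLocus.Loc f (p₁ p) := by
    have h3 : MorLib.UnrLocus.Loc fK p := ⟨U, hpU, inferInstance⟩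
    rw [← hsq.isoPullback_hom_snd, MorLib.UnrLocus.loc_comp_left, MorLib.UnrLocus.loc_pullback,
      ← Scheme.Hom.comp_apply, hsq.isoPullback_hom_fst] at h3
    exact h3
  obtain ⟨U₁, hx₁, hU₁⟩ := hu
  -- flat
  have hstalk : (fK.stalkMap p).hom.Flat := by
    have h3 := Flat.stalkMap (U.ι ≫ fK) (⟨p, hpU⟩ : U.toScheme)
    rw [Scheme.Hom.stalkMap_comp, CommRingCat.hom_comp] at h3
    exact (RingHom.Flat.respectsIso.cancel_right_isIso _ (U.ι.stalkMap ⟨p, hpU⟩)).mp h3
  have hs : g (f (p₁ p)) = b (IsLocalRing.closedPoint K) := by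
    rw [← Scheme.Hom.comp_apply f g, ← Scheme.Hom.comp_apply p₁ (f ≫ g), hP.w, Scheme.Hom.comp_apply]
    exact congrArg b (Subsingleton.elim (α := PrimeSpectrum K) _ _)
  obtain ⟨q, hq⟩ : ∃ q : Spec (CommRingCat.of K) ⟶ Spec (S.residueField (g (f (p₁ p)))),
      q ≫ S.fromSpecResidueField (g (f (p₁ p))) = b := by
    rw [hs]
    exact ⟨_, (Scheme.SpecToEquivOfField K S).symm_apply_apply b⟩
  haveI : Flat q := MorLib.BF.flat_to_field (Field.toIsField _) q
  let x := p₁ p
  let vX : P ⟶ (f ≫ g).fiber (g (f x)) := pullback.lift p₁ (p₂ ≫ q) (by rw [Category.assoc, hq, hP.w])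
  let vY : Q ⟶ g.fiber (g (f x)) := pullback.lift q₁ (q₂ ≫ q) (by rw [Category.assoc, hq, hQ.w])
  have hvY : IsPullback vY q₂ (pullback.snd g (S.fromSpecResidueField (g (f x)))) q :=
    IsPullback.of_right (by rw [pullback.lift_fst, hq]; exact hQ) (pullback.lift_snd _ _ _)
      (IsPullback.of_hasPullback g _)
  haveI : Flat vY := MorphismProperty.of_isPullback hvY.flip inferInstance
  have hwX : vX ≫ MoreMor.fiberMap f g (g (f x)) = fK ≫ vY := by
    apply pullback.hom_ext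
    · simp [vX, vY, MoreMor.fiberMap, Scheme.Hom.fiberι, h1]
    · simp [vX, vY, MoreMor.fiberMap, Scheme.Hom.fiberToSpecResidueField, reassoc_of% h2]
  have hvX : IsPullback vX fK (MoreMor.fiberMap f g (g (f x))) vY := by
    refine IsPullback.of_right ?_ hwX (ConsPropLib.isPullback_fiberMap f g (g (f x)))
    rw [show vX ≫ (f ≫ g).fiberι (g (f x)) = p₁ from pullback.lift_fst _ _ _,
      show vY ≫ g.fiberι (g (f x)) = q₁ from pullback.lift_fst _ _ _]
    exact hsq
  have hpt : (f ≫ g).fiberι (g (f x)) (vX p) = x := by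
    rw [← Scheme.Hom.comp_apply, show vX ≫ (f ≫ g).fiberι (g (f x)) = p₁ from pullback.lift_fst _ _ _]
  have hpt' : vX p = (f ≫ g).asFiber x :=
    ((f ≫ g).fiberι (g (f x))).isEmbedding.injective (hpt.trans ((f ≫ g).fiberι_asFiber x).symm)
  have hfib := (S5223.result hvX p).mp hstalk
  rw [hpt'] at hfib
  obtain ⟨hiff, hopen⟩ := S1386.result f g
  have hfx : (g.stalkMap (f x)).hom.Flat ∧ (f.stalkMap x).hom.Flat :=
    (hiff x).mp ⟨Flat.stalkMap (f ≫ g) x, hfib⟩
  let E : X.Opens := ⟨_, hopen⟩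
  refine ⟨U₁ ⊓ E, ⟨hx₁, hfx⟩, ?_⟩
  haveI : FormallyUnramified ((U₁ ⊓ E).ι ≫ f) := by
    rw [← Scheme.homOfLE_ι X (inf_le_left : U₁ ⊓ E ≤ U₁), Category.assoc]
    exact IsZariskiLocalAtSource.comp hU₁ _
  haveI : Flat ((U₁ ⊓ E).ι ≫ f) := Flat.of_stalkMap _ fun z => by
    rw [Scheme.Hom.stalkMap_comp, CommRingCat.hom_comp]
    exact (RingHom.Flat.respectsIso.cancel_right_isIso _ ((U₁ ⊓ E).ι.stalkMap z)).mpr
      (show z.1 ∈ E from z.2.2).2
  exact Etale.of_formallyUnramified_of_flat _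

end Groth.Agent.Sga3xB
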