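import Groth.Agent.EtFound.Henselian
import Groth.Agent.Hensel.Local

/-!
# Étale morphisms over finite schemes over a henselian local ring have sections through sections of the closed fibre
-/

universe u

set_option autoImplicit false
set_option linter.style.haveILetI false

open CategoryTheory CategoryTheory.Limits AlgebraicGeometry IsLocalRing

namespace Groth.Agent.Sga3xB.HenselSection

variable (R : Type u) [CommRing R]

/-- The closed point of a local ring, as a closed immersion. -/
noncomputable abbrev π [IsLocalRing R] : Spec (CommRingCat.of (R ⧸ maximalIdeal R)) ⟶ Spec (CommRingCat.of R) :=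
  Spec.map (CommRingCat.ofHom (Ideal.Quotient.mk (maximalIdeal R)))

instance isClosedImmersion_π [IsLocalRing R] : IsClosedImmersion (π R) :=
  IsClosedImmersion.spec_of_surjective _ Ideal.Quotient.mk_surjective

theorem range_π [IsLocalRing R] : Set.range (π R).base = {closedPoint R} := by
  have h := _root_.range_comap_of_surjective _ (Ideal.Quotient.mk (maximalIdeal R)) Ideal.Quotient.mk_surjective
  refine h.trans ?_
  rw [Ideal.mk_ker, PrimeSpectrum.zeroLocus_eq_singleton]
  rfl

variable [HenselianLocalRing R]

set_option backward.isDefEq.respectTransparency false in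
set_option maxHeartbeats 1000000 in
theorem exists_section_Spec (B : Type u) [CommRing B] [Algebra R B] [Module.Finite R B] {U : Scheme.{u}}
    (f : U ⟶ Spec (CommRingCat.of B)) [Etale f]
    (u : pullback (Spec.map (CommRingCat.ofHom (algebraMap R B))) (π R) ⟶ U) (hu : u ≫ f = pullback.fst _ _) :
    ∃ σ : Spec (CommRingCat.of B) ⟶ U, σ ≫ f = 𝟙 _ ∧ pullback.fst _ _ ≫ σ = u := by
  obtain ⟨_, e, he, hM⟩ := Hensel.exists_idempotents_of_henselian R B
  let C : MaximalSpectrum B → Type u := fun M => B ⧸ Ideal.span {1 - e M}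
  let j : ∀ M, Spec (CommRingCat.of (C M)) ⟶ Spec (CommRingCat.of B) := fun M =>
    Spec.map (CommRingCat.ofHom (algebraMap B (C M)))
  have hloc : ∀ M, IsLocalization.Away (e M) (C M) := fun M =>
    IsLocalization.Away.quotient_of_isIdempotentElem (he.idem M)
  haveI hj : ∀ M, IsOpenImmersion (j M) := fun M =>
    haveI := hloc M
    IsOpenImmersion.of_isLocalization (e M)
  have hrange : ∀ M, Set.range (j M).base = (PrimeSpectrum.basicOpen (e M) : Set (PrimeSpectrum B)) := fun M =>
    haveI := hloc M
    PrimeSpectrum.localization_away_comap_range (C M) (e M)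
  have hcov : ∀ p : PrimeSpectrum B, ∃ M, e M ∉ p.asIdeal := fun p => by
    by_contra h
    push Not at h
    exact p.2.ne_top ((Ideal.eq_top_iff_one _).2 (he.complete ▸ Ideal.sum_mem _ fun M _ => h M))
  haveI hCl : ∀ M, IsLocalRing (C M) := fun M => Hensel.isLocalRing_quotient_one_sub he.idem hM M
  haveI hCf : ∀ M, Module.Finite R (C M) := fun M => inferInstanceAs (Module.Finite R (B ⧸ Ideal.span {1 - e M}))
  haveI hCh : ∀ M, HenselianLocalRing (C M) := fun M => Hensel.henselianLocalRing_of_finite R (C M)
  have key : ∀ M, ∃ (w : Spec (CommRingCat.of (ResidueField (C M))) ⟶ pullback (Spec.map (CommRingCat.ofHom (algebraMap R B))) (π R)),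
      w ≫ pullback.fst _ _ = EtFound.cpt (C M) ≫ j M := fun M => by
    let φ : R →+* ResidueField (C M) := (residue (C M)).comp (algebraMap R (C M))
    have hφ : ∀ r ∈ maximalIdeal R, φ r = 0 := fun r hr => by
      have hm : ((maximalIdeal (C M)).comap (algebraMap R (C M))).IsMaximal :=
        Ideal.isMaximal_comap_of_isIntegral_of_isMaximal (R := R) (maximalIdeal (C M))
      have hr' : r ∈ (maximalIdeal (C M)).comap (algebraMap R (C M)) := by
        rwa [eq_maximalIdeal hm]
      exact (residue_eq_zero_iff _).mpr hr'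
    refine ⟨pullback.lift (EtFound.cpt (C M) ≫ j M)
      (Spec.map (CommRingCat.ofHom (Ideal.Quotient.lift (maximalIdeal R) φ hφ))) ?_, pullback.lift_fst _ _ _⟩
    rw [Category.assoc, ← Spec.map_comp, ← Spec.map_comp, ← Spec.map_comp]
    congr 1
  choose w hw using key
  have hsec : ∀ M, ∃ s : Spec (CommRingCat.of (C M)) ⟶ U, s ≫ f = j M ∧ EtFound.cpt (C M) ≫ s = w M ≫ u := fun M => by
    haveI : Etale (pullback.snd f (j M)) := MorphismProperty.pullback_snd _ _ inferInstance
    obtain ⟨σ, ⟨h1, h2⟩, -⟩ := EtFound.existsUnique_section (C M) (pullback.snd f (j M))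
      (pullback.lift (w M ≫ u) (EtFound.cpt (C M)) (by rw [Category.assoc, hu, hw])) (pullback.lift_snd _ _ _)
    refine ⟨σ ≫ pullback.fst f (j M), ?_, ?_⟩
    · rw [Category.assoc, pullback.condition, reassoc_of% h1]
    · rw [reassoc_of% h2, pullback.lift_fst]
  choose s hs1 hs2 using hsec
  let 𝒰 : (Spec (CommRingCat.of B)).OpenCover :=
    Scheme.Cover.mkOfCovers (MaximalSpectrum B) (fun M => Spec (CommRingCat.of (C M))) j (fun p => by
      obtain ⟨M, hp⟩ := hcov p
      have : p ∈ Set.range (j M).base := by rw [hrange]; exact hp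
      obtain ⟨y, hy⟩ := this
      exact ⟨M, y, hy⟩) hj
  have hov : ∀ M M' : MaximalSpectrum B, pullback.fst (j M) (j M') ≫ s M = pullback.snd (j M) (j M') ≫ s M' := by
    intro M M'
    by_cases h : M = M'
    · subst h
      rw [show pullback.fst (j M) (j M) = pullback.snd (j M) (j M) from (cancel_mono (j M)).1 pullback.condition]
    · haveI : IsEmpty ↥(pullback (j M) (j M')) := ⟨fun p => by
        have h1 : j M (pullback.fst (j M) (j M') p) ∈ Set.range (j M).base := ⟨_, rfl⟩
        have h2 : j M (pullback.fst (j M) (j M') p) ∈ Set.range (j M').base := ⟨pullback.snd (j M) (j M') p, by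
          rw [← Scheme.Hom.comp_apply, ← pullback.condition, Scheme.Hom.comp_apply]⟩
        rw [hrange] at h1 h2
        set q := j M (pullback.fst (j M) (j M') p)
        refine (PrimeSpectrum.mem_basicOpen (e M * e M') q).1 ?_ ?_
        · rw [PrimeSpectrum.basicOpen_mul]; exact ⟨h1, h2⟩
        · rw [he.ortho h]; exact q.asIdeal.zero_mem⟩
      exact (isInitialOfIsEmpty (X := pullback (j M) (j M'))).hom_ext _ _
  let σ : Spec (CommRingCat.of B) ⟶ U := Scheme.Cover.glueMorphisms 𝒰 s hov
  have hσ : ∀ M, j M ≫ σ = s M := fun M => Scheme.Cover.ι_glueMorphisms 𝒰 s hov M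
  have hσf : σ ≫ f = 𝟙 _ := by
    refine Scheme.Cover.hom_ext 𝒰 _ _ fun (M : MaximalSpectrum B) => ?_
    show j M ≫ σ ≫ f = j M ≫ 𝟙 _
    rw [reassoc_of% hσ, hs1, Category.comp_id]
  refine ⟨σ, hσf, ?_⟩
  let X₀ := pullback (Spec.map (CommRingCat.ofHom (algebraMap R B))) (π R)
  let ρ : X₀ ⟶ Spec (CommRingCat.of B) := pullback.fst _ _
  let τ : X₀ ⟶ pullback f f := pullback.lift (ρ ≫ σ) u (by rw [Category.assoc, hσf, hu, Category.comp_id])
  let Δ := pullback.diagonal f
  have hτ : Set.range τ.base ⊆ Set.range Δ.base := by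
    rintro _ ⟨y, rfl⟩
    obtain ⟨M, hy⟩ := hcov (ρ y)
    have : ρ y ∈ Set.range (j M).base := by rw [hrange]; exact hy
    obtain ⟨q, hq⟩ := this
    -- the only point of the closed fibre in this piece is the closed one
    have hclosed : (Spec.map (CommRingCat.ofHom (algebraMap R B))) (ρ y) = closedPoint R := by
      rw [← Scheme.Hom.comp_apply, show ρ ≫ Spec.map (CommRingCat.ofHom (algebraMap R B)) = pullback.snd _ _ ≫ π R from
        pullback.condition, Scheme.Hom.comp_apply]
      have := Set.mem_range_self (f := (π R).base) (pullback.snd (Spec.map (CommRingCat.ofHom (algebraMap R B))) (π R) y)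
      rw [range_π] at this
      exact this
    have hqM : q = closedPoint (C M) := by
      have hmax : q.asIdeal.IsMaximal := by
        refine Ideal.isMaximal_of_isIntegral_of_isMaximal_comap (R := R) q.asIdeal ?_
        have hc : (q.asIdeal.comap (algebraMap R (C M))) = maximalIdeal R := by
          rw [← hq] at hclosed
          exact congrArg PrimeSpectrum.asIdeal hclosed
        rw [hc]; infer_instance
      exact PrimeSpectrum.ext (eq_maximalIdeal hmax)
    have hwy : w M default = y := by
      refine (MorphismProperty.pullback_fst (P := @IsClosedImmersion) _ _ inferInstance :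
        IsClosedImmersion ρ).isClosedEmbedding.injective ?_
      show ρ (w M default) = ρ y
      rw [← Scheme.Hom.comp_apply, hw, Scheme.Hom.comp_apply, EtFound.cpt_base, ← hqM, hq]
    refine ⟨(w M ≫ u) default, ?_⟩
    have h1 : w M ≫ τ = (w M ≫ u) ≫ Δ := by
      apply pullback.hom_ext
      · simp only [τ, Δ, Category.assoc, pullback.lift_fst, pullback.diagonal_fst, Category.comp_id]
        rw [reassoc_of% hw, hσ, hs2]
      · simp only [τ, Δ, Category.assoc, pullback.lift_snd, pullback.diagonal_snd, Category.comp_id]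
    rw [← Scheme.Hom.comp_apply, ← h1, Scheme.Hom.comp_apply, hwy]
  have hfac := IsOpenImmersion.lift_fac Δ τ hτ
  have e1 := congrArg (· ≫ pullback.fst f f) hfac
  have e2 := congrArg (· ≫ pullback.snd f f) hfac
  simp only [τ, Δ, Category.assoc, pullback.diagonal_fst, pullback.diagonal_snd, Category.comp_id,
    pullback.lift_fst, pullback.lift_snd] at e1 e2
  exact e1.symm.trans e2

/-- Sections over a finite scheme over a henselian local ring. -/
theorem exists_section {X U : Scheme.{u}} (p : X ⟶ Spec (CommRingCat.of R)) [IsFinite p] (f : U ⟶ X) [Etale f]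
    (u : pullback p (π R) ⟶ U) (hu : u ≫ f = pullback.fst p (π R)) :
    ∃ σ : X ⟶ U, σ ≫ f = 𝟙 X ∧ pullback.fst p (π R) ≫ σ = u := by
  haveI : IsAffine X := isAffine_of_isAffineHom p
  let B : Type u := Γ(X, ⊤)
  obtain ⟨φ, hφ⟩ := Spec.map_surjective (X.isoSpec.inv ≫ p)
  letI : Algebra R B := φ.hom.toAlgebra
  haveI : IsFinite (Spec.map φ) := by rw [hφ]; infer_instance
  haveI : Module.Finite R B := (IsFinite.SpecMap_iff (f := φ)).mp inferInstance
  haveI : Etale (f ≫ X.isoSpec.hom) := inferInstance
  have hp : Spec.map (CommRingCat.ofHom (algebraMap R B)) = X.isoSpec.inv ≫ p := hφ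
  let c : pullback (Spec.map (CommRingCat.ofHom (algebraMap R B))) (π R) ⟶ pullback p (π R) :=
    pullback.lift (pullback.fst _ _ ≫ X.isoSpec.inv) (pullback.snd _ _)
      (by rw [Category.assoc, ← hp]; exact pullback.condition)
  let c' : pullback p (π R) ⟶ pullback (Spec.map (CommRingCat.ofHom (algebraMap R B))) (π R) :=
    pullback.lift (pullback.fst _ _ ≫ X.isoSpec.hom) (pullback.snd _ _)
      (by rw [Category.assoc, hp, Iso.hom_inv_id_assoc]; exact pullback.condition)
  obtain ⟨σ, h1, h2⟩ := exists_section_Spec R B (f ≫ X.isoSpec.hom) (c ≫ u) (by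
    rw [Category.assoc, reassoc_of% hu, pullback.lift_fst_assoc, Category.assoc, Iso.inv_hom_id, Category.comp_id])
  refine ⟨X.isoSpec.hom ≫ σ, ?_, ?_⟩
  · rw [← cancel_mono X.isoSpec.hom, Category.assoc, Category.assoc, h1, Category.comp_id, Category.id_comp]
  · have h3 := congrArg (c' ≫ ·) h2
    rw [pullback.lift_fst_assoc, ← Category.assoc c', show c' ≫ c = 𝟙 _ by
      apply pullback.hom_ext
      · simp only [c, c', Category.assoc, Category.id_comp]
        erw [pullback.lift_fst, pullback.lift_fst_assoc]
        simp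
      · simp only [c, c', Category.assoc, Category.id_comp]
        erw [pullback.lift_snd, pullback.lift_snd], Category.id_comp, Category.assoc] at h3
    exact h3

end Groth.Agent.Sga3xB.HenselSection
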