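import Mathlib.Algebra.MonoidAlgebra.Basic
import Mathlib.Algebra.MonoidAlgebra.MapDomain
import Mathlib.Tactic.LinearCombination
import Mathlib.Tactic.FieldSimp
import Mathlib.RingTheory.Valuation.Basic
import Mathlib.Algebra.Order.GroupWithZero.Canonical
import Mathlib.Data.Finset.Max

/-!
# Rational functions on a torus along a sequence of translates

`twist x m` multiplies the coefficient at `c` by `x c ^ m`. If the valuations of the `x c` are distinct, then for large
`m` one monomial dominates, so a rational function which stays integral has constant reduction.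
-/

set_option autoImplicit false

open MonoidAlgebra

noncomputable section

namespace Groth.Agent.Sga3xB

variable {K C : Type*} [Field K] [CommGroup C]

/-- Multiply the coefficient at `c` by `x c ^ m`. -/
def twist (x : C →* K) (m : ℕ) : MonoidAlgebra K C →+* MonoidAlgebra K C :=
  (MonoidAlgebra.lift K (MonoidAlgebra K C) C
    { toFun := fun c => MonoidAlgebra.single c (x c ^ m)
      map_one' := by simp [MonoidAlgebra.one_def]
      map_mul' := fun a b => by simp [MonoidAlgebra.single_mul_single, mul_pow] }).toRingHom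

theorem twist_single (x : C →* K) (m : ℕ) (c : C) (a : K) :
    twist x m (single c a) = single c (a * x c ^ m) := by
  simp [twist]

theorem coeff_twist (x : C →* K) (m : ℕ) (P : MonoidAlgebra K C) (c : C) :
    (twist x m P).coeff c = P.coeff c * x c ^ m := by
  classical
  induction P using MonoidAlgebra.induction_linear with
  | zero => simp
  | add p q hp hq => simp [hp, hq, add_mul]
  | single d a =>
    rw [twist_single, coeff_single, coeff_single]
    by_cases h : d = c
    · subst h; simp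
    · simp [h]

theorem twist_inv (x : C →* K) (m : ℕ) (P : MonoidAlgebra K C) :
    twist x m (twist (x.comp invMonoidHom) m P) = P := by
  refine MonoidAlgebra.ext (Finsupp.ext fun c => ?_)
  rw [coeff_twist, coeff_twist, mul_assoc, ← mul_pow, MonoidHom.comp_apply, invMonoidHom_apply, ← map_mul,
    inv_mul_cancel, map_one, one_pow, mul_one]

theorem single_one_mul_eq {R : Type*} [CommRing R] (a : R) (y : MonoidAlgebra R C) :
    single 1 a * y = a • y := by
  refine MonoidAlgebra.ext (Finsupp.ext fun c => ?_)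
  simp [coeff_single_one_mul]

variable {Γ₀ : Type*} [LinearOrderedCommGroupWithZero Γ₀]

/-- A geometric progression is eventually on one side of `1`. -/
theorem eventually_pow {b e : Γ₀} (hb : b ≠ 0) (he0 : e ≠ 0) (he : e ≠ 1) :
    ∃ N : ℕ, (∀ m ≥ N, b * e ^ m < 1) ∨ (∀ m ≥ N, 1 < b * e ^ m) := by
  rcases lt_or_gt_of_ne he with h | h
  · by_cases h1 : ∃ n, b * e ^ n < 1
    · obtain ⟨n, hn⟩ := h1
      exact ⟨n, Or.inl fun m hm => lt_of_le_of_lt
        (mul_le_mul_right (pow_le_pow_right_of_le_one' h.le hm) b) hn⟩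
    · push Not at h1
      refine ⟨0, Or.inr fun m _ => lt_of_le_of_lt (h1 (m + 1)) ?_⟩
      rw [pow_succ, ← mul_assoc]
      exact mul_lt_of_lt_one_right (zero_lt_iff.mpr (mul_ne_zero hb (pow_ne_zero m he0))) h
  · by_cases h1 : ∃ n, 1 < b * e ^ n
    · obtain ⟨n, hn⟩ := h1
      exact ⟨n, Or.inr fun m hm => lt_of_lt_of_le hn (mul_le_mul_right (pow_le_pow_right' h.le hm) b)⟩
    · push Not at h1
      refine ⟨0, Or.inl fun m _ => lt_of_lt_of_le ?_ (h1 (m + 1))⟩
      rw [pow_succ, ← mul_assoc]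
      exact lt_mul_of_one_lt_right (zero_lt_iff.mpr (mul_ne_zero hb (pow_ne_zero m he0))) h

variable (v : Valuation K Γ₀) (x : C →* K) (hx : ∀ c, v (x c) = 1 → c = 1)

include hx in
theorem eventually_ne {a b : K} (ha : a ≠ 0) (hb : b ≠ 0) {c d : C} (hcd : c ≠ d) :
    ∃ N : ℕ, (∀ m ≥ N, v (a * x c ^ m) < v (b * x d ^ m)) ∨ (∀ m ≥ N, v (b * x d ^ m) < v (a * x c ^ m)) := by
  have hne : ∀ c, x c ≠ 0 := fun c => (Group.isUnit c).map x |>.ne_zero
  have hd : v (b * x d ^ 0) ≠ 0 := by simpa using hb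
  obtain ⟨N, hN⟩ := eventually_pow (Γ₀ := Γ₀) (b := v (a / b)) (e := v (x (c * d⁻¹)))
    (by simp [ha, hb]) ((map_ne_zero v).mpr (hne _)) (fun h => hcd (mul_inv_eq_one.mp (hx _ h)))
  have key : ∀ m : ℕ, v (a * x c ^ m) = v (a / b) * v (x (c * d⁻¹)) ^ m * v (b * x d ^ m) := by
    intro m
    rw [← map_pow v, ← map_mul v, ← map_mul v]
    congr 1
    rw [div_mul_eq_mul_div, div_mul_eq_mul_div, eq_div_iff hb, map_mul, mul_pow]
    have : x d⁻¹ ^ m * x d ^ m = 1 := by rw [← mul_pow, ← map_mul, inv_mul_cancel, map_one, one_pow]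
    linear_combination -(a * x c ^ m * b) * this
  have hpos : ∀ m : ℕ, 0 < v (b * x d ^ m) := fun m => zero_lt_iff.mpr (by simp [hb, hne])
  refine ⟨N, hN.imp (fun h m hm => ?_) fun h m hm => ?_⟩
  · rw [key]
    exact mul_lt_of_lt_one_left (hpos m) (h m hm)
  · rw [key]
    exact lt_mul_of_one_lt_left (hpos m) (h m hm)

include hx in
/-- For large `m` one monomial of `twist x m P` dominates. -/
theorem exists_dominant {P : MonoidAlgebra K C} (hP : P ≠ 0) :
    ∃ μ : C, P.coeff μ ≠ 0 ∧ ∃ N : ℕ, ∀ m ≥ N, ∀ c, c ≠ μ → v ((twist x m P).coeff c) < v ((twist x m P).coeff μ) := by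
  classical
  have hne : P.coeff.support.Nonempty := Finsupp.support_nonempty_iff.mpr fun h => hP (MonoidAlgebra.ext h)
  let pr : P.coeff.support × P.coeff.support → ℕ := fun p =>
    if h : (p.1 : C) = p.2 then 0 else
      (eventually_ne v x hx (Finsupp.mem_support_iff.mp p.1.2) (Finsupp.mem_support_iff.mp p.2.2) h).choose
  let N := Finset.univ.sup pr
  obtain ⟨μ, hμ, hmax⟩ := P.coeff.support.exists_max_image (fun c => v ((twist x N P).coeff c)) hne
  refine ⟨μ, Finsupp.mem_support_iff.mp hμ, N, fun m hm c hc => ?_⟩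
  by_cases h0 : P.coeff c = 0
  · rw [coeff_twist, h0, zero_mul, map_zero, coeff_twist]
    exact zero_lt_iff.mpr (by simp [Finsupp.mem_support_iff.mp hμ, ((Group.isUnit μ).map x).ne_zero])
  have hcs : c ∈ P.coeff.support := Finsupp.mem_support_iff.mpr h0
  have hle : pr (⟨c, hcs⟩, ⟨μ, hμ⟩) ≤ N := Finset.le_sup (Finset.mem_univ _)
  simp only [pr, dif_neg hc] at hle
  rcases (eventually_ne v x hx h0 (Finsupp.mem_support_iff.mp hμ) hc).choose_spec with h | h
  · rw [coeff_twist, coeff_twist]
    exact h m (hle.trans hm)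
  · exact absurd (h N hle) (not_lt.mpr (by simpa only [coeff_twist] using hmax c hcs))

variable {A k : Type*} [CommRing A] [Field k] (ι : A →+* K) (π : A →+* k) (hι : Function.Injective ι)
  (hr : ∀ c : K, v c ≤ 1 → ∃ a, ι a = c) (hl : ∀ a, v (ι a) ≤ 1) (hπ : ∀ a, v (ι a) < 1 → π a = 0)

include hx hι hr hπ in
/-- For large `m`, `twist x m P` is a scalar times an integral element with monomial reduction. -/
theorem exists_normalise {P : MonoidAlgebra K C} (hP : P ≠ 0) :
    ∃ μ : C, P.coeff μ ≠ 0 ∧ ∃ N : ℕ, ∀ m ≥ N, ∃ P' : MonoidAlgebra A C,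
      twist x m P = (P.coeff μ * x μ ^ m) • mapRingHom C ι P' ∧ mapRingHom C π P' = single μ 1 := by
  classical
  obtain ⟨μ, hμ, N, hN⟩ := exists_dominant v x hx hP
  refine ⟨μ, hμ, N, fun m hm => ?_⟩
  set β := P.coeff μ * x μ ^ m with hβ
  have hβ0 : β ≠ 0 := mul_ne_zero hμ (pow_ne_zero m ((Group.isUnit μ).map x).ne_zero)
  have hq : ∀ c, v (β⁻¹ * (twist x m P).coeff c) ≤ 1 ∧ (c ≠ μ → v (β⁻¹ * (twist x m P).coeff c) < 1) := by
    intro c
    by_cases hc : c = μ
    · subst hc
      rw [coeff_twist, ← hβ, inv_mul_cancel₀ hβ0, map_one]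
      exact ⟨le_rfl, fun h => absurd rfl h⟩
    · have h := hN m hm c hc
      rw [coeff_twist x m P μ, ← hβ] at h
      have h' : v (β⁻¹ * (twist x m P).coeff c) < 1 := by
        rw [map_mul, map_inv₀, inv_mul_lt_iff₀ (zero_lt_iff.mpr (by simpa using hβ0)), mul_one]
        exact h
      exact ⟨h'.le, fun _ => h'⟩
  let a : C → A := fun c => (hr _ (hq c).1).choose
  have ha : ∀ c, ι (a c) = β⁻¹ * (twist x m P).coeff c := fun c => (hr _ (hq c).1).choose_spec
  have hsupp : ∀ c, a c ≠ 0 → c ∈ (twist x m P).coeff.support := fun c hc => Finsupp.mem_support_iff.mpr fun h0 =>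
    hc (hι (by rw [ha, h0, mul_zero, map_zero]))
  refine ⟨MonoidAlgebra.ofCoeff (Finsupp.onFinset (twist x m P).coeff.support a hsupp),
    MonoidAlgebra.ext (Finsupp.ext fun c => ?_), MonoidAlgebra.ext (Finsupp.ext fun c => ?_)⟩
  · rw [coeff_smul, Finsupp.smul_apply, coeff_mapRingHom, smul_eq_mul]
    show _ = β * ι (a c)
    rw [ha, mul_inv_cancel_left₀ hβ0]
  · rw [coeff_mapRingHom, coeff_single, Finsupp.single_apply]
    show π (a c) = _
    split_ifs with h
    · subst h
      rw [hι (show ι (a μ) = ι 1 by rw [ha, coeff_twist, ← hβ, inv_mul_cancel₀ hβ0, map_one]), map_one]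
    · exact hπ _ (by rw [ha]; exact (hq c).2 (Ne.symm h))

include hx hι hr hl hπ in
/-- A rational function which is integral at the translates has constant reduction for large `m`. -/
theorem exists_const (P : MonoidAlgebra K C) {Q : MonoidAlgebra K C} (hQ : Q ≠ 0) :
    ∃ N : ℕ, ∀ m ≥ N, ∀ R S : MonoidAlgebra A C, mapRingHom C π S ≠ 0 →
      mapRingHom C ι R * twist x m Q = twist x m P * mapRingHom C ι S →
      ∃ b : k, mapRingHom C π R = b • mapRingHom C π S := by
  classical
  have hinj : Function.Injective (mapRingHom C ι) := fun a b h => MonoidAlgebra.ext (Finsupp.ext fun c => hι (by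
    simpa using congrArg (fun z => z.coeff c) h))
  have hcancel : ∀ (μ : C) {y z : MonoidAlgebra k C}, y * single μ 1 = z * single μ 1 → y = z := fun μ y z h => by
    simpa [mul_assoc, single_mul_single, ← one_def] using congrArg (· * single μ⁻¹ 1) h
  obtain ⟨μ', hμ', N', hN'⟩ := exists_normalise v x hx ι π hι hr hπ hQ
  by_cases hP : P = 0
  · refine ⟨N', fun m hm R S _ h => ⟨0, ?_⟩⟩
    obtain ⟨Q', hQ', hQπ⟩ := hN' m hm
    subst hP
    rw [map_zero, zero_mul, hQ', mul_smul_comm, smul_eq_zero, or_iff_right (mul_ne_zero hμ'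
      (pow_ne_zero m ((Group.isUnit μ').map x).ne_zero)), ← map_mul, ← map_zero (mapRingHom C ι)] at h
    have h2 := congrArg (mapRingHom C π) (hinj h)
    rw [map_mul, hQπ, map_zero] at h2
    rw [zero_smul]
    exact hcancel μ' (h2.trans (zero_mul _).symm)
  obtain ⟨μ, hμ, N, hN⟩ := exists_normalise v x hx ι π hι hr hπ hP
  obtain ⟨N'', hN''⟩ : ∃ N'' : ℕ, μ = μ' ∨ ∀ m ≥ N'', v (P.coeff μ * x μ ^ m) ≠ v (Q.coeff μ' * x μ' ^ m) := by
    by_cases h : μ = μ'
    · exact ⟨0, Or.inl h⟩
    · obtain ⟨n, hn | hn⟩ := eventually_ne v x hx hμ hμ' h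
      · exact ⟨n, Or.inr fun m hm => (hn m hm).ne⟩
      · exact ⟨n, Or.inr fun m hm => (hn m hm).ne'⟩
  refine ⟨max N (max N' N''), fun m hm R S hS h => ?_⟩
  obtain ⟨P', hP', hPπ⟩ := hN m (le_of_max_le_left hm)
  obtain ⟨Q', hQ', hQπ⟩ := hN' m (le_of_max_le_left (le_of_max_le_right hm))
  set β := P.coeff μ * x μ ^ m
  set β' := Q.coeff μ' * x μ' ^ m
  have hβ : β ≠ 0 := mul_ne_zero hμ (pow_ne_zero m ((Group.isUnit μ).map x).ne_zero)
  have hβ' : β' ≠ 0 := mul_ne_zero hμ' (pow_ne_zero m ((Group.isUnit μ').map x).ne_zero)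
  rw [hP', hQ', mul_smul_comm, smul_mul_assoc, ← map_mul, ← map_mul] at h
  rcases le_or_gt (v (β / β')) 1 with hc | hc
  · obtain ⟨a, ha⟩ := hr _ hc
    have h1 : R * Q' = single 1 a * (P' * S) := hinj (by
      rw [map_mul (mapRingHom C ι) (single 1 a), mapRingHom_single, ha]
      refine (smul_right_injective (MonoidAlgebra K C) hβ') ?_
      show β' • _ = β' • _
      rw [single_one_mul_eq, smul_smul, mul_div_cancel₀ _ hβ']
      exact h)
    have h2 := congrArg (mapRingHom C π) h1
    simp only [map_mul, mapRingHom_single, hPπ, hQπ] at h2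
    rcases hN'' with rfl | hne
    · refine ⟨π a, hcancel μ (h2.trans ?_)⟩
      rw [mul_comm (single μ (1 : k)), ← mul_assoc]
      refine congrArg (· * single μ (1 : k)) (MonoidAlgebra.ext (Finsupp.ext fun c => ?_))
      simp [coeff_single_one_mul]
    · refine ⟨0, hcancel μ' (h2.trans ?_)⟩
      have hlt : v (ι a) < 1 := lt_of_le_of_ne (hl a) fun e => hne m (le_of_max_le_right (le_of_max_le_right hm)) (by
        rw [ha, map_div₀, div_eq_one_iff_eq (by simpa using hβ')] at e
        exact e)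
      rw [hπ a hlt, zero_smul, zero_mul, single_zero, zero_mul]
  · exfalso
    have hc' : v (β' / β) < 1 := by
      rw [← inv_div, map_inv₀]
      exact inv_lt_one_of_one_lt₀ hc
    obtain ⟨a, ha⟩ := hr _ hc'.le
    have h1 : single 1 a * (R * Q') = P' * S := hinj (by
      rw [map_mul (mapRingHom C ι) (single 1 a), mapRingHom_single, ha]
      refine (smul_right_injective (MonoidAlgebra K C) hβ) ?_
      show β • _ = β • _
      rw [single_one_mul_eq, smul_smul, mul_div_cancel₀ _ hβ]
      exact h)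
    have h2 := congrArg (mapRingHom C π) h1
    simp only [map_mul, mapRingHom_single, hPπ, hQπ, hπ a (ha ▸ hc'), single_zero, zero_mul] at h2
    exact hS (hcancel μ (by rw [zero_mul, mul_comm]; exact h2.symm))

end Groth.Agent.Sga3xB

end
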