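import Groth.Agent.Sga3xB.DSImage
import Groth.Agent.Sga3xB.TwistFrac
import Groth.Agent.GrpSchLib.MultTypeLft
import Mathlib.AlgebraicGeometry.ValuativeCriterion
import Mathlib.AlgebraicGeometry.ZariskisMainTheorem
import Mathlib.RingTheory.Valuation.ValuationRing
import Mathlib.Algebra.MonoidAlgebra.NoZeroDivisors

/-!
# Monomorphisms from diagonalisable groups into separated groups

A monomorphism `D(M) → G` with `G` separated, quasi-compact and locally of finite type is a closed immersion
(SGA 3 IX 6.8): if a `K`-point `x` with non-unit valuations had an integral image, the translates `x^m t` would show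
that `u` is constant on the torus over the residue field.
-/

set_option autoImplicit false
set_option linter.style.haveILetI false

universe u

open CategoryTheory CategoryTheory.Limits AlgebraicGeometry MonoidalCategory CartesianMonoidalCategory MonObj GrpObj

noncomputable section

namespace Groth.Agent.Sga3xB

open Groth.Agent.Red23Lib.Pinned Groth.Agent.GrpSchLib Groth.Agent.GrpSchLib.RankOne
open DSPtsLib (spU pt)

variable {S : Scheme.{u}} {M N : Type} [AddCommGroup M] [AddCommGroup N]

section Points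

variable {B B' : Type u} [CommRing B] [CommRing B']

/-- The map of points induced by a ring map. -/
abbrev ptMap (σ : B →+* B') {b : Spec (CommRingCat.of B) ⟶ S} {b' : Spec (CommRingCat.of B') ⟶ S}
    (hb : Spec.map (CommRingCat.ofHom σ) ≫ b = b') : spU b' ⟶ spU b :=
  Over.homMk (Spec.map (CommRingCat.ofHom σ)) hb

variable (b : Spec (CommRingCat.of B) ⟶ S)

/-- The values of the characters at a point. -/
def ev (t : spU b ⟶ Red.DS S M) : Multiplicative M →* B where
  toFun m := sval b (dsCh t m.toAdd : Γ((spU b).left, ⊤))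
  map_one' := by rw [toAdd_one, dsCh_zero, Units.val_one]; exact map_one (sval b)
  map_mul' m n := by rw [toAdd_mul, dsCh_add, Units.val_mul]; exact map_mul (sval b) _ _

theorem ev_pt (f : DSPtsLib.CoordM.{u} M →+* B) (m : Multiplicative M) :
    ev b (pt b f) m = f (MonoidAlgebra.single m 1) := by
  have h := sval_dsCh (pt b f) b (𝟙 _) f (Category.id_comp _) m.toAdd
  simpa [ev] using h

/-- The point with given character values. -/
def mkPt (χ : Multiplicative M →* B) : spU b ⟶ Red.DS S M :=
  pt b (HomMonoLocus.charOf (R := B) χ)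

theorem ev_mkPt (χ : Multiplicative M →* B) : ev b (mkPt b χ) = χ :=
  MonoidHom.ext fun m => (ev_pt b _ m).trans (HomMonoLocus.charOf_single χ m)

variable {b}

theorem ev_ext {t t' : spU b ⟶ Red.DS S M} (h : ∀ m, ev b t m = ev b t' m) : t = t' :=
  dsCh_ext fun m => Units.ext ((sval b).injective (h (Multiplicative.ofAdd m)))

theorem ev_mul (t t' : spU b ⟶ Red.DS S M) (m : Multiplicative M) : ev b (t * t') m = ev b t m * ev b t' m := by
  show sval b (dsCh (t * t') m.toAdd : Γ((spU b).left, ⊤)) = _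
  rw [dsCh_mul, Units.val_mul]
  exact map_mul (sval b) _ _

theorem ev_one (m : Multiplicative M) : ev b (1 : spU b ⟶ Red.DS S M) m = 1 := by
  show sval b (dsCh (1 : spU b ⟶ Red.DS S M) m.toAdd : Γ((spU b).left, ⊤)) = _
  rw [dsCh_one, Units.val_one]
  exact map_one (sval b)

theorem ev_pow (t : spU b ⟶ Red.DS S M) (n : ℕ) (m : Multiplicative M) : ev b (t ^ n) m = ev b t m ^ n := by
  induction n with
  | zero => rw [pow_zero, pow_zero, ev_one]
  | succ n ih => rw [pow_succ, pow_succ, ev_mul, ih]

theorem ev_DSmap (φ : M →+ N) (t : spU b ⟶ Red.DS S N) (m : Multiplicative M) :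
    ev b (t ≫ Red.DSmap S φ) m = ev b t (Multiplicative.ofAdd (φ m.toAdd)) := by
  show sval b (dsCh (t ≫ Red.DSmap S φ) m.toAdd : Γ((spU b).left, ⊤)) = _
  rw [dsCh_DSmap]
  rfl

theorem ev_comp (σ : B →+* B') {b' : Spec (CommRingCat.of B') ⟶ S} (hb : Spec.map (CommRingCat.ofHom σ) ≫ b = b')
    (t : spU b ⟶ Red.DS S M) (m : Multiplicative M) : ev b' (ptMap σ hb ≫ t) m = σ (ev b t m) := by
  obtain ⟨f, rfl⟩ := DSPtsLib.exists_eq_pt b t
  rw [DSPtsLib.pt_comp, ev_pt, ev_pt]
  rfl

end Points

theorem comp_pow' {X Y G : Over S} [GrpObj G] (l : Y ⟶ X) (t : X ⟶ G) (n : ℕ) : l ≫ t ^ n = (l ≫ t) ^ n := by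
  induction n with
  | zero => rw [pow_zero, pow_zero, MonObj.comp_one]
  | succ n ih => rw [pow_succ, pow_succ, MonObj.comp_mul, ih]

theorem pow_comp' {X H G : Over S} [GrpObj H] [GrpObj G] (t : X ⟶ H) (u : H ⟶ G) [IsMonHom u] (n : ℕ) :
    (t ^ n) ≫ u = (t ≫ u) ^ n := by
  induction n with
  | zero => rw [pow_zero, pow_zero, MonObj.one_comp]
  | succ n ih => rw [pow_succ, pow_succ, MonObj.mul_comp _ _ u, ih]

theorem twoUniqueSums_of_fg (Λ : Type) [AddCommGroup Λ] [IsAddTorsionFree Λ] [AddGroup.FG Λ] : TwoUniqueSums Λ :=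
  haveI : Module.Finite ℤ Λ := Module.Finite.iff_addGroup_fg.mpr inferInstance
  TwoUniqueSums.of_injective_addHom ((Module.finBasis ℤ Λ).repr.toAddMonoidHom : Λ →+ (_ →₀ ℤ)).toAddHom
    (Module.finBasis ℤ Λ).repr.injective inferInstance

section Key

open MonoidAlgebra

variable {G : Over S} [GrpObj G]
variable {A : Type u} [CommRing A] [IsDomain A] [ValuationRing A] {K : Type u} [Field K] [Algebra A K]
  [IsFractionRing A K]

set_option maxHeartbeats 1600000 in
/-- A point with injective valuations whose image is integral: the torus is trivial. -/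
theorem eq_zero_of_integral {Λ : Type} [AddCommGroup Λ] [IsAddTorsionFree Λ] [AddGroup.FG Λ]
    [QuasiCompact G.hom] [LocallyOfFiniteType G.hom]
    (u : Red.DS S Λ ⟶ G) [IsMonHom u] [Mono u] (b : Spec (CommRingCat.of A) ⟶ S)
    {bK : Spec (CommRingCat.of K) ⟶ S} (hbK : Spec.map (CommRingCat.ofHom (algebraMap A K)) ≫ b = bK)
    (t : spU bK ⟶ Red.DS S Λ) (gA : spU b ⟶ G) (hg : ptMap (algebraMap A K) hbK ≫ gA = t ≫ u)
    (hinj : ∀ c, ValuationRing.valuation A K (ev bK t c) = 1 → c = 1) (c₀ : Λ) : c₀ = 0 := by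
  classical
  let C := Multiplicative Λ
  haveI := twoUniqueSums_of_fg Λ
  let aK := algebraMap A K
  let k := IsLocalRing.ResidueField A
  let π : A →+* k := IsLocalRing.residue A
  let v := ValuationRing.valuation A K
  let x : C →* K := ev bK t
  have hι : Function.Injective aK := IsFractionRing.injective A K
  have hr : ∀ a : K, v a ≤ 1 → ∃ a', aK a' = a := fun a h => (ValuationRing.mem_integer_iff A K a).mp h
  have hl : ∀ a, v (aK a) ≤ 1 := fun a => (ValuationRing.mem_integer_iff A K _).mpr ⟨a, rfl⟩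
  have hπ : ∀ a, v (aK a) < 1 → π a = 0 := fun a h => by
    by_contra h0
    obtain ⟨w, rfl⟩ := (IsLocalRing.residue_ne_zero_iff_isUnit a).mp h0
    have h1 : v (aK w) * v (aK ↑w⁻¹) = 1 := by rw [← map_mul, ← map_mul, Units.mul_inv, map_one, map_one]
    exact absurd h1 (ne_of_lt (lt_of_le_of_lt (mul_le_mul_right (hl _) _) (by rwa [_root_.mul_one])))
  -- the rings
  let RA := MonoidAlgebra A C
  let RK := MonoidAlgebra K C
  let Rk := MonoidAlgebra k C
  let L := FractionRing RK
  let kL := FractionRing Rk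
  let πR : RA →+* Rk := mapRingHom C π
  let P : Ideal RA := RingHom.ker πR
  haveI : P.IsPrime := RingHom.ker_isPrime πR
  let A' := Localization.AtPrime P
  let lA : A →+* A' := (algebraMap RA A').comp MonoidAlgebra.singleOneRingHom
  let b' : Spec (CommRingCat.of A') ⟶ S := Spec.map (CommRingCat.ofHom lA) ≫ b
  let res : A' →+* kL := IsLocalization.lift (M := P.primeCompl) (g := (algebraMap Rk kL).comp πR) fun y =>
    isUnit_iff_ne_zero.mpr ((IsFractionRing.to_map_eq_zero_iff (K := kL)).not.mpr fun h => y.2 (RingHom.mem_ker.mpr h))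
  have hres : ∀ y, res (algebraMap RA A' y) = algebraMap Rk kL (πR y) := fun y => IsLocalization.lift_eq _ _
  -- the inverse twists
  let tw (m : ℕ) : RA →+* L := (algebraMap RK L).comp ((twist (x.comp invMonoidHom) m).comp (mapRingHom C aK))
  have htw : ∀ m, Function.Injective (tw m) := fun m => by
    refine (IsFractionRing.injective RK L).comp (Function.Injective.comp ?_ ?_)
    · exact fun p q h => by simpa [twist_inv] using congrArg (twist x m) h
    · exact fun p q h => MonoidAlgebra.ext (Finsupp.ext fun c => hι ((coeff_mapRingHom aK p c).symm.trans ((congrArg (fun z => z.coeff c) h).trans (coeff_mapRingHom aK q c))))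
  let θ (m : ℕ) : A' →+* L := IsLocalization.lift (M := P.primeCompl) (g := tw m) fun y =>
    isUnit_iff_ne_zero.mpr ((map_ne_zero_iff _ (htw m)).mpr fun h => y.2 (by rw [h]; exact zero_mem P))
  have hθ : ∀ m y, θ m (algebraMap RA A' y) = tw m y := fun m y => IsLocalization.lift_eq _ _
  -- the base maps
  let bL : Spec (CommRingCat.of L) ⟶ S :=
    Spec.map (CommRingCat.ofHom ((algebraMap RK L).comp MonoidAlgebra.singleOneRingHom)) ≫ bK
  let bk : Spec (CommRingCat.of kL) ⟶ S :=
    Spec.map (CommRingCat.ofHom ((algebraMap Rk kL).comp (MonoidAlgebra.singleOneRingHom.comp π))) ≫ b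
  have hθA : ∀ m, (θ m).comp lA = ((algebraMap RK L).comp MonoidAlgebra.singleOneRingHom).comp aK := fun m =>
    RingHom.ext fun a => (hθ m _).trans (by
      show algebraMap RK L (twist _ m (mapRingHom C aK (single 1 a))) = algebraMap RK L (single 1 (aK a))
      rw [mapRingHom_single, twist_single, map_one, one_pow, _root_.mul_one])
  have hbθ : ∀ m, Spec.map (CommRingCat.ofHom (θ m)) ≫ b' = bL := fun m => by
    show _ ≫ Spec.map (CommRingCat.ofHom lA) ≫ b = _
    rw [← Category.assoc, ← Spec.map_comp, ← CommRingCat.ofHom_comp, hθA, CommRingCat.ofHom_comp, Spec.map_comp,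
      Category.assoc, hbK]
  have hresA : res.comp lA = (algebraMap Rk kL).comp (MonoidAlgebra.singleOneRingHom.comp π) :=
    RingHom.ext fun a => (hres _).trans (congrArg (algebraMap Rk kL) (mapRingHom_single π 1 a))
  have hbr : Spec.map (CommRingCat.ofHom res) ≫ b' = bk := by
    show _ ≫ Spec.map (CommRingCat.ofHom lA) ≫ b = _
    rw [← Category.assoc, ← Spec.map_comp, ← CommRingCat.ofHom_comp, hresA]
  -- the translates of the generic point
  let tA : spU b' ⟶ Red.DS S Λ := mkPt b' ((algebraMap RA A').toMonoidHom.comp (MonoidAlgebra.of A C))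
  let tL : spU bL ⟶ Red.DS S Λ := mkPt bL ((algebraMap RK L).toMonoidHom.comp (MonoidAlgebra.of K C))
  let g' : spU b' ⟶ G := ptMap lA rfl ≫ gA
  let z (m : ℕ) : spU b' ⟶ G := g' ^ m * (tA ≫ u)
  let bridge : spU bL ⟶ spU bK := ptMap ((algebraMap RK L).comp MonoidAlgebra.singleOneRingHom) rfl
  have hzL : ∀ m, ptMap (θ m) (hbθ m) ≫ z m = tL ≫ u := by
    intro m
    have e1 : ptMap (θ m) (hbθ m) ≫ g' = (bridge ≫ t) ≫ u := by
      rw [Category.assoc, ← hg]
      simp only [g', bridge, ← Category.assoc]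
      congr 1
      refine Over.OverMorphism.ext ?_
      simp only [Over.comp_left, Over.homMk_left, ← Spec.map_comp, ← CommRingCat.ofHom_comp]
      rw [hθA]
    rw [MonObj.comp_mul, comp_pow', e1, ← pow_comp' (bridge ≫ t) u, ← Category.assoc, ← MonObj.mul_comp _ _ u]
    refine congrArg (· ≫ u) (ev_ext fun c => ?_)
    rw [ev_mul, ev_pow, ev_comp, ev_comp, ev_mkPt, ev_mkPt]
    show (algebraMap RK L (single 1 (x c))) ^ m * θ m (algebraMap RA A' (single c 1)) = algebraMap RK L (single c 1)
    rw [hθ]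
    show _ * algebraMap RK L (twist _ m (mapRingHom C aK (single c 1))) = _
    rw [mapRingHom_single, map_one, twist_single, ← map_pow, ← map_mul, single_pow, one_pow, single_mul_single,
      _root_.one_mul, _root_.one_mul, MonoidHom.comp_apply, invMonoidHom_apply, ← mul_pow, ← map_mul, mul_inv_cancel, map_one,
      one_pow]
  -- affine opens
  let p₀ := b (IsLocalRing.closedPoint A)
  obtain ⟨W, hW, hpW, -⟩ := exists_isAffineOpen_mem_and_subset (show p₀ ∈ (⊤ : S.Opens) from trivial)
  have hWtop : b ⁻¹ᵁ W = ⊤ := Scheme.preimage_eq_top_of_closedPoint_mem b hpW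
  obtain ⟨F, hF, hFU⟩ := (isCompact_iff_finite_and_eq_biUnion_affineOpens (U := G.hom ⁻¹ᵁ W)).mp
    (QuasiCompact.isCompact_preimage (f := G.hom) (W : Set S) W.2 hW.isCompact)
  have hFU' : ∀ y, y ∈ G.hom ⁻¹ᵁ W ↔ ∃ i ∈ F, y ∈ (i : G.left.Opens) := fun y => by
    rw [hFU]; simp [TopologicalSpace.Opens.mem_iSup]
  have hin : ∀ m, ∃ V : F, (z m).left (IsLocalRing.closedPoint A') ∈ (V.1 : G.left.Opens) := by
    intro m
    have h1 : (z m).left (IsLocalRing.closedPoint A') ∈ G.hom ⁻¹ᵁ W := by
      have h2 := congrArg (fun f : Spec (CommRingCat.of A') ⟶ S => f (IsLocalRing.closedPoint A')) (Over.w (z m))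
      refine Eq.mpr (congrArg (fun y => y ∈ W) h2) ?_
      show Spec.map (CommRingCat.ofHom lA) (IsLocalRing.closedPoint A') ∈ b ⁻¹ᵁ W
      rw [hWtop]
      trivial
    obtain ⟨V, hV, hm⟩ := (hFU' _).mp h1
    exact ⟨⟨V, hV⟩, hm⟩
  choose Vm hVm using hin
  haveI := hF.to_subtype
  obtain ⟨V, hV⟩ := Finite.exists_infinite_fiber Vm
  rw [Set.infinite_coe_iff] at hV
  have hVle : (V.1 : G.left.Opens) ≤ G.hom ⁻¹ᵁ W := fun y hy => (hFU' y).mpr ⟨V.1, V.2, hy⟩
  have hVa : IsAffineOpen (V.1 : G.left.Opens) := V.1.2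
  have hψ : ∀ m ∈ Vm ⁻¹' {V}, ∃ ψ : Γ(G.left, (V.1 : G.left.Opens)) →+* A',
      Spec.map (CommRingCat.ofHom ψ) ≫ hVa.fromSpec = (z m).left := by
    intro m hm
    have hr' : Set.range (z m).left ⊆ Set.range hVa.fromSpec := by
      rw [hVa.range_fromSpec]
      rintro _ ⟨y, rfl⟩
      have := Scheme.preimage_eq_top_of_closedPoint_mem (R := CommRingCat.of A') (z m).left
        (show _ ∈ (V.1 : G.left.Opens) from hm ▸ hVm m)
      exact this.symm.le (TopologicalSpace.Opens.mem_top y)
    exact ⟨(Spec.preimage (IsOpenImmersion.lift hVa.fromSpec (z m).left hr')).hom, by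
      rw [CommRingCat.ofHom_hom, Spec.map_preimage, IsOpenImmersion.lift_fac]⟩
  obtain ⟨m₀, hm₀⟩ := hV.nonempty
  obtain ⟨ψ₀, hψ₀⟩ := hψ m₀ hm₀
  let φ := (θ m₀).comp ψ₀
  -- eventually constant reduction
  have hN : ∀ a : Γ(G.left, (V.1 : G.left.Opens)), ∃ N : ℕ, ∀ m ≥ N, ∀ ψ : Γ(G.left, (V.1 : G.left.Opens)) →+* A',
      Spec.map (CommRingCat.ofHom ψ) ≫ hVa.fromSpec = (z m).left →
      ∃ β : k, res (ψ a) = algebraMap Rk kL (single 1 β) := by
    intro a
    obtain ⟨p, q, hq, hpq⟩ := IsFractionRing.div_surjective RK (φ a)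
    obtain ⟨N, hN⟩ := exists_const v x hinj aK π hι hr hl hπ p (nonZeroDivisors.ne_zero hq)
    refine ⟨N, fun m hm ψ hψm => ?_⟩
    have hφ : (θ m).comp ψ = φ := by
      refine congrArg CommRingCat.Hom.hom (Spec.map_injective (?_ :
        Spec.map (CommRingCat.ofHom ((θ m).comp ψ)) = Spec.map (CommRingCat.ofHom φ)))
      rw [← cancel_mono hVa.fromSpec, CommRingCat.ofHom_comp, CommRingCat.ofHom_comp, Spec.map_comp, Spec.map_comp,
        Category.assoc, Category.assoc, hψm, hψ₀]
      exact (congrArg CommaMorphism.left ((hzL m).trans (hzL m₀).symm))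
    obtain ⟨⟨R, S'⟩, hRS⟩ := IsLocalization.surj P.primeCompl (ψ a)
    have e : tw m R * algebraMap RK L q = algebraMap RK L p * tw m S' := by
      rw [← hθ, ← hθ, ← hRS, map_mul, show θ m (ψ a) = φ a from RingHom.congr_fun hφ a, ← hpq]
      have hq0 : algebraMap RK L q ≠ 0 := IsFractionRing.to_map_ne_zero_of_mem_nonZeroDivisors hq
      rw [div_mul_eq_mul_div, div_mul_cancel₀ _ hq0]
    simp only [tw, RingHom.comp_apply, ← map_mul] at e
    have e' := congrArg (twist x m) (IsFractionRing.injective RK L e)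
    rw [map_mul, map_mul, twist_inv, twist_inv] at e'
    have hS' : πR S' ≠ 0 := fun h => S'.2 (RingHom.mem_ker.mpr h)
    obtain ⟨β, hβ⟩ := hN m hm R S' hS' e'
    refine ⟨β, ?_⟩
    have h2 := congrArg res hRS
    rw [map_mul, hres, hres, show πR R = β • πR S' from hβ, ← single_one_mul_eq, map_mul] at h2
    exact mul_right_cancel₀ ((IsFractionRing.to_map_eq_zero_iff (K := kL)).not.mpr hS') h2
  -- choose a translate
  have hft := LocallyOfFiniteType.finiteType_appLE (f := G.hom) hW hVa hVle
  algebraize [(G.hom.appLE W V.1 hVle).hom]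
  obtain ⟨gens, hgens⟩ := hft.out
  choose N hN using hN
  obtain ⟨m, hm, hmN⟩ := hV.exists_gt (gens.sup N)
  obtain ⟨ψ, hψm⟩ := hψ m hm
  -- doubling the characters
  let d : Rk →+* Rk := mapDomainRingHom k ((powMonoidHom 2 : C →* C))
  have hd : Function.Injective d := by
    refine MonoidAlgebra.mapDomain_injective (fun (c c' : C) (h : (powMonoidHom 2 : C →* C) c = powMonoidHom 2 c') => ?_)
    exact pow_left_injective two_ne_zero h
  let dL : kL →+* kL := IsFractionRing.map (K := kL) (L := kL) hd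
  have hdL : ∀ y, dL (algebraMap Rk kL y) = algebraMap Rk kL (d y) := fun y => IsLocalization.map_eq _ _
  have hd1 : ∀ β : k, d (single 1 β) = single 1 β := fun β => by
    show MonoidAlgebra.mapDomain (powMonoidHom 2 : C →* C) (single 1 β) = _
    rw [mapDomain_single, map_one]
  have hbd : Spec.map (CommRingCat.ofHom dL) ≫ bk = bk := by
    show _ ≫ Spec.map _ ≫ b = _
    rw [← Category.assoc, ← Spec.map_comp, ← CommRingCat.ofHom_comp]
    congr 3
    exact RingHom.ext fun a => (hdL _).trans (congrArg _ (hd1 (π a)))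
  let sd : spU bk ⟶ spU bk := ptMap dL hbd
  let r : spU bk ⟶ spU b' := ptMap res hbr
  have hbase : ψ.comp (G.hom.appLE W V.1 hVle).hom = lA.comp
      (Spec.preimage (IsOpenImmersion.lift hW.fromSpec b (by
        rw [hW.range_fromSpec]; rintro _ ⟨y, rfl⟩; exact hWtop.symm.le (TopologicalSpace.Opens.mem_top y)))).hom := by
    refine congrArg CommRingCat.Hom.hom (Spec.map_injective (?_ :
      Spec.map (CommRingCat.ofHom _) = Spec.map (CommRingCat.ofHom _)))
    rw [← cancel_mono hW.fromSpec, CommRingCat.ofHom_comp, CommRingCat.ofHom_comp, Spec.map_comp, Spec.map_comp,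
      Category.assoc, Category.assoc, CommRingCat.ofHom_hom, CommRingCat.ofHom_hom,
      IsAffineOpen.SpecMap_appLE_fromSpec _ hW hVa, Spec.map_preimage, IsOpenImmersion.lift_fac, ← Category.assoc,
      hψm]
    exact Over.w (z m)
  have hfix : (dL.comp res).comp ψ = res.comp ψ := by
    refine RingHom.ext fun a => ?_
    have ha : a ∈ Algebra.adjoin Γ(S, W) (gens : Set Γ(G.left, (V.1 : G.left.Opens))) := hgens ▸ Algebra.mem_top
    induction ha using Algebra.adjoin_induction with
    | mem a ha =>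
      obtain ⟨β, hβ⟩ := hN a m ((Finset.le_sup ha).trans hmN.le) ψ hψm
      show dL (res (ψ a)) = res (ψ a)
      rw [hβ, hdL, hd1]
    | algebraMap w =>
      have h := RingHom.congr_fun hbase w
      show dL (res (ψ (algebraMap _ _ w))) = res (ψ (algebraMap _ _ w))
      rw [RingHom.algebraMap_toAlgebra]
      show dL (res (ψ ((G.hom.appLE W V.1 hVle).hom w))) = res (ψ ((G.hom.appLE W V.1 hVle).hom w))
      rw [RingHom.comp_apply] at h
      rw [h]
      show dL (res.comp lA _) = res.comp lA _
      rw [hresA]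
      exact (hdL _).trans (congrArg _ (hd1 _))
    | add a a' _ _ h h' => rw [map_add, map_add, h, h']
    | mul a a' _ _ h h' => rw [map_mul, map_mul, h, h']
  have hw : sd ≫ r ≫ z m = r ≫ z m := by
    refine Over.OverMorphism.ext ?_
    simp only [Over.comp_left, sd, r, Over.homMk_left, ← hψm, ← Spec.map_comp_assoc, ← CommRingCat.ofHom_comp]
    rw [← RingHom.comp_assoc, hfix]
  have hg' : sd ≫ r ≫ g' = r ≫ g' := by
    show sd ≫ r ≫ ptMap lA _ ≫ gA = r ≫ ptMap lA _ ≫ gA
    rw [← Category.assoc r, ← Category.assoc sd]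
    congr 1
    refine Over.OverMorphism.ext ?_
    simp only [Over.comp_left, sd, r, Over.homMk_left, ← Spec.map_comp, ← CommRingCat.ofHom_comp]
    congr 2
    rw [hresA]
    exact RingHom.ext fun a => (hdL _).trans (congrArg _ (hd1 (π a)))
  rw [show z m = g' ^ m * (tA ≫ u) from rfl, MonObj.comp_mul, MonObj.comp_mul, comp_pow', comp_pow', hg',
    mul_right_inj] at hw
  have h3 : sd ≫ r ≫ tA = r ≫ tA := by
    rw [← cancel_mono u]
    simp only [Category.assoc]
    exact hw
  have h4 := congrArg (fun y => ev bk y (Multiplicative.ofAdd c₀)) h3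
  simp only [sd, r, ev_comp, tA, ev_mkPt] at h4
  replace h4 : dL (res (algebraMap RA A' (single (Multiplicative.ofAdd c₀) 1))) =
      res (algebraMap RA A' (single (Multiplicative.ofAdd c₀) 1)) := h4
  rw [hres, show πR (single _ 1) = single (Multiplicative.ofAdd c₀) 1 from
    (mapRingHom_single π _ _).trans (by rw [map_one]), hdL] at h4
  have h5 : (Multiplicative.ofAdd c₀) ^ 2 = Multiplicative.ofAdd c₀ := by
    have h6 := IsFractionRing.injective Rk kL h4
    rw [show d (single _ 1) = single ((Multiplicative.ofAdd c₀) ^ 2) 1 from mapDomain_single ..] at h6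
    exact MonoidAlgebra.single_left_injective one_ne_zero h6
  have h7 : Multiplicative.ofAdd c₀ = 1 := by rwa [pow_two, mul_eq_left] at h5
  exact congrArg Multiplicative.toAdd h7

end Key

/-- A monomorphism from a diagonalisable group of finite type into a separated quasi-compact group locally of finite
type is a closed immersion. -/
theorem isClosedImmersion_of_mono_DS_sep {G : Over S} [GrpObj G] [AddGroup.FG M] [IsSeparated G.hom]
    [QuasiCompact G.hom] [LocallyOfFiniteType G.hom] (u : Red.DS S M ⟶ G) [IsMonHom u] [Mono u] :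
    IsClosedImmersion u.left := by
  haveI := isAffineHom_DS (S := S) (M := M)
  haveI := MultTypeLft.lft_DS S M
  haveI : QuasiCompact (u.left ≫ G.hom) := by rw [Over.w u]; infer_instance
  haveI : QuasiCompact u.left := QuasiCompact.of_comp u.left G.hom
  haveI : IsSeparated (u.left ≫ G.hom) := by rw [Over.w u]; infer_instance
  haveI : IsSeparated u.left := IsSeparated.of_comp u.left G.hom
  haveI : LocallyOfFiniteType (u.left ≫ G.hom) := by rw [Over.w u]; infer_instance
  haveI : LocallyOfFiniteType u.left := locallyOfFiniteType_of_comp u.left G.hom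
  haveI : Mono u.left := Over.mono_left_of_mono u
  suffices h : UniversallyClosed u.left from
    (IsClosedImmersion.iff_isProper_and_mono u.left).mpr ⟨{ }, inferInstance⟩
  refine UniversallyClosed.of_valuativeCriterion u.left fun sq => ?_
  obtain ⟨A, K, i₁, i₂, hsq⟩ := sq
  let aK := algebraMap A K
  let v := ValuationRing.valuation A K
  let b : Spec (CommRingCat.of A) ⟶ S := i₂ ≫ G.hom
  let bK : Spec (CommRingCat.of K) ⟶ S := Spec.map (CommRingCat.ofHom aK) ≫ b
  let gA : spU b ⟶ G := Over.homMk i₂ rfl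
  let t : spU bK ⟶ Red.DS S M := Over.homMk i₁ (by
    show i₁ ≫ (Red.DS S M).hom = Spec.map (CommRingCat.ofHom aK) ≫ i₂ ≫ G.hom
    rw [← Category.assoc, ← hsq.w, Category.assoc, Over.w u])
  have hg : ptMap aK rfl ≫ gA = t ≫ u := Over.OverMorphism.ext hsq.w.symm
  let x : Multiplicative M →* K := ev bK t
  -- split off the characters with unit values
  let M₀ : AddSubgroup M :=
  { carrier := {m | v (x (Multiplicative.ofAdd m)) = 1}
    zero_mem' := by simp
    add_mem' := by
      intro a c (ha : v _ = 1) (hc : v _ = 1)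
      show v (x (Multiplicative.ofAdd (a + c))) = 1
      rw [ofAdd_add, map_mul, map_mul, ha, hc, _root_.one_mul]
    neg_mem' := by
      intro a (ha : v _ = 1)
      show v (x (Multiplicative.ofAdd (-a))) = 1
      have h : v (x (Multiplicative.ofAdd (-a))) * v (x (Multiplicative.ofAdd a)) = 1 := by
        rw [← map_mul, ← map_mul, ← ofAdd_add, neg_add_cancel, ofAdd_zero, map_one, map_one]
      rwa [ha, _root_.mul_one] at h }
  haveI : IsAddTorsionFree (M ⧸ M₀) := by
    refine IsAddTorsionFree.of_not_isOfFinAddOrder fun a ha hfin => ?_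
    obtain ⟨a, rfl⟩ := QuotientAddGroup.mk_surjective a
    obtain ⟨n, hn, h⟩ := isOfFinAddOrder_iff_nsmul_eq_zero.mp hfin
    rw [← QuotientAddGroup.mk_nsmul, QuotientAddGroup.eq_zero_iff] at h
    replace h : v (x (Multiplicative.ofAdd (n • a))) = 1 := h
    rw [ofAdd_nsmul, map_pow, map_pow, pow_eq_one_iff] at h
    replace h := h.resolve_right hn.ne'
    exact ha ((QuotientAddGroup.eq_zero_iff a).mpr h)
  haveI := addGroupFG_quotient M₀
  haveI : Module.Finite ℤ (M ⧸ M₀) := Module.Finite.iff_addGroup_fg.mpr inferInstance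
  obtain ⟨σ, hσ⟩ := Module.projective_lifting_property (QuotientAddGroup.mk' M₀).toIntLinearMap LinearMap.id
    (QuotientAddGroup.mk'_surjective M₀)
  have hσ' : ∀ y, QuotientAddGroup.mk' M₀ (σ y) = y := fun y => LinearMap.congr_fun hσ y
  let mk := QuotientAddGroup.mk' M₀
  let x₀ : Multiplicative M →* K :=
  { toFun := fun m => x (Multiplicative.ofAdd (m.toAdd - σ (mk m.toAdd)))
    map_one' := by simp
    map_mul' := fun a c => by rw [← map_mul, ← ofAdd_add, toAdd_mul, map_add, map_add]; congr 2; abel }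
  have hx₀ : ∀ m, ∃ a : A, aK a = x₀ m := fun m => (ValuationRing.mem_integer_iff A K _).mp (le_of_eq (by
    show m.toAdd - σ (mk m.toAdd) ∈ M₀
    rw [← QuotientAddGroup.eq_zero_iff]
    show mk _ = 0
    rw [map_sub, hσ', sub_self]))
  choose xA hxA using hx₀
  let χA : Multiplicative M →* A :=
  { toFun := xA
    map_one' := IsFractionRing.injective A K (by rw [map_one, hxA, map_one])
    map_mul' := fun a c => IsFractionRing.injective A K (by rw [map_mul, hxA, hxA, hxA, map_mul]) }
  let t' : spU bK ⟶ Red.DS S (M ⧸ M₀) :=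
    mkPt bK (x.comp (AddMonoidHom.toMultiplicative σ.toAddMonoidHom))
  have ht : t = (ptMap aK rfl ≫ mkPt b χA) * (t' ≫ Red.DSmap S mk) := ev_ext fun m => by
    rw [ev_mul, ev_comp, ev_DSmap, ev_mkPt, ev_mkPt]
    refine Eq.trans ?_ (congrArg (· * x (Multiplicative.ofAdd (σ (mk m.toAdd)))) (hxA m).symm)
    show x m = x₀ m * _
    show x m = x (Multiplicative.ofAdd (m.toAdd - σ (mk m.toAdd))) * _
    rw [← map_mul, ← ofAdd_add, sub_add_cancel, ofAdd_toAdd]
  haveI : IsMonHom (Red.DSmap S mk) := isMonHom_DSmap _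
  haveI := mono_DSmap_of_surjective (S := S) mk (QuotientAddGroup.mk'_surjective M₀)
  -- the rest is trivial
  have hzero : ∀ y : M ⧸ M₀, y = 0 := eq_zero_of_integral (A := A) (K := K) (Red.DSmap S mk ≫ u) b rfl t'
    ((mkPt b χA ≫ u)⁻¹ * gA) (by
      rw [MonObj.comp_mul, GrpObj.comp_inv, hg, ht, MonObj.mul_comp _ _ u, Category.assoc, Category.assoc,
        inv_mul_cancel_left])
    (fun c hc => by
      rw [ev_mkPt] at hc
      replace hc : σ c.toAdd ∈ M₀ := hc
      rw [← QuotientAddGroup.eq_zero_iff] at hc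
      have h2 := hσ' c.toAdd
      rw [show mk (σ c.toAdd) = 0 from hc] at h2
      exact Multiplicative.toAdd.injective h2.symm)
  have ht' : t' = 1 := ev_ext fun c => by
    rw [ev_one, ev_mkPt, show c = 1 from Multiplicative.toAdd.injective (hzero c.toAdd), map_one]
  replace ht : t = ptMap aK rfl ≫ mkPt b χA := by
    rw [ht, ht']
    exact ev_ext fun m => by rw [ev_mul, ev_DSmap, ev_one, _root_.mul_one]
  refine ⟨⟨⟨(mkPt b χA).left, ?_, ?_⟩⟩⟩
  · exact (congrArg CommaMorphism.left ht).symm
  · haveI : IsDominant (Spec.map (CommRingCat.ofHom aK)) :=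
      ⟨(PrimeSpectrum.denseRange_comap_iff_ker_le_nilRadical aK).mpr
        (by rw [(RingHom.injective_iff_ker_eq_bot aK).mp (IsFractionRing.injective A K)]; exact bot_le)⟩
    refine ext_of_isDominant_of_isSeparated G.hom ?_ (Spec.map (CommRingCat.ofHom aK)) ?_
    · exact Over.w (mkPt b χA ≫ u)
    · have := congrArg (fun y => (y ≫ u).left) ht
      simp only [Category.assoc, Over.comp_left, Over.homMk_left, t] at this
      rw [← hsq.w, this]

end Groth.Agent.Sga3xB

end
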