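import Groth.Agent.Sga3xB.EtaleKilled
import Groth.Agent.Sga3xB.CentralLift
import Groth.Agent.Sga3xB.CocharExt
import Groth.Agent.MultTransp18.Mono

/-!
# Groups of multiplicative type inherit flatness, and killing integers from their reductions
-/

universe u

set_option autoImplicit false
set_option linter.style.haveILetI false

open CategoryTheory CategoryTheory.Limits AlgebraicGeometry MonoidalCategory CartesianMonoidalCategory MonObj
open TopologicalSpace

noncomputable section

namespace Groth.Agent.Sga3xB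

open Groth.Agent.Red23Lib.Pinned Groth.Agent.DSPtsLib

variable {S : Scheme.{u}}

set_option backward.isDefEq.respectTransparency false in
/-- A group of multiplicative type and of finite type is flat. -/
theorem flat_multTypeFT {H : Over S} [GrpObj H] (hH : SGA3x.IsMultTypeFT H) : Flat H.hom := by
  obtain ⟨S', f, hflat, hsurj, hqc, hloc⟩ := hH
  choose O hO M hM hfg hiso using hloc
  have hcov : FpqcDescLib.Covers f :=
    FpqcDescLib.covers_of_hcov f ⟨S', f, 𝟙 _, Category.id_comp _, hsurj, hflat, hqc⟩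
  refine hcov.descends @Flat H.hom (pullback.snd H.hom f) (pullback.fst H.hom f)
    (IsPullback.of_hasPullback H.hom f).flip ?_
  refine IsZariskiLocalAtTarget.of_forall_exists_morphismRestrict fun s' => ⟨O s', hO s', ?_⟩
  obtain ⟨i⟩ := hiso s'
  haveI := flat_DS (S := (O s' : Scheme.{u})) (M s')
  have H1 : IsPullback ((pullback.snd H.hom f ⁻¹ᵁ O s').ι ≫ pullback.fst H.hom f)
      (pullback.snd H.hom f ∣_ O s') H.hom ((O s').ι ≫ f) :=
    (isPullback_morphismRestrict _ _).flip.paste_horiz (IsPullback.of_hasPullback H.hom f)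
  rw [← H1.isoPullback_hom_snd]
  haveI : IsIso i.hom.hom.hom.left :=
    ⟨i.inv.hom.hom.left, congrArg (fun h => h.hom.hom.left) i.hom_inv_id,
      congrArg (fun h => h.hom.hom.left) i.inv_hom_id⟩
  haveI : Flat (pullback.snd H.hom ((O s').ι ≫ f)) := by
    have hw : i.hom.hom.hom.left ≫ (Red.DS (O s' : Scheme.{u}) (M s')).hom = pullback.snd H.hom ((O s').ι ≫ f) :=
      Over.w i.hom.hom.hom
    rw [← hw]
    infer_instance
  infer_instance

theorem pow_eq_one_of_iso {A B : Over S} (gA : GrpObj A) (gB : GrpObj B) (ψ : Grp.mk A ≅ Grp.mk B)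
    {X : Over S} {N : ℕ} (h : ∀ t : X ⟶ B, t ^ N = 1) (x : X ⟶ A) : x ^ N = 1 := by
  haveI : IsMonHom ψ.hom.hom.hom := ψ.hom.hom.isMonHom_hom
  haveI : IsIso ψ.hom.hom.hom := (((Grp.forget _).mapIso ψ)).isIso_hom
  rw [← cancel_mono ψ.hom.hom.hom, MonObj.pow_comp, MonObj.one_comp]
  exact h _

theorem locKilled_of_iso {A B : Over S} (gA : GrpObj A) (gB : GrpObj B) (ψ : Grp.mk A ≅ Grp.mk B)
    (h : LocKilled B) : LocKilled A := fun s => by
  obtain ⟨V, N, hs, hN, hV⟩ := h s
  exact ⟨V, N, hs, hN, fun X x hX => pow_eq_one_of_iso gA gB ψ (fun t => hV X t hX) x⟩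

/-- The tautological point separates the elements of the character group. -/
theorem eq_zero_of_taut {U : Scheme.{u}} {M : Type} [AddCommGroup M] {F : Type u} [Field F]
    (e : Spec (CommRingCat.of F) ⟶ U) (N : ℕ)
    (h : ∀ t : Over.mk (Spec.map (CommRingCat.ofHom (algebraMap F (MonoidAlgebra F (Multiplicative M)))) ≫ e) ⟶
      Red.DS U M, t ^ N = 1) (m : M) : N • m = 0 := by
  let D : Type u := MonoidAlgebra F (Multiplicative M)
  let X : Over U := Over.mk (Spec.map (CommRingCat.ofHom (algebraMap F D)) ≫ e)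
  let iso := (Scheme.ΓSpecIso (CommRingCat.of D)).inv.hom
  let χ : Multiplicative M →* (Γ(X.left, ⊤))ˣ :=
    (Units.map iso.toMonoidHom).comp (MonoidAlgebra.of F (Multiplicative M)).toHomUnits
  have h1 := congrArg (fun t => (dsCh t m : Γ(X.left, ⊤))) (h (ofCh χ))
  simp only [dsCh_pow, dsCh_ofCh, dsCh_one] at h1
  have h2 : iso (MonoidAlgebra.single (Multiplicative.ofAdd (N • m)) (1 : F)) = iso 1 := h1.trans (map_one iso).symm
  have h3 := (Scheme.ΓSpecIso (CommRingCat.of D)).symm.commRingCatIsoToRingEquiv.injective h2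
  rw [MonoidAlgebra.one_def] at h3
  exact Multiplicative.ofAdd.injective (MonoidAlgebra.single_left_injective (one_ne_zero) h3)

set_option maxHeartbeats 800000 in
/-- Killing integers lift from the reduction modulo a surjective closed immersion. -/
theorem locKilled_of_red {S₀ : Scheme.{u}} (π : S₀ ⟶ S) [IsClosedImmersion π] [Surjective π] {K : Over S} [GrpObj K]
    (hK : SGA3x.IsMultTypeFT K) (h₀ : LocKilled (Red.bc π K)) : LocKilled K := by
  intro s
  obtain ⟨s₀, rfl⟩ := π.surjective s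
  obtain ⟨V₀, N, hs₀, hN, hV₀⟩ := h₀ s₀
  have hbij : Function.Bijective π.base := ⟨π.isClosedEmbedding.injective, π.surjective⟩
  let V : S.Opens := ⟨π.base '' (V₀ : Set S₀), by
    rw [← isClosed_compl_iff, ← Set.image_compl_eq hbij]
    exact π.isClosedEmbedding.isClosedMap _ (isClosed_compl_iff.mpr V₀.2)⟩
  refine ⟨V, N, ⟨s₀, hs₀, rfl⟩, ?_, fun X x hX => ?_⟩
  · rintro _ ⟨t₀, ht₀, rfl⟩ h0
    refine hN t₀ ht₀ ?_
    have := congrArg (π.residueFieldMap t₀).hom h0
    rwa [map_natCast, map_zero] at this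
  obtain ⟨S', f, hflat, hsurj, hqc, hloc⟩ := hK
  have hcov : FpqcDescLib.Covers f :=
    FpqcDescLib.covers_of_hcov f ⟨S', f, 𝟙 _, Category.id_comp _, hsurj, hflat, hqc⟩
  let Z : Over S := Over.mk (pullback.fst X.hom f ≫ X.hom)
  let p : Z ⟶ X := Over.homMk (pullback.fst X.hom f) rfl
  haveI : Epi p := FpqcDescLib.Covers.over_epi (p := p)
    (hcov.pullback X.hom (pullback.fst X.hom f) (pullback.snd X.hom f) (IsPullback.of_hasPullback _ _))
  rw [← cancel_epi p, MonObj.comp_pow, MonObj.comp_one]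
  choose U hU M hM hfg hiso using hloc
  let P : ↥(pullback X.hom f) → (pullback X.hom f).Opens := fun z =>
    pullback.snd X.hom f ⁻¹ᵁ U (pullback.snd X.hom f z)
  have hP : IsOpenCover P := eq_top_iff.mpr fun z _ => Opens.mem_iSup.mpr ⟨z, hU _⟩
  refine Over.OverMorphism.ext ((Z.left.openCoverOfIsOpenCover P hP).hom_ext _ _ fun (z : ↥(pullback X.hom f)) => ?_)
  let s' := pullback.snd X.hom f z
  let g : (U s' : Scheme.{u}) ⟶ S := (U s').ι ≫ f
  obtain ⟨ψ⟩ := hiso s'
  -- the character group is killed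
  have hM0 : ∀ m : M s', N • m = 0 := by
    let u' : (U s' : Scheme.{u}) := ⟨s', hU s'⟩
    let bK := (U s' : Scheme.{u}).fromSpecResidueField u'
    obtain ⟨w⟩ : Nonempty ↥(pullback (bK ≫ g) π) := by
      obtain ⟨t₀, ht₀⟩ := π.surjective ((bK ≫ g) (IsLocalRing.closedPoint _))
      obtain ⟨w, -, -⟩ := Scheme.Pullback.exists_preimage_pullback (f := bK ≫ g) (g := π) _ t₀ ht₀.symm
      exact ⟨w⟩
    let c := (pullback (bK ≫ g) π).fromSpecResidueField w ≫ pullback.snd (bK ≫ g) π
    let e := (pullback (bK ≫ g) π).fromSpecResidueField w ≫ pullback.fst (bK ≫ g) π ≫ bK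
    have hce : e ≫ g = c ≫ π := by simp only [e, c, Category.assoc, pullback.condition]
    refine eq_zero_of_taut (F := (pullback (bK ≫ g) π).residueField w) e N fun t => ?_
    let a := Spec.map (CommRingCat.ofHom (algebraMap ((pullback (bK ≫ g) π).residueField w)
      (MonoidAlgebra ((pullback (bK ≫ g) π).residueField w) (Multiplicative (M s')))))
    refine pow_eq_one_of_iso _ _ ψ.symm (fun t => ?_) t
    apply (theta_bijective (g := g) (H := K)).1
    rw [theta_pow', theta_one']
    let X₀ : Over S₀ := Over.mk (a ≫ c)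
    let i : (Over.map g).obj (Over.mk (a ≫ e)) ⟶ (Over.map π).obj X₀ :=
      Over.homMk (𝟙 _) (by show 𝟙 _ ≫ (a ≫ c) ≫ π = (a ≫ e) ≫ g; simp only [e, c, Category.id_comp, Category.assoc, pullback.condition])
    haveI : IsIso i := by
      haveI : IsIso ((Over.forget S).map i) := inferInstanceAs (IsIso (𝟙 _))
      exact isIso_of_reflects_iso i (Over.forget S)
    obtain ⟨t₀, ht₀⟩ := (theta_bijective (g := π) (H := K)).2 (inv i ≫ theta g t)
    have hrange : Set.range X₀.hom.base ⊆ (V₀ : Set S₀) := by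
      rintro _ ⟨q, rfl⟩
      obtain ⟨v, hv, hvq⟩ : π (c (a q)) ∈ (V : Set S) := by
        rw [← Scheme.Hom.comp_apply, ← hce, Scheme.Hom.comp_apply]
        have e1 : (e (a q)) = u' := by
          show bK _ = u'
          exact Scheme.fromSpecResidueField_apply _ _
        rw [e1]
        show f s' ∈ (V : Set S)
        rw [← Scheme.Hom.comp_apply, ← pullback.condition, Scheme.Hom.comp_apply]
        exact hX ⟨_, rfl⟩
      rwa [hbij.1 hvq] at hv
    have h1 := congrArg (theta π) (hV₀ X₀ t₀ hrange)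
    rw [theta_pow', theta_one', ht₀, ← MonObj.comp_pow] at h1
    exact (cancel_epi (inv i)).mp (h1.trans (MonObj.comp_one (inv i)).symm)
  let Y : Over S := Over.mk ((P z).ι ≫ Z.hom)
  let y : Y ⟶ Z := Over.homMk (P z).ι rfl
  show (y ≫ (p ≫ x) ^ N).left = (y ≫ 1).left
  rw [MonObj.comp_pow, MonObj.comp_one]
  refine congrArg CommaMorphism.left ?_
  let w : Over (U s' : Scheme.{u}) := Over.mk (pullback.snd X.hom f ∣_ U s')
  let i : Y ⟶ (Over.map g).obj w := Over.homMk (𝟙 _) (by
    show 𝟙 _ ≫ (pullback.snd X.hom f ∣_ U s') ≫ (U s').ι ≫ f = (P z).ι ≫ pullback.fst X.hom f ≫ X.hom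
    rw [Category.id_comp, morphismRestrict_ι_assoc, pullback.condition])
  haveI : IsIso i := by
    haveI : IsIso ((Over.forget S).map i) := inferInstanceAs (IsIso (𝟙 _))
    exact isIso_of_reflects_iso i (Over.forget S)
  obtain ⟨y', hy'⟩ := (theta_bijective (g := g) (H := K)).2 (inv i ≫ y ≫ p ≫ x)
  have h1 := congrArg (theta g) (pow_eq_one_of_iso _ _ ψ
    (fun t => dsCh_ext fun m => by rw [dsCh_pow, hM0, dsCh_zero, dsCh_one]) y' : y' ^ N = 1)
  rw [theta_pow', theta_one', hy', ← MonObj.comp_pow] at h1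
  exact (cancel_epi (inv i)).mp (h1.trans (MonObj.comp_one (inv i)).symm)

end Groth.Agent.Sga3xB
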